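import Cfsg.Agent.ChevTori.Group

/-!
Centralisers of sets of diagonal elements (helper56).
-/

set_option autoImplicit false

namespace Cfsg.Agent.ChevTori

open Cfsg.Lie Cfsg.Agent.ChevGroup Cfsg.Agent.ChevCore Cfsg.Agent.ChevFixed Matrix

universe u

variable {D : ChevalleyDatum} (T : Model D) (hU : UGood D) {F : Type u} [Field F] [Fintype F]

include hU

/-- A unipotent element commuting with `S` commutes with every diagonal element trivial on all roots
trivial on `S`. -/
theorem commute_of_commute_U {u t : ↥(D.group F)} (hu : u ∈ (rr T hU).U) (ht : t ∈ (rr T hU).H)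
    {S : Set ↥(D.group F)} (hS : ∀ y ∈ S, y ∈ (rr T hU).H)
    (hdom : ∀ s, (∀ y ∈ S, chi T y s = 1) → chi T t s = 1)
    (e : ∀ y ∈ S, y * u = u * y) : t * u = u * t := by
  have huP : (u : GL D.Idx F) ∈ D.posUnipotent F :=
    T.U_map (relsOfCommGood hU.toCommGood F) ▸ ⟨u, hu, rfl⟩
  obtain ⟨τ, ⟨hτ0, hτ⟩, huniq⟩ := hU.exists_coords huP
  have hconj : ∀ {y : ↥(D.group F)} {c : Fin D.rank → Fˣ}, (y : GL D.Idx F) = tau D F c →
      (y : GL D.Idx F) * (u : GL D.Idx F) * (y : GL D.Idx F)⁻¹ = prodL D F D.posRoots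
        (fun r => if hr : r < D.nroots then (tauW D F c (Sum.inr ⟨r, hr⟩) : F) * τ r else τ r) := by
    intro y c hc
    rw [hc, ← hτ, ← MulAut.conj_apply, prodL, map_list_prod, List.map_map, prodL]
    congr 1
    refine List.map_congr_left fun r hr => ?_
    have hlt : r < D.nroots := (hU.toCommGood.toGood.mem_posRoots.1 hr).1
    simp only [Function.comp_apply, MulAut.conj_apply, dif_pos hlt]
    exact hU.toCommGood.toGood.tau_conj_x c hlt _
  obtain ⟨c, hc⟩ := exists_tau T hU ht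
  have h1 : (fun r => if hr : r < D.nroots then (tauW D F c (Sum.inr ⟨r, hr⟩) : F) * τ r else τ r) = τ := by
    funext r
    by_cases hr : r < D.nroots
    swap
    · rw [dif_neg hr]
    rw [dif_pos hr]
    by_cases hz : τ r = 0
    · rw [hz, mul_zero]
    have h2 := hdom ⟨r, T.n_eq.symm ▸ hr⟩ fun y hy => by
      obtain ⟨c', hc'⟩ := exists_tau T hU (hS y hy)
      have h3 : prodL D F D.posRoots
          (fun r => if hr : r < D.nroots then (tauW D F c' (Sum.inr ⟨r, hr⟩) : F) * τ r else τ r) = u := by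
        rw [← hconj hc', ← Subgroup.coe_mul, e y hy, Subgroup.coe_mul, mul_inv_cancel_right]
      have h4 := congrFun (huniq _ ⟨fun r hr => by
        simp only [hτ0 r hr, mul_zero]
        split <;> rfl, h3⟩) r
      rw [dif_pos hr] at h4
      rw [chi_tau T hc']
      exact (mul_eq_right₀ hz).1 h4
    rw [chi_tau T hc] at h2
    rw [h2, one_mul]
  have h5 := hconj hc
  rw [h1, hτ, mul_inv_eq_iff_eq_mul] at h5
  exact Subtype.ext (by rw [Subgroup.coe_mul, Subgroup.coe_mul]; exact h5)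

variable {w₀ : List (Fin T.tab.l)} (hlong : T.longestB w₀ = true)
  (hspan : Mat.spanB D (T.posList.map Fin.val) = true)
  {wit : List (List (Fin T.tab.l) × Fin T.tab.l)} (hwit : T.witB wit = true)

include hlong hspan hwit

/-- The centraliser of a set of diagonal elements centralises every diagonal element with at least
the same vanishing roots and stabiliser. -/
theorem commute_of_commute {g t : ↥(D.group F)} (ht : t ∈ (rr T hU).H)
    {S : Set ↥(D.group F)} (hS : ∀ y ∈ S, y ∈ (rr T hU).H)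
    (hdom : ∀ s, (∀ y ∈ S, chi T y s = 1) → chi T t s = 1)
    (hstab : ∀ w, (∀ y ∈ S, (rr T hU).nw w * y * ((rr T hU).nw w)⁻¹ = y) →
      (rr T hU).nw w * t * ((rr T hU).nw w)⁻¹ = t)
    (e : ∀ y ∈ S, g * y = y * g) : g * t = t * g := by
  classical
  set K := relsOfCommGood hU.toCommGood F
  set R := rr (F := F) T hU
  obtain ⟨b₁, hb₁, w, hw, b₂, hb₂, rfl⟩ := R.exists_bruhat (g := g)
    ((T.group_top K hwit).symm ▸ Subgroup.mem_top g)
  obtain ⟨u₀, hu₀, hc⟩ := exists_fixed_rep (T.shapeR K) (σ := RingHom.id F)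
    (τ := MonoidHom.id ↥(D.group F)) (fun r t => rfl)
    (fun r t hr => T.pres_posList K hspan r t hr) w hw (b₁ * R.nw w * b₂)
    (mem_cell.2 ⟨b₁, hb₁, QuotientGroup.eq.2 (by
      show (b₁ * R.nw w)⁻¹ * (b₁ * R.nw w * b₂) ∈ R.B
      rw [inv_mul_cancel_left]
      exact hb₂)⟩) rfl
  set b := (u₀ * R.nw w)⁻¹ * (b₁ * R.nw w * b₂)
  have hb : b ∈ R.B := QuotientGroup.eq.1 hc.symm
  have hg : b₁ * R.nw w * b₂ = u₀ * R.nw w * b := (mul_inv_cancel_left _ _).symm
  rw [hg] at e ⊢
  have hu₀U := fixU_le_U (RingHom.id F) w hu₀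
  have hfix : ∀ y ∈ S, R.nw w * y * (R.nw w)⁻¹ = y := fun y hy =>
    conj_key T hU hlong hspan w (hS y hy) (hS y hy) (R.U_le_B hu₀U) hb (e y hy)
  have hlow : ∀ u ∈ fixU R (RingHom.id F) w,
      Uni (fun a => -(T.shapeR K).key a) ((T.shapeR K).mat ((R.nw w)⁻¹ * u * R.nw w)) := by
    intro u hu
    induction hu using Subgroup.closure_induction'' with
    | mem g hg =>
      obtain ⟨r, t, -, hr, hr', rfl⟩ := hg
      obtain ⟨c, hc⟩ := R.nw_inv_conj_x w r t
      rw [hc, ← T.S.neg_neg (T.S.actw w.reverse r)]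
      exact (T.shapeR K).uni_neg _ _ ((T.S.pos_or_neg _).resolve_left hr')
    | inv_mem g hg =>
      obtain ⟨r, t, -, hr, hr', rfl⟩ := hg
      obtain ⟨c, hc⟩ := R.nw_inv_conj_x w r (-t)
      rw [← R.x_neg, hc, ← T.S.neg_neg (T.S.actw w.reverse r)]
      exact (T.shapeR K).uni_neg _ _ ((T.S.pos_or_neg _).resolve_left hr')
    | one =>
      simp only [mul_one, inv_mul_cancel]
      rw [(T.shapeR K).mat_one]
      intro a b _
      simp [Matrix.one_apply]
    | mul g h _ _ hg hh =>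
      have e : (R.nw w)⁻¹ * (g * h) * R.nw w =
          ((R.nw w)⁻¹ * g * R.nw w) * ((R.nw w)⁻¹ * h * R.nw w) := by group
      rw [e, (T.shapeR K).mat_mul]; exact hg.mul hh
  have hu₀S : ∀ y ∈ S, y * u₀ = u₀ * y := by
    intro y hy
    have hyH := hS y hy
    have hN : y * u₀ * y⁻¹ ∈ fixU R (RingHom.id F) w := by
      have h1 := R.conj_mem_uOther_of_scales (g := y)
        (fun s => T.S.pos s ∧ ¬ T.S.pos (T.S.actw w.reverse s))
        (fun s _ => let ⟨a, _, h⟩ := R.H_scales hyH s; ⟨a, h⟩)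
        (u := u₀) ((show fixU R (RingHom.id F) w ≤ Subgroup.closure
          {z | ∃ r t, (T.S.pos r ∧ ¬ T.S.pos (T.S.actw w.reverse r)) ∧ z = R.x r t} from
            Subgroup.closure_mono (by rintro z ⟨r, t, -, hr, hr', hz⟩; exact ⟨r, t, ⟨hr, hr'⟩, hz⟩)) hu₀)
      exact (show Subgroup.closure
          {z | ∃ r t, (T.S.pos r ∧ ¬ T.S.pos (T.S.actw w.reverse r)) ∧ z = R.x r t} ≤
            fixU R (RingHom.id F) w from
            Subgroup.closure_mono (by rintro z ⟨r, t, hr, hz⟩; exact ⟨r, t, rfl, hr.1, hr.2, hz⟩)) h1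
    have hu'' : u₀⁻¹ * (y * u₀ * y⁻¹) ∈ fixU R (RingHom.id F) w := mul_mem (inv_mem hu₀) hN
    have hyw : y * R.nw w = R.nw w * y := by
      have := hfix y hy
      calc y * R.nw w = R.nw w * y * (R.nw w)⁻¹ * R.nw w := by rw [this]
        _ = _ := by group
    have heq : (R.nw w)⁻¹ * (u₀⁻¹ * (y * u₀ * y⁻¹)) * R.nw w = b * y * b⁻¹ * y⁻¹ := by
      have h2 : y * u₀ * R.nw w = u₀ * R.nw w * b * y * b⁻¹ := by
        calc y * u₀ * R.nw w = y * (u₀ * R.nw w * b) * b⁻¹ := by group
          _ = _ := by rw [← e y hy]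
      calc (R.nw w)⁻¹ * (u₀⁻¹ * (y * u₀ * y⁻¹)) * R.nw w
          = (R.nw w)⁻¹ * u₀⁻¹ * (y * u₀ * R.nw w) * (R.nw w)⁻¹ * (y⁻¹ * R.nw w) := by group
        _ = (R.nw w)⁻¹ * u₀⁻¹ * (y * u₀ * R.nw w) * (R.nw w)⁻¹ * (R.nw w * y⁻¹) := by
            rw [show y⁻¹ * R.nw w = R.nw w * y⁻¹ by
              rw [inv_mul_eq_iff_eq_mul, ← mul_assoc, hyw]; group]
        _ = _ := by rw [h2]; group
    have hB : b * y * b⁻¹ * y⁻¹ ∈ R.B :=
      mul_mem (mul_mem (mul_mem hb (R.H_le_B hyH)) (inv_mem hb)) (inv_mem (R.H_le_B hyH))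
    have h3 := hlow _ hu''
    rw [heq] at h3
    have h4 : b * y * b⁻¹ * y⁻¹ = 1 := by
      refine (T.shapeR K).eq_one ?_
      have h5 := (T.shapeR K).tri_of_B hB
      ext i j
      rcases eq_or_ne i j with rfl | hij
      · rw [h3 i i le_rfl]; simp
      · rcases le_total ((T.shapeR K).key i) ((T.shapeR K).key j) with hk | hk
        · rw [h5.1 i j hij hk]; simp [hij]
        · rw [h3 i j (neg_le_neg hk)]; simp [hij]
    rw [h4] at heq
    have h6 : u₀⁻¹ * (y * u₀ * y⁻¹) = 1 := by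
      have := congrArg (fun g => R.nw w * g * (R.nw w)⁻¹) heq
      simpa [mul_assoc] using this
    exact mul_inv_eq_iff_eq_mul.1 (inv_mul_eq_one.1 h6).symm
  obtain ⟨u, hu, k, hk, hbk⟩ := R.mem_B_iff.1 hb
  have huS : ∀ y ∈ S, y * u = u * y := by
    intro y hy
    have hky : k * y = y * k := H_commute T hU hk (hS y hy)
    have h1 : b * y = y * b := by
      have h2 := e y hy
      have hyw : y * R.nw w = R.nw w * y := by
        calc y * R.nw w = R.nw w * y * (R.nw w)⁻¹ * R.nw w := by rw [hfix y hy]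
          _ = _ := by group
      apply mul_left_cancel (a := u₀ * R.nw w)
      calc u₀ * R.nw w * (b * y) = u₀ * R.nw w * b * y := by group
        _ = y * (u₀ * R.nw w * b) := h2
        _ = y * u₀ * R.nw w * b := by group
        _ = u₀ * (y * R.nw w) * b := by rw [hu₀S y hy]; group
        _ = _ := by rw [hyw]; group
    rw [← hbk] at h1
    apply mul_right_cancel (b := k)
    calc y * u * k = y * (u * k) := by group
      _ = u * k * y := h1.symm
      _ = u * (k * y) := by group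
      _ = _ := by rw [hky]; group
  have e1 := commute_of_commute_U T hU hu₀U ht hS hdom hu₀S
  have e2 : t * R.nw w = R.nw w * t := by
    calc t * R.nw w = R.nw w * t * (R.nw w)⁻¹ * R.nw w := by rw [hstab w hfix]
      _ = _ := by group
  have e3 := commute_of_commute_U T hU hu ht hS hdom huS
  have e4 : k * t = t * k := H_commute T hU hk ht
  rw [← hbk]
  calc u₀ * R.nw w * (u * k) * t = u₀ * R.nw w * u * (k * t) := by group
    _ = u₀ * R.nw w * (u * t) * k := by rw [e4]; group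
    _ = u₀ * (R.nw w * t) * u * k := by rw [← e3]; group
    _ = (u₀ * t) * R.nw w * u * k := by rw [← e2]; group
    _ = _ := by rw [← e1]; group

end Cfsg.Agent.ChevTori
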