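import Mathlib

/-!
Integer matrices of finite order with an eigenvalue of given order modulo a prime (helper56).
-/

set_option autoImplicit false

namespace Cfsg.Agent.ChevTori

open Polynomial Matrix

variable {l : ℕ}

theorem aeval_mulVec_eigen {R : Type*} [CommRing R] {A : Matrix (Fin l) (Fin l) R}
    {v : Fin l → R} {c : R} (h : A *ᵥ v = c • v) (f : R[X]) :
    (aeval A f) *ᵥ v = f.eval c • v := by
  induction f using Polynomial.induction_on' with
  | add f g hf hg => rw [map_add, Matrix.add_mulVec, hf, hg, eval_add, add_smul]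
  | monomial n a =>
    rw [aeval_monomial, eval_monomial, ← Matrix.mulVec_mulVec]
    have hp : ∀ k : ℕ, (A ^ k) *ᵥ v = c ^ k • v := by
      intro k
      induction k with
      | zero => simp
      | succ k ih => rw [pow_succ, ← Matrix.mulVec_mulVec, h, Matrix.mulVec_smul, ih, smul_smul, ← pow_succ']
    rw [hp, Matrix.algebraMap_eq_diagonal, mul_smul]
    funext i
    simp [Matrix.mulVec_diagonal]

/-- A matrix of finite order prime to `r`, with an eigenvector modulo `r` for an eigenvalue of order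
`h`, has characteristic polynomial `Φ_h` when its size is `φ(h)`. -/
theorem charpoly_eq_cyclotomic {P : Matrix (Fin l) (Fin l) ℤ} {M r h q : ℕ} [Fact r.Prime]
    (hP : P ^ M = 1) (hrM : ¬ r ∣ M) (hq : orderOf (q : ZMod r) = h)
    {b : Fin l → ZMod r} (hb : b ≠ 0)
    (heig : P.map (Int.cast : ℤ → ZMod r) *ᵥ b = (q : ZMod r) • b) (hl : h.totient = l) :
    P.charpoly = cyclotomic h ℤ := by
  classical
  have hM0 : 0 < M := Nat.pos_of_ne_zero fun e => hrM (e ▸ dvd_zero r)
  have hcast : P.map (Int.cast : ℤ → ZMod r) = (Int.castRingHom (ZMod r)).mapMatrix P := rfl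
  have hpow : (q : ZMod r) ^ M = 1 := by
    have h1 := aeval_mulVec_eigen heig ((X : (ZMod r)[X]) ^ M)
    simp only [map_pow, aeval_X, eval_pow, eval_X] at h1
    rw [hcast, ← map_pow, hP, map_one, Matrix.one_mulVec] at h1
    obtain ⟨i, hi⟩ := Function.ne_iff.1 hb
    have h2 := congrFun h1 i
    simp only [Pi.smul_apply, smul_eq_mul] at h2
    exact (mul_eq_right₀ hi).1 h2.symm
  have hdvd : h ∣ M := hq ▸ orderOf_dvd_of_pow_eq_one hpow
  have hh0 : 0 < h := Nat.pos_of_dvd_of_pos hdvd hM0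
  set f : ℤ[X] := ∏ d ∈ M.divisors.erase h, cyclotomic d ℤ with hf
  have hfac : cyclotomic h ℤ * f = X ^ M - 1 := by
    rw [hf, Finset.mul_prod_erase _ (fun d => cyclotomic d ℤ) (Nat.mem_divisors.2 ⟨hdvd, hM0.ne'⟩),
      prod_cyclotomic_eq_X_pow_sub_one hM0]
  have hfP : aeval P f ≠ 0 := by
    intro e
    have h1 := aeval_mulVec_eigen heig (f.map (Int.castRingHom (ZMod r)))
    have h2 : aeval (P.map (Int.cast : ℤ → ZMod r)) (f.map (Int.castRingHom (ZMod r))) =
        (Int.castRingHom (ZMod r)).mapMatrix (aeval P f) := by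
      rw [hcast, aeval_def, eval₂_map, aeval_def]
      conv_rhs => rw [Polynomial.hom_eval₂]
      congr 1
      exact RingHom.ext_int _ _
    rw [h2, e, map_zero, Matrix.zero_mulVec] at h1
    have h3 : (f.map (Int.castRingHom (ZMod r))).eval (q : ZMod r) ≠ 0 := by
      rw [hf, Polynomial.map_prod, eval_prod, Finset.prod_ne_zero_iff]
      intro d hd h0
      rw [map_cyclotomic] at h0
      obtain ⟨hne, hd'⟩ := Finset.mem_erase.1 hd
      have hdM := (Nat.mem_divisors.1 hd').1
      haveI : NeZero (d : ZMod r) := ⟨fun e' => hrM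
        (((CharP.cast_eq_zero_iff (ZMod r) r d).1 e').trans hdM)⟩
      have h4 : IsPrimitiveRoot (q : ZMod r) d := isRoot_cyclotomic_iff.1 h0
      exact hne (h4.eq_orderOf.trans hq)
    exact hb (smul_eq_zero.1 h1.symm |>.resolve_left h3)
  set PQ : Matrix (Fin l) (Fin l) ℚ := (Int.castRingHom ℚ).mapMatrix P with hPQ
  have hmapQ : ∀ g : ℤ[X], aeval PQ (g.map (Int.castRingHom ℚ)) =
      (Int.castRingHom ℚ).mapMatrix (aeval P g) := by
    intro g
    rw [hPQ, aeval_def, eval₂_map, aeval_def]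
    conv_rhs => rw [Polynomial.hom_eval₂]
    congr 1
    exact RingHom.ext_int _ _
  have hfQ : aeval PQ (f.map (Int.castRingHom ℚ)) ≠ 0 := by
    rw [hmapQ]
    intro e
    apply hfP
    have hinj : Function.Injective ((Int.castRingHom ℚ).mapMatrix : Matrix (Fin l) (Fin l) ℤ →+* _) :=
      Matrix.map_injective Int.cast_injective
    exact hinj (by rw [e, map_zero])
  set μ := minpoly ℚ PQ with hμ
  have h0 : aeval PQ ((cyclotomic h ℤ * f).map (Int.castRingHom ℚ)) = 0 := by
    rw [hfac, hmapQ, map_sub, map_pow, aeval_X, map_one, hP, sub_self, map_zero]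
  have hμ1 : μ ∣ cyclotomic h ℚ * f.map (Int.castRingHom ℚ) := by
    rw [← map_cyclotomic h (Int.castRingHom ℚ), ← Polynomial.map_mul]
    exact minpoly.dvd ℚ PQ h0
  have hirr := cyclotomic.irreducible_rat hh0
  have hΦμ : cyclotomic h ℚ ∣ μ := by
    by_contra hnd
    have hcop : IsCoprime μ (cyclotomic h ℚ) := ((hirr.coprime_iff_not_dvd).2 hnd).symm
    obtain ⟨k, hk⟩ := hcop.dvd_of_dvd_mul_left hμ1
    apply hfQ
    rw [hk, map_mul, hμ, minpoly.aeval, zero_mul]
  have hchar : PQ.charpoly = cyclotomic h ℚ := by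
    refine (Polynomial.eq_of_monic_of_dvd_of_natDegree_le (cyclotomic.monic h ℚ) PQ.charpoly_monic
      (hΦμ.trans (Matrix.minpoly_dvd_charpoly PQ)) ?_)
    rw [PQ.charpoly_natDegree_eq_dim, natDegree_cyclotomic, hl, Fintype.card_fin]
  apply Polynomial.map_injective (Int.castRingHom ℚ) Int.cast_injective
  rw [← Matrix.charpoly_map, map_cyclotomic, ← hchar]
  rfl

/-- An irreducible characteristic polynomial leaves no proper invariant pairing. -/
theorem eq_zero_of_orbit {P : Matrix (Fin l) (Fin l) ℤ} {h : ℕ} (hh : 0 < h)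
    (hP : P.charpoly = cyclotomic h ℤ) {u a : Fin l → ℤ} (ha : a ≠ 0)
    (hz : ∀ i : ℕ, u ⬝ᵥ ((P ^ i) *ᵥ a) = 0) : u = 0 := by
  classical
  set PQ : Matrix (Fin l) (Fin l) ℚ := (Int.castRingHom ℚ).mapMatrix P with hPQ
  have hchar : PQ.charpoly = cyclotomic h ℚ := by
    rw [hPQ, RingHom.mapMatrix_apply, Matrix.charpoly_map, hP, map_cyclotomic]
  let aQ : Fin l → ℚ := fun i => (a i : ℚ)
  let uQ : Fin l → ℚ := fun i => (u i : ℚ)
  have haQ : aQ ≠ 0 := by
    intro e
    exact ha (funext fun i => by simpa [aQ] using congrFun e i)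
  let L : Polynomial.degreeLT ℚ l →ₗ[ℚ] (Fin l → ℚ) :=
    { toFun := fun f => (aeval PQ (f : ℚ[X])) *ᵥ aQ
      map_add' := fun f g => by simp [Matrix.add_mulVec]
      map_smul' := fun c f => by simp [Matrix.smul_mulVec] }
  have hinj : Function.Injective L := by
    rw [← LinearMap.ker_eq_bot, LinearMap.ker_eq_bot']
    intro f hf
    by_contra hne
    have hne' : (f : ℚ[X]) ≠ 0 := fun e => hne (Subtype.ext e)
    have hdeg : (f : ℚ[X]).natDegree < l :=
      (Polynomial.natDegree_lt_iff_degree_lt hne').2 (Polynomial.mem_degreeLT.1 f.2)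
    have hnd : ¬ cyclotomic h ℚ ∣ (f : ℚ[X]) := fun hd => by
      have h1 := Polynomial.natDegree_le_of_dvd hd hne'
      rw [← hchar, PQ.charpoly_natDegree_eq_dim, Fintype.card_fin] at h1
      omega
    obtain ⟨x, y, hxy⟩ := ((cyclotomic.irreducible_rat hh).coprime_iff_not_dvd).2 hnd
    have h2 := congrArg (fun g => (aeval PQ g) *ᵥ aQ) hxy
    simp only [map_add, map_mul, map_one, Matrix.one_mulVec] at h2
    rw [← hchar, Matrix.aeval_self_charpoly, mul_zero, zero_add, ← Matrix.mulVec_mulVec,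
      show (aeval PQ (f : ℚ[X])) *ᵥ aQ = 0 from hf, Matrix.mulVec_zero] at h2
    exact haQ h2.symm
  have hdim : Module.finrank ℚ (Polynomial.degreeLT ℚ l) = Module.finrank ℚ (Fin l → ℚ) :=
    (Polynomial.degreeLTEquiv ℚ l).finrank_eq
  have hsurj := (LinearMap.injective_iff_surjective_of_finrank_eq_finrank hdim).1 hinj
  have hall : ∀ x, uQ ⬝ᵥ x = 0 := by
    intro x
    obtain ⟨f, rfl⟩ := hsurj x
    show uQ ⬝ᵥ ((aeval PQ (f : ℚ[X])) *ᵥ aQ) = 0
    generalize (f : ℚ[X]) = g
    induction g using Polynomial.induction_on' with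
    | add g g' hg hg' => rw [map_add, Matrix.add_mulVec, dotProduct_add, hg, hg', add_zero]
    | monomial n c =>
      rw [aeval_monomial, ← Algebra.smul_def, Matrix.smul_mulVec, dotProduct_smul]
      have hcast : uQ ⬝ᵥ ((PQ ^ n) *ᵥ aQ) = ((u ⬝ᵥ ((P ^ n) *ᵥ a) : ℤ) : ℚ) := by
        rw [hPQ, ← map_pow]
        simp [dotProduct, Matrix.mulVec, uQ, aQ]
      rw [hcast, hz n, Int.cast_zero, smul_zero]
  funext i
  simpa [uQ] using hall (Pi.single i 1)

end Cfsg.Agent.ChevTori
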