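import Cfsg.Agent.Lib.ChevCore.WeylMap
import Cfsg.Agent.Lib.ChevCore.Signs
import Cfsg.Agent.ChevTori.Eigen

/-!
The Weyl group of a model on root coordinates, and stabilisers of regular vectors modulo a prime
(helper56).
-/

set_option autoImplicit false

namespace Cfsg.Agent.ChevTori

open Cfsg.Lie Cfsg.Agent.ChevGroup Cfsg.Agent.ChevCore Matrix

variable {D : ChevalleyDatum} (T : Model D)

/-- The coordinates of a root on the fundamental roots. -/
noncomputable def cf (s : Fin T.tab.n) (j : Fin T.tab.l) : ℤ := coef D s.val j.val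

/-- The value of an integral coweight at a root. -/
noncomputable def ev (a : Fin T.tab.l → ℤ) (s : Fin T.tab.n) : ℤ := ∑ j, cf T s j * a j

/-- The group of root permutations generated by the fundamental reflections. -/
def weyl : Subgroup (Equiv.Perm (Fin T.tab.n)) := Subgroup.closure (Set.range (reflPerm T))

/-- The matrix of a root permutation. -/
noncomputable def Pg (γ : Equiv.Perm (Fin T.tab.n)) : Matrix (Fin T.tab.l) (Fin T.tab.l) ℤ :=
  Matrix.of fun j k => cf T (γ (T.S.simple j)) k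

theorem reflPerm_mem (i : Fin T.tab.l) : reflPerm T i ∈ weyl T :=
  Subgroup.subset_closure ⟨i, rfl⟩

theorem prod_mem_weyl (w : List (Fin T.tab.l)) : (w.map (reflPerm T)).prod ∈ weyl T :=
  list_prod_mem fun x hx => by
    obtain ⟨i, -, rfl⟩ := List.mem_map.1 hx
    exact reflPerm_mem T i

theorem exists_word_of_mem {γ : Equiv.Perm (Fin T.tab.n)} (h : γ ∈ weyl T) :
    ∃ w : List (Fin T.tab.l), γ = (w.map (reflPerm T)).prod := by
  induction h using Subgroup.closure_induction'' with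
  | mem x hx =>
    obtain ⟨i, rfl⟩ := hx
    exact ⟨[i], by simp⟩
  | inv_mem x hx =>
    obtain ⟨i, rfl⟩ := hx
    exact ⟨[i], by simp only [List.map_cons, List.map_nil, List.prod_cons, List.prod_nil, mul_one]; rfl⟩
  | one => exact ⟨[], rfl⟩
  | mul x y _ _ hx hy =>
    obtain ⟨w, rfl⟩ := hx
    obtain ⟨v, rfl⟩ := hy
    exact ⟨w ++ v, by rw [List.map_append, List.prod_append]⟩

theorem weyl_card_dvd {Mx : CoxeterMatrix (Fin T.tab.l)} (hb : braidB T Mx = true) :
    Nat.card (weyl T) ∣ Nat.card Mx.Group := by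
  let φ := Mx.toCoxeterSystem.lift ⟨reflPerm T, isLiftable_reflPerm hb⟩
  refine (Subgroup.card_dvd_of_le (show weyl T ≤ φ.range from ?_)).trans (Subgroup.card_range_dvd φ)
  rw [weyl, Subgroup.closure_le]
  rintro _ ⟨i, rfl⟩
  exact ⟨_, CoxeterSystem.lift_apply_simple _ (isLiftable_reflPerm hb) i⟩

variable {T} (hG : Good D)

include hG

theorem cf_simple (i j : Fin T.tab.l) : cf T (T.S.simple i) j = if j = i then 1 else 0 := by
  rw [cf, T.simple_eq, hG.coef_simple (T.lt_l i) (T.lt_l j)]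
  simp [Fin.ext_iff]

theorem cf_neg (s : Fin T.tab.n) (j : Fin T.tab.l) : cf T (T.S.neg s) j = -cf T s j := by
  rw [cf, T.neg_eq, hG.coef_neg (T.lt s) (T.lt_l j)]
  rfl

theorem cf_refl (i : Fin T.tab.l) (s : Fin T.tab.n) (j : Fin T.tab.l) :
    cf T (T.S.refl i s) j = cf T s j - if j = i then D.cartan i.val s.val else 0 := by
  rw [cf, T.refl_eq, hG.coef_refl (T.lt_l i) (T.lt s) (T.lt_l j)]
  simp [cf, Fin.ext_iff]

theorem cartan_cf (i : Fin T.tab.l) (s : Fin T.tab.n) :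
    D.cartan i.val s.val = ∑ j, cf T s j * D.cartan i.val (T.S.simple j).val := by
  rw [hG.cartan_eq (T.lt s) (T.lt_l i), ← T.l_eq, Finset.sum_range]
  exact Finset.sum_congr rfl fun j _ => by rw [T.simple_eq]; rfl

theorem cf_weyl {γ : Equiv.Perm (Fin T.tab.n)} (hγ : γ ∈ weyl T) :
    ∀ (s : Fin T.tab.n) (k : Fin T.tab.l),
      cf T (γ s) k = ∑ j, cf T s j * cf T (γ (T.S.simple j)) k := by
  have hgen : ∀ (i : Fin T.tab.l) (s : Fin T.tab.n) (k : Fin T.tab.l),
      cf T (reflPerm T i s) k = ∑ j, cf T s j * cf T (reflPerm T i (T.S.simple j)) k := by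
    intro i s k
    show cf T (T.S.refl i s) k = ∑ j, cf T s j * cf T (T.S.refl i (T.S.simple j)) k
    simp only [cf_refl hG, cf_simple hG, mul_sub, Finset.sum_sub_distrib, mul_ite, mul_one, mul_zero,
      Finset.sum_ite_eq, Finset.mem_univ, if_true]
    by_cases hk : k = i
    · simp only [if_pos hk, ← cartan_cf hG i s]
    · simp [hk]
  induction hγ using Subgroup.closure_induction'' with
  | mem x hx =>
    obtain ⟨i, rfl⟩ := hx
    exact hgen i
  | inv_mem x hx =>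
    obtain ⟨i, rfl⟩ := hx
    exact hgen i
  | one =>
    intro s k
    simp [cf_simple hG]
  | mul x y _ _ hx hy =>
    intro s k
    simp only [Equiv.Perm.mul_apply]
    rw [hx]
    simp only [fun j => hy s j, Finset.sum_mul]
    rw [Finset.sum_comm]
    refine Finset.sum_congr rfl fun m _ => ?_
    rw [hx (y (T.S.simple m)), Finset.mul_sum]
    exact Finset.sum_congr rfl fun j _ => by ring

theorem ev_weyl {γ : Equiv.Perm (Fin T.tab.n)} (hγ : γ ∈ weyl T) (a : Fin T.tab.l → ℤ)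
    (s : Fin T.tab.n) : ev T a (γ s) = ∑ j, cf T s j * ev T a (γ (T.S.simple j)) := by
  simp only [ev, fun k => cf_weyl hG hγ s k, Finset.sum_mul, Finset.mul_sum]
  rw [Finset.sum_comm]
  exact Finset.sum_congr rfl fun j _ => Finset.sum_congr rfl fun k _ => by ring

theorem ev_weyl' {γ : Equiv.Perm (Fin T.tab.n)} (hγ : γ ∈ weyl T) (a : Fin T.tab.l → ℤ)
    (s : Fin T.tab.n) : ev T a (γ s) = (cf T s) ⬝ᵥ (Pg T γ *ᵥ a) := by
  rw [ev_weyl hG hγ]
  rfl

theorem ev_simple (a : Fin T.tab.l → ℤ) (i : Fin T.tab.l) : ev T a (T.S.simple i) = a i := by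
  simp [ev, cf_simple hG]

theorem ev_neg (a : Fin T.tab.l → ℤ) {γ : Equiv.Perm (Fin T.tab.n)} (hγ : γ ∈ weyl T)
    (s : Fin T.tab.n) : ev T a (γ (T.S.neg s)) = -ev T a (γ s) := by
  rw [ev_weyl hG hγ, ev_weyl hG hγ a s, ← Finset.sum_neg_distrib]
  exact Finset.sum_congr rfl fun j _ => by rw [cf_neg hG, neg_mul]

theorem Pg_mul {x y : Equiv.Perm (Fin T.tab.n)} (hx : x ∈ weyl T) :
    Pg T (x * y) = Pg T y * Pg T x := by
  ext j k
  show cf T (x (y (T.S.simple j))) k = _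
  rw [cf_weyl hG hx, Matrix.mul_apply]
  rfl

theorem Pg_one : Pg T 1 = 1 := by
  ext j k
  show cf T (T.S.simple j) k = _
  rw [cf_simple hG, Matrix.one_apply]
  simp [eq_comm]

theorem Pg_pow {γ : Equiv.Perm (Fin T.tab.n)} (hγ : γ ∈ weyl T) :
    ∀ m : ℕ, Pg T (γ ^ m) = Pg T γ ^ m
  | 0 => by rw [pow_zero, pow_zero, Pg_one hG]
  | m + 1 => by rw [pow_succ', Pg_mul hG hγ, Pg_pow hγ m, pow_succ]

omit hG in
/-- The stabiliser of a vector modulo `r`. -/
def stab (T : Model D) (b : Fin T.tab.l → ℤ) (r : ℕ) : Subgroup (Equiv.Perm (Fin T.tab.n)) where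
  carrier := {γ | γ ∈ weyl T ∧ ∀ s, (r : ℤ) ∣ ev T b (γ s) - ev T b s}
  one_mem' := ⟨one_mem _, fun s => by simp⟩
  mul_mem' := fun {x y} hx hy => ⟨mul_mem hx.1 hy.1, fun s => by
    have := dvd_add (hx.2 (y s)) (hy.2 s)
    simpa using this⟩
  inv_mem' := fun {x} hx => ⟨inv_mem hx.1, fun s => by
    have h := dvd_neg.2 (hx.2 (x⁻¹ s))
    simpa using h⟩

omit hG in
theorem stab_le (b : Fin T.tab.l → ℤ) (r : ℕ) : stab T b r ≤ weyl T := fun _ h => h.1

omit hG in
open scoped Classical in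
/-- The average of a vector over its stabiliser. -/
noncomputable def avg (T : Model D) (b : Fin T.tab.l → ℤ) (r : ℕ) : Fin T.tab.l → ℤ := fun j =>
  ∑ γ : stab T b r, ev T b (γ.1 (T.S.simple j))

open scoped Classical in
theorem ev_avg (b : Fin T.tab.l → ℤ) (r : ℕ) (s : Fin T.tab.n) :
    ev T (avg T b r) s = ∑ γ : stab T b r, ev T b (γ.1 s) := by
  simp only [fun γ : stab T b r => ev_weyl hG γ.2.1 b s]
  rw [ev]
  simp only [avg, Finset.mul_sum]
  rw [Finset.sum_comm]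

theorem ev_avg_stab (b : Fin T.tab.l → ℤ) (r : ℕ) {δ : Equiv.Perm (Fin T.tab.n)}
    (hδ : δ ∈ stab T b r) (s : Fin T.tab.n) : ev T (avg T b r) (δ s) = ev T (avg T b r) s := by
  classical
  rw [ev_avg hG, ev_avg hG]
  exact Fintype.sum_equiv (Equiv.mulRight ⟨δ, hδ⟩) _ _ fun γ => rfl

theorem ev_avg_dvd (b : Fin T.tab.l → ℤ) (r : ℕ) (s : Fin T.tab.n) :
    (r : ℤ) ∣ ev T (avg T b r) s - (Nat.card (stab T b r) : ℤ) * ev T b s := by
  classical
  rw [ev_avg hG, Nat.card_eq_fintype_card, ← nsmul_eq_mul, ← Finset.card_univ, ← Finset.sum_const,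
    ← Finset.sum_sub_distrib]
  exact Finset.dvd_sum fun γ _ => γ.2.2 s

/-- A root vanishing on `b` vanishes on the average. -/
theorem ev_avg_eq_zero (hwit : ∀ s, ∃ w i, T.S.actw w (T.S.simple i) = s) {b : Fin T.tab.l → ℤ}
    {r : ℕ} {s : Fin T.tab.n} (hs : (r : ℤ) ∣ ev T b s) : ev T (avg T b r) s = 0 := by
  obtain ⟨w, i, hw⟩ := hwit s
  set γ := (w.map (reflPerm T)).prod with hγ
  have hγm : γ ∈ weyl T := prod_mem_weyl T w
  have hγs : γ (T.S.simple i) = s := by rw [hγ, prod_reflPerm, hw]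
  have hρ : γ * reflPerm T i * γ⁻¹ ∈ stab T b r := by
    refine ⟨mul_mem (mul_mem hγm (reflPerm_mem T i)) (inv_mem hγm), fun t => ?_⟩
    obtain ⟨u, rfl⟩ := γ.surjective t
    have e : (γ * reflPerm T i * γ⁻¹) (γ u) = γ (T.S.refl i u) := by
      simp only [Equiv.Perm.mul_apply, Equiv.Perm.coe_inv, Equiv.symm_apply_apply]
      rfl
    rw [e, ev_weyl hG hγm b (T.S.refl i u), ev_weyl hG hγm b u, ← Finset.sum_sub_distrib]
    simp only [cf_refl hG, sub_mul, sub_sub_cancel_left, ite_mul, zero_mul, Finset.sum_neg_distrib,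
      Finset.sum_ite_eq', Finset.mem_univ, if_true, hγs]
    exact dvd_neg.2 (dvd_mul_of_dvd_right hs _)
  have h1 := ev_avg_stab hG b r hρ s
  have e : (γ * reflPerm T i * γ⁻¹) s = γ (T.S.neg (T.S.simple i)) := by
    conv_lhs => rw [← hγs]
    simp only [Equiv.Perm.mul_apply, Equiv.Perm.coe_inv, Equiv.symm_apply_apply]
    rw [← T.S.refl_simple i]
    rfl
  rw [e, ev_neg hG _ hγm, hγs] at h1
  omega

theorem avg_ne_zero {b : Fin T.tab.l → ℤ} {r : ℕ} [Fact r.Prime] (hW : ¬ r ∣ Nat.card (weyl T))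
    (hb : ∃ j, ¬ (r : ℤ) ∣ b j) : avg T b r ≠ 0 := by
  obtain ⟨j, hj⟩ := hb
  intro e
  have h := ev_avg_dvd hG b r (T.S.simple j)
  rw [e, show ev T (0 : Fin T.tab.l → ℤ) (T.S.simple j) = 0 by simp [ev], zero_sub, dvd_neg,
    ev_simple hG] at h
  rcases Int.Prime.dvd_mul' (Fact.out : r.Prime) h with h1 | h1
  · exact hW ((Int.natCast_dvd_natCast.1 h1).trans (Subgroup.card_dvd_of_le (stab_le b r)))
  · exact hj h1

/-- An eigenvector modulo `r` of an element with cyclotomic characteristic polynomial is regular. -/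
theorem regular (hwit : ∀ s, ∃ w i, T.S.actw w (T.S.simple i) = s) {b : Fin T.tab.l → ℤ} {r q h : ℕ}
    [Fact r.Prime] (hW : ¬ r ∣ Nat.card (weyl T)) (hb : ∃ j, ¬ (r : ℤ) ∣ b j)
    {γ : Equiv.Perm (Fin T.tab.n)} (hγ : γ ∈ weyl T) (hh : 0 < h)
    (hchar : (Pg T γ).charpoly = Polynomial.cyclotomic h ℤ)
    (heig : (Pg T γ).map (Int.cast : ℤ → ZMod r) *ᵥ (fun j => (b j : ZMod r)) =
      (q : ZMod r) • fun j => (b j : ZMod r))
    (s : Fin T.tab.n) : ¬ (r : ℤ) ∣ ev T b s := by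
  intro hs
  have hz : ∀ i : ℕ, cf T s ⬝ᵥ ((Pg T γ ^ i) *ᵥ avg T b r) = 0 := by
    intro i
    rw [← Pg_pow hG hγ i, ← ev_weyl' hG (pow_mem hγ i)]
    refine ev_avg_eq_zero hG hwit ?_
    rw [ev_weyl' hG (pow_mem hγ i), Pg_pow hG hγ i, ← ZMod.intCast_zmod_eq_zero_iff_dvd]
    have h1 := aeval_mulVec_eigen heig ((Polynomial.X : Polynomial (ZMod r)) ^ i)
    simp only [map_pow, Polynomial.aeval_X, Polynomial.eval_pow, Polynomial.eval_X] at h1
    have h2 : (((cf T s ⬝ᵥ ((Pg T γ ^ i) *ᵥ b) : ℤ)) : ZMod r) =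
        (fun j => (cf T s j : ZMod r)) ⬝ᵥ ((Pg T γ).map (Int.cast : ℤ → ZMod r) ^ i *ᵥ fun j => (b j : ZMod r)) := by
      rw [show ((Pg T γ).map (Int.cast : ℤ → ZMod r)) = (Int.castRingHom (ZMod r)).mapMatrix (Pg T γ) from rfl,
        ← map_pow]
      simp [dotProduct, Matrix.mulVec]
    rw [h2, h1, dotProduct_smul]
    have h3 : ((ev T b s : ℤ) : ZMod r) = 0 := (ZMod.intCast_zmod_eq_zero_iff_dvd _ _).2 hs
    rw [show (fun j => (cf T s j : ZMod r)) ⬝ᵥ (fun j => (b j : ZMod r)) = ((ev T b s : ℤ) : ZMod r) by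
      simp [ev, dotProduct], h3, smul_zero]
  have h0 := eq_zero_of_orbit hh hchar (avg_ne_zero hG hW hb) hz
  have h1 := hG.ht_ne_zero (T.lt s)
  rw [hG.ht_eq (T.lt s), ← T.l_eq, Finset.sum_range] at h1
  exact h1 (Finset.sum_eq_zero fun j _ => congrFun h0 j)

theorem exists_chamber {a : Fin T.tab.l → ℤ} (ha : ∀ s, ev T a s ≠ 0) :
    ∃ u ∈ weyl T, ∀ s, T.S.pos s → 0 < ev T a (u s) := by
  classical
  let cnt : weyl T → ℕ := fun u =>
    (Finset.univ.filter fun s => T.S.pos s ∧ ev T a (u.1 s) < 0).card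
  obtain ⟨u, -, hu⟩ := Finset.exists_min_image (Finset.univ : Finset (weyl T)) cnt Finset.univ_nonempty
  refine ⟨u.1, u.2, ?_⟩
  by_contra hcon
  push Not at hcon
  obtain ⟨s, hs, hneg⟩ := hcon
  obtain ⟨i, hi⟩ : ∃ i, ev T a (u.1 (T.S.simple i)) < 0 := by
    by_contra hall
    push Not at hall
    have h0 : 0 ≤ ev T a (u.1 s) := by
      rw [ev_weyl hG u.2]
      refine Finset.sum_nonneg fun j _ => mul_nonneg ?_ (hall j)
      exact hG.coef_nonneg (T.lt s) ((hG.isPosRoot_iff (T.lt s)).1 ((T.pos_val s).1 hs)) (T.lt_l j)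
    exact ha (u.1 s) (le_antisymm hneg h0)
  have hle := hu ⟨u.1 * reflPerm T i, mul_mem u.2 (reflPerm_mem T i)⟩ (Finset.mem_univ _)
  have hlt : cnt ⟨u.1 * reflPerm T i, mul_mem u.2 (reflPerm_mem T i)⟩ < cnt u := by
    refine lt_of_le_of_lt (Finset.card_le_card (t := ((Finset.univ.filter fun s =>
      T.S.pos s ∧ ev T a (u.1 s) < 0).erase (T.S.simple i)).image (T.S.refl i)) ?_) ?_
    · intro t ht
      replace ht := (Finset.mem_filter.1 ht).2
      change T.S.pos t ∧ ev T a (u.1 (T.S.refl i t)) < 0 at ht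
      have hne : t ≠ T.S.simple i := by
        rintro rfl
        rw [T.S.refl_simple, ev_neg hG _ u.2] at ht
        omega
      refine Finset.mem_image.2 ⟨T.S.refl i t, Finset.mem_erase.2 ⟨?_, ?_⟩, T.S.refl_refl i t⟩
      · intro e
        have := congrArg (T.S.refl i) e
        rw [T.S.refl_refl, T.S.refl_simple] at this
        exact T.S.not_pos_neg _ (T.S.simple_pos i) (this ▸ ht.1)
      · simp only [Finset.mem_filter, Finset.mem_univ, true_and]
        exact ⟨T.S.refl_pos i t ht.1 hne, ht.2⟩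
    · refine lt_of_le_of_lt Finset.card_image_le (Finset.card_erase_lt_of_mem ?_)
      simp only [Finset.mem_filter, Finset.mem_univ, true_and]
      exact ⟨T.S.simple_pos i, hi⟩
  omega

/-- The stabiliser of a regular vector is trivial. -/
theorem stab_eq_one (hfix : ∀ x ∈ weyl T, (∀ s, T.S.pos s → T.S.pos (x s)) → x = 1)
    {b : Fin T.tab.l → ℤ} {r : ℕ} [Fact r.Prime] (hW : ¬ r ∣ Nat.card (weyl T))
    (hreg : ∀ s, ¬ (r : ℤ) ∣ ev T b s) {γ : Equiv.Perm (Fin T.tab.n)} (hγ : γ ∈ stab T b r) :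
    γ = 1 := by
  have ha : ∀ s, ev T (avg T b r) s ≠ 0 := by
    intro s e
    have h := ev_avg_dvd hG b r s
    rw [show ev T (avg T b r) s = 0 from e, zero_sub, dvd_neg] at h
    rcases Int.Prime.dvd_mul' (Fact.out : r.Prime) h with h1 | h1
    · exact hW ((Int.natCast_dvd_natCast.1 h1).trans (Subgroup.card_dvd_of_le (stab_le b r)))
    · exact hreg s h1
  obtain ⟨u, hu, hpos⟩ := exists_chamber hG ha
  have h1 := hfix (u⁻¹ * γ * u) (mul_mem (mul_mem (inv_mem hu) hγ.1) hu) fun s hs => by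
    refine (T.S.pos_or_neg _).resolve_right fun hn => ?_
    have h2 := hpos _ hn
    rw [ev_neg hG _ hu] at h2
    simp only [Equiv.Perm.mul_apply, Equiv.Perm.coe_inv, Equiv.apply_symm_apply] at h2
    rw [ev_avg_stab hG b r hγ] at h2
    have := hpos s hs
    omega
  rw [mul_assoc, inv_mul_eq_one] at h1
  exact mul_right_cancel ((one_mul u).trans h1).symm

end Cfsg.Agent.ChevTori
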