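import Cfsg.Agent.Lib.ChevCore.BorelMore
import Cfsg.Agent.Lib.ChevCore.SepAll
import Cfsg.Agent.ChevFixed.Field
import Cfsg.Agent.ChevGroup.Mat.Order
import Cfsg.Agent.ChevGroup.Mat.Inst
import Cfsg.Agent.ChevTori.Root

/-!
Torus elements of a Chevalley group over a finite field: characters, the Weyl action, centralisers of
regular elements (helper56).
-/

set_option autoImplicit false

namespace Cfsg.Agent.ChevTori

open Cfsg.Lie Cfsg.Agent.ChevGroup Cfsg.Agent.ChevCore Matrix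

universe u

variable {D : ChevalleyDatum} (T : Model D) (hU : UGood D) {F : Type u} [Field F]

/-- The root relations of the engine. -/
noncomputable abbrev rr : RootRel ↥(D.group F) F T.S := T.rel (relsOfCommGood hU.toCommGood F)

theorem val_x (s : Fin T.tab.n) (t : F) :
    (((rr T hU).x s t : ↥(D.group F)) : GL D.Idx F) = xg D F s.val t := by
  refine Units.ext ?_
  rw [hU.toCommGood.toGood.val_xg]
  rfl

theorem x_inj (s : Fin T.tab.n) {a b : F} (h : (rr T hU).x s a = (rr T hU).x s b) : a = b := by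
  have : (rr T hU).x s (a + -b) = 1 := by
    rw [(rr T hU).x_add, (rr T hU).x_neg, h, mul_inv_cancel]
  have := T.x_ne _ s _ this
  linear_combination this

/-- The character of a diagonal element at a root. -/
noncomputable def chi (t : ↥(D.group F)) (s : Fin T.tab.n) : F :=
  Model.mat t (T.coord s) (T.coord s)

theorem exists_tau {t : ↥(D.group F)} (ht : t ∈ (rr T hU).H) :
    ∃ c, (t : GL D.Idx F) = tau D F c := by
  have h : (t : GL D.Idx F) ∈ D.diagonalSubgroup F :=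
    T.H_map (relsOfCommGood hU.toCommGood F) ▸ ⟨t, ht, rfl⟩
  rw [hU.toCommGood.toGood.diagonalSubgroup_eq_range] at h
  obtain ⟨c, hc⟩ := h
  exact ⟨c, hc.symm⟩

theorem chi_tau {t : ↥(D.group F)} {c : Fin D.rank → Fˣ} (h : (t : GL D.Idx F) = tau D F c)
    (s : Fin T.tab.n) : chi T t s = (tauW D F c (Sum.inr ⟨s.val, T.lt s⟩) : F) := by
  rw [chi, show Model.mat t = ((t : GL D.Idx F) : Matrix D.Idx D.Idx F) from rfl, h, val_tau,
    Model.coord, Matrix.diagonal_apply_eq]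

include hU

theorem conj_x {t : ↥(D.group F)} (ht : t ∈ (rr T hU).H) (s : Fin T.tab.n) (u : F) :
    t * (rr T hU).x s u * t⁻¹ = (rr T hU).x s (chi T t s * u) := by
  obtain ⟨c, hc⟩ := exists_tau T hU ht
  refine Subtype.ext ?_
  rw [Subgroup.coe_mul, Subgroup.coe_mul, Subgroup.coe_inv, val_x, val_x, hc, chi_tau T hc,
    hU.toCommGood.toGood.tau_conj_x c (T.lt s)]

theorem chi_ne_zero {t : ↥(D.group F)} (ht : t ∈ (rr T hU).H) (s : Fin T.tab.n) : chi T t s ≠ 0 := by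
  obtain ⟨c, hc⟩ := exists_tau T hU ht
  rw [chi_tau T hc]
  exact Units.ne_zero _

theorem chi_mul {t t' : ↥(D.group F)} (ht : t ∈ (rr T hU).H) (ht' : t' ∈ (rr T hU).H)
    (s : Fin T.tab.n) : chi T (t * t') s = chi T t s * chi T t' s := by
  obtain ⟨c, hc⟩ := exists_tau T hU ht
  obtain ⟨c', hc'⟩ := exists_tau T hU ht'
  have h : ((t * t' : ↥(D.group F)) : GL D.Idx F) = tau D F (c * c') := by
    rw [Subgroup.coe_mul, hc, hc', map_mul]
  rw [chi_tau T h, chi_tau T hc, chi_tau T hc', ← Units.val_mul]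
  congr 1
  simp [tauW, _root_.mul_zpow, Finset.prod_mul_distrib]

/-- The values of a diagonal element at the fundamental roots. -/
noncomputable def psi : ↥(rr (F := F) T hU).H →* (Fin T.tab.l → Fˣ) :=
  MonoidHom.mk' (fun t j => Units.mk0 (chi T t.1 (T.S.simple j)) (chi_ne_zero T hU t.2 _))
    fun a b => funext fun j => Units.ext (chi_mul T hU a.2 b.2 _)

theorem val_psi (t : ↥(rr (F := F) T hU).H) (j : Fin T.tab.l) :
    (psi T hU t j : F) = chi T t.1 (T.S.simple j) := rfl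

theorem chi_cf (t : ↥(rr (F := F) T hU).H) (s : Fin T.tab.n) :
    chi T t.1 s = ((∏ j, psi T hU t j ^ cf T s j : Fˣ) : F) := by
  obtain ⟨c, hc⟩ := exists_tau T hU t.2
  rw [chi_tau T hc]
  congr 1
  have hψ : ∀ j, psi T hU t j = tauW D F c (Sum.inr ⟨(T.S.simple j).val, T.lt _⟩) := fun j =>
    Units.ext (chi_tau T hc _)
  simp only [hψ, tauW, Sum.elim_inr, ChevCore.prod_zpow', ← _root_.zpow_mul]
  rw [Finset.prod_comm]
  refine Finset.prod_congr rfl fun i _ => ?_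
  rw [← ChevCore.zpow_sum']
  congr 1
  have h1 := cartan_cf (T := T) hU.toCommGood.toGood ⟨i.val, T.l_eq.symm ▸ i.isLt⟩ s
  rw [h1]
  exact Finset.sum_congr rfl fun j _ => mul_comm _ _

theorem psi_injective : Function.Injective (psi (F := F) T hU) := by
  refine (injective_iff_map_eq_one _).2 fun t ht => Subtype.ext (Model.mat_inj ?_)
  ext a b
  rcases eq_or_ne a b with rfl | hab
  swap
  · have : Model.mat t.1 a b = 0 := (T.shapeR _).diag_of_H t.2 a b hab
    rw [this]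
    simp [Model.mat, hab]
  rcases a with i | s
  · rw [T.H_inl _ t.2]
    simp [Model.mat]
  · show chi T t.1 ⟨s.val, T.n_eq.symm ▸ s.isLt⟩ = _
    rw [chi_cf T hU, Finset.prod_eq_one fun j _ => by rw [congrFun ht j]; simp]
    simp [Model.mat]

theorem H_commute {a b : ↥(D.group F)} (ha : a ∈ (rr T hU).H) (hb : b ∈ (rr T hU).H) :
    a * b = b * a :=
  congrArg Subtype.val (psi_injective T hU (a₁ := ⟨a, ha⟩ * ⟨b, hb⟩) (a₂ := ⟨b, hb⟩ * ⟨a, ha⟩)
    (by rw [map_mul, map_mul, mul_comm]))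

/-- The permutation of the roots of a word. -/
def pw (w : List (Fin T.tab.l)) : Equiv.Perm (Fin T.tab.n) := (w.map (reflPerm T)).prod

omit hU in
theorem pw_apply (w : List (Fin T.tab.l)) (s : Fin T.tab.n) : pw T w s = T.S.actw w s :=
  prod_reflPerm T w s

theorem chi_conj (w : List (Fin T.tab.l)) {t : ↥(D.group F)} (ht : t ∈ (rr T hU).H) (s : Fin T.tab.n) :
    chi T ((rr T hU).nw w * t * ((rr T hU).nw w)⁻¹) (T.S.actw w s) = chi T t s := by
  set R := rr (F := F) T hU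
  obtain ⟨e, he, hx⟩ := R.nw_conj w s
  have hne : e ≠ 0 := fun h0 => by simp [h0] at he
  have h1 := conj_x T hU (nw_conj_mem_H R w ht) (T.S.actw w s) (e * 1)
  have h2 : R.nw w * t * (R.nw w)⁻¹ * R.x (T.S.actw w s) (e * 1) * (R.nw w * t * (R.nw w)⁻¹)⁻¹ =
      R.x (T.S.actw w s) (e * chi T t s) := by
    rw [← hx 1, show R.nw w * t * (R.nw w)⁻¹ * (R.nw w * R.x s 1 * (R.nw w)⁻¹) *
        (R.nw w * t * (R.nw w)⁻¹)⁻¹ = R.nw w * (t * R.x s 1 * t⁻¹) * (R.nw w)⁻¹ by group,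
      conj_x T hU ht, mul_one, hx]
  rw [h2] at h1
  have h3 := x_inj T hU _ h1
  rw [mul_one, mul_comm _ e] at h3
  exact (mul_left_cancel₀ hne h3).symm

theorem psi_conj (w : List (Fin T.tab.l)) (t : ↥(rr (F := F) T hU).H) :
    psi T hU ⟨(rr T hU).nw w * t.1 * ((rr T hU).nw w)⁻¹, nw_conj_mem_H _ w t.2⟩ =
      mpow (Pg T (pw T w.reverse)) (psi T hU t) := by
  funext j
  refine Units.ext ?_
  rw [val_psi, mpow_apply]
  have h := chi_conj T hU w t.2 (T.S.actw w.reverse (T.S.simple j))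
  rw [T.S.actw_reverse] at h
  rw [h, chi_cf T hU, ← pw_apply]
  rfl

section weylfix

theorem actw_eq_of_pos (F : Type u) [Field F] {w : List (Fin T.tab.l)} (h : ∀ s, T.S.pos s → T.S.pos (T.S.actw w s))
    (s : Fin T.tab.n) : T.S.actw w s = s := by
  set R := rr (F := F) T hU
  obtain ⟨v, hv, -, -, h', hh', e⟩ := R.exists_red w
  have hact : ∀ r, T.S.actw w r = T.S.actw v r := by
    intro r
    obtain ⟨l, hl, e2⟩ := nw_inv_eq R v
    have hB : R.nw (w ++ v.reverse) ∈ R.B := by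
      rw [R.nw_append, e, show h' * R.nw v * R.nw v.reverse =
        h' * (R.nw v * l⁻¹ * (R.nw v)⁻¹) by rw [e2]; group]
      exact R.H_le_B (mul_mem hh' (nw_conj_mem_H R v (inv_mem hl)))
    have h1 := actw_eq_self_of_H (T.shapeR _) (fun r t => T.x_ne _ r t) hB (T.S.actw v r)
    rwa [T.S.actw_append, T.S.actw_reverse'] at h1
  cases v with
  | nil => exact hact s
  | cons i u =>
    exfalso
    obtain ⟨hp, he⟩ := T.S.red_cons_root hv
    have := h _ hp
    rw [hact, he] at this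
    exact T.S.not_pos_neg _ (T.S.simple_pos i) this

theorem fix_of_pos (F : Type u) [Field F] {x : Equiv.Perm (Fin T.tab.n)} (hx : x ∈ weyl T)
    (h : ∀ s, T.S.pos s → T.S.pos (x s)) : x = 1 := by
  obtain ⟨w, rfl⟩ := exists_word_of_mem T hx
  refine Equiv.ext fun s => ?_
  have := actw_eq_of_pos T hU F (w := w) (fun r hr => by
    have := h r hr; rwa [prod_reflPerm] at this) s
  rw [prod_reflPerm, this]
  rfl

end weylfix

section finite

variable [Fintype F]

theorem pow_card_sub_one {k : ↥(D.group F)} (hk : k ∈ (rr T hU).H) :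
    k ^ (Fintype.card F - 1) = 1 := by
  classical
  have h : (⟨k, hk⟩ : ↥(rr (F := F) T hU).H) ^ (Fintype.card F - 1) = 1 := by
    refine psi_injective T hU ?_
    rw [map_pow, map_one]
    funext j
    rw [Pi.pow_apply, ← Fintype.card_units]
    exact pow_card_eq_one
  exact congrArg Subtype.val h

variable {w₀ : List (Fin T.tab.l)} (hlong : T.longestB w₀ = true)
  (hspan : Mat.spanB D (T.posList.map Fin.val) = true)

include hlong hspan

theorem eq_one_of_conj_U {k u v : ↥(D.group F)} {w : List (Fin T.tab.l)} (hk : k ∈ (rr T hU).H)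
    (hu : u ∈ (rr T hU).U) (hv : v ∈ (rr T hU).U)
    (e : ((rr T hU).nw w)⁻¹ * v * (rr T hU).nw w = u * k) : k = 1 := by
  set R := rr (F := F) T hU
  have hstep : ∀ n : ℕ, ∃ z ∈ R.U, (u * k) ^ n = z * k ^ n := by
    intro n
    induction n with
    | zero => exact ⟨1, one_mem _, by simp⟩
    | succ n ih =>
      obtain ⟨z, hz, hzn⟩ := ih
      refine ⟨z * (k ^ n * u * (k ^ n)⁻¹), mul_mem hz ?_, ?_⟩
      · exact (Subgroup.mem_normalizer_iff.1 (R.H_le_normalizer_U (pow_mem hk n)) u).1 hu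
      · rw [pow_succ, hzn, pow_succ]; group
  set m := Nat.card R.U
  have hv1 : v ^ m = 1 := congrArg Subtype.val (pow_card_eq_one' (x := (⟨v, hv⟩ : R.U)))
  obtain ⟨z, hz, hzm⟩ := hstep m
  have h1 : ((R.nw w)⁻¹ * v * R.nw w) ^ m = 1 := by
    have h := conj_pow (a := (R.nw w)⁻¹) (b := v) (i := m)
    rw [inv_inv] at h
    rw [h, hv1, mul_one, inv_mul_cancel]
  rw [e, hzm] at h1
  have h2 : k ^ m = 1 := (T.shapeR _).U_inter_H
    ((eq_inv_of_mul_eq_one_right h1) ▸ inv_mem hz) (pow_mem hk m)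
  have hm : m = Fintype.card F ^ w₀.length := by
    rw [← Nat.card_eq_fintype_card, ← T.card_posUnipotent (relsOfCommGood hU.toCommGood F) hlong hspan,
      T.card_U_eq (relsOfCommGood hU.toCommGood F)]
  have hco : Nat.Coprime m (Fintype.card F - 1) := by
    rw [hm]
    refine Nat.Coprime.pow_left _ ?_
    have h1 : 1 ≤ Fintype.card F := Fintype.card_pos
    exact ((Nat.coprime_self_sub_right h1).2 (Nat.coprime_one_right _))
  have h3 := Nat.dvd_gcd (orderOf_dvd_of_pow_eq_one h2)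
    (orderOf_dvd_of_pow_eq_one (pow_card_sub_one T hU hk))
  rw [hco] at h3
  exact orderOf_eq_one_iff.1 (Nat.dvd_one.1 h3)

/-- Two diagonal elements conjugate by `b₁ n_w b₂` are conjugate by `n_w`. -/
theorem conj_key {t t' b₁ b₂ : ↥(D.group F)} (w : List (Fin T.tab.l)) (ht : t ∈ (rr T hU).H)
    (ht' : t' ∈ (rr T hU).H) (hb₁ : b₁ ∈ (rr T hU).B) (hb₂ : b₂ ∈ (rr T hU).B)
    (e : b₁ * (rr T hU).nw w * b₂ * t = t' * (b₁ * (rr T hU).nw w * b₂)) :
    (rr T hU).nw w * t * ((rr T hU).nw w)⁻¹ = t' := by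
  set R := rr (F := F) T hU
  have hN : ∀ {a u : ↥(D.group F)}, a ∈ R.H → u ∈ R.U → a * u * a⁻¹ ∈ R.U := fun ha hu =>
    (Subgroup.mem_normalizer_iff.1 (R.H_le_normalizer_U ha) _).1 hu
  obtain ⟨u₁, hu₁, k₁, hk₁, rfl⟩ := R.mem_B_iff.1 hb₁
  obtain ⟨u₂, hu₂, k₂, hk₂, rfl⟩ := R.mem_B_iff.1 hb₂
  set v := (u₁ * k₁)⁻¹ * t' * (u₁ * k₁) * t'⁻¹ with hv
  set u := u₂ * (t * u₂⁻¹ * t⁻¹) with hu
  have hvU : v ∈ R.U := by
    have h1 : v = k₁⁻¹ * (u₁⁻¹ * (t' * u₁ * t'⁻¹)) * k₁⁻¹⁻¹ := by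
      have hc : k₁ * t'⁻¹ = t'⁻¹ * k₁ := H_commute T hU hk₁ (inv_mem ht')
      rw [hv, inv_inv]
      calc _ = k₁⁻¹ * u₁⁻¹ * t' * u₁ * (k₁ * t'⁻¹) := by group
        _ = _ := by rw [hc]; group
    rw [h1]
    exact hN (inv_mem hk₁) (mul_mem (inv_mem hu₁) (hN ht' hu₁))
  have hu2 : u = u₂ * k₂ * t * (u₂ * k₂)⁻¹ * t⁻¹ := by
    have hc : k₂ * t = t * k₂ := H_commute T hU hk₂ ht
    calc u = u₂ * t * k₂ * k₂⁻¹ * u₂⁻¹ * t⁻¹ := by rw [hu]; group
      _ = u₂ * (t * k₂) * k₂⁻¹ * u₂⁻¹ * t⁻¹ := by group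
      _ = _ := by rw [← hc]; group
  have huU : u ∈ R.U := mul_mem hu₂ (hN ht (inv_mem hu₂))
  set k := t * ((R.nw w)⁻¹ * t'⁻¹ * R.nw w) with hk
  have hkH : k ∈ R.H := mul_mem ht (R.nw_inv_conj_mem_H w (inv_mem ht'))
  have e1 : t' * (u₁ * k₁ * R.nw w) = u₁ * k₁ * R.nw w * (u₂ * k₂ * t * (u₂ * k₂)⁻¹) := by
    calc _ = t' * (u₁ * k₁ * R.nw w * (u₂ * k₂)) * (u₂ * k₂)⁻¹ := by group
      _ = _ := by rw [← e]; group
  have e2 : (R.nw w)⁻¹ * v * R.nw w = u * k := by
    rw [hu2, hv, hk]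
    calc _ = (R.nw w)⁻¹ * (u₁ * k₁)⁻¹ * (t' * (u₁ * k₁ * R.nw w)) * ((R.nw w)⁻¹ * t'⁻¹ * R.nw w) := by
          group
      _ = _ := by rw [e1]; group
  have hk1 := eq_one_of_conj_U T hU hlong hspan hkH huU hvU e2
  rw [hk] at hk1
  calc R.nw w * t * (R.nw w)⁻¹ = R.nw w * (t * ((R.nw w)⁻¹ * t'⁻¹ * R.nw w)) * (R.nw w)⁻¹ * t' := by group
    _ = t' := by rw [hk1]; group

omit hlong hspan in
theorem eq_one_of_commute_U {h u : ↥(D.group F)} (hh : h ∈ (rr T hU).H) (hu : u ∈ (rr T hU).U)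
    (hreg : ∀ s, chi T h s ≠ 1) (e : h * u = u * h) : u = 1 := by
  obtain ⟨c, hc⟩ := exists_tau T hU hh
  have huP : (u : GL D.Idx F) ∈ D.posUnipotent F :=
    T.U_map (relsOfCommGood hU.toCommGood F) ▸ ⟨u, hu, rfl⟩
  obtain ⟨τ, ⟨hτ0, hτ⟩, huniq⟩ := hU.exists_coords huP
  let τ' : ℕ → F := fun r =>
    if hr : r < D.nroots then (tauW D F c (Sum.inr ⟨r, hr⟩) : F) * τ r else τ r
  have h2 : prodL D F D.posRoots τ' = u := by
    have h3 : MulAut.conj (tau D F c) (prodL D F D.posRoots τ) = prodL D F D.posRoots τ' := by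
      rw [prodL, map_list_prod, List.map_map, prodL]
      congr 1
      refine List.map_congr_left fun r hr => ?_
      have hlt : r < D.nroots := (hU.toCommGood.toGood.mem_posRoots.1 hr).1
      simp only [Function.comp_apply, MulAut.conj_apply, τ', dif_pos hlt]
      exact hU.toCommGood.toGood.tau_conj_x c hlt _
    rw [← h3, hτ, MulAut.conj_apply, ← hc, ← Subgroup.coe_mul, e, Subgroup.coe_mul, mul_inv_cancel_right]
  have h4 := huniq τ' ⟨fun r hr => by
    simp only [τ', hτ0 r hr, mul_zero]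
    split <;> rfl, h2⟩
  have h5 : ∀ r, τ r = 0 := by
    intro r
    by_cases hr : r < D.nroots
    · have h6 := congrFun h4 r
      simp only [τ', dif_pos hr] at h6
      have h7 := hreg ⟨r, T.n_eq.symm ▸ hr⟩
      rw [chi_tau T hc] at h7
      by_contra hne
      exact h7 ((mul_eq_right₀ hne).1 h6)
    · exact hτ0 r fun h => hr h.1
  refine Subtype.ext ?_
  rw [← hτ, prodL, List.prod_eq_one]
  · rfl
  · intro x hx
    obtain ⟨r, -, rfl⟩ := List.mem_map.1 hx
    rw [h5, hU.toCommGood.toGood.xg_zero]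

variable {wit : List (List (Fin T.tab.l) × Fin T.tab.l)} (hwit : T.witB wit = true)

include hwit

/-- The centraliser of a regular element with trivial stabiliser is the torus. -/
theorem mem_H_of_commute {h g : ↥(D.group F)} (hh : h ∈ (rr T hU).H) (hreg : ∀ s, chi T h s ≠ 1)
    (hstab : ∀ w, (rr T hU).nw w * h * ((rr T hU).nw w)⁻¹ = h → ∀ s, T.S.actw w s = s)
    (e : g * h = h * g) : g ∈ (rr T hU).H := by
  set R := rr (F := F) T hU
  obtain ⟨b₁, hb₁, w, -, b₂, hb₂, rfl⟩ := R.exists_bruhat (g := g)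
    ((T.group_top (relsOfCommGood hU.toCommGood F) hwit).symm ▸ Subgroup.mem_top g)
  have h1 := conj_key T hU hlong hspan w hh hh hb₁ hb₂ e
  have h2 := (T.shapeR (relsOfCommGood hU.toCommGood F)).nw_mem_H (fun r t => T.x_ne _ r t) (hstab w h1)
  have hB : b₁ * R.nw w * b₂ ∈ R.B := mul_mem (mul_mem hb₁ (R.H_le_B h2)) hb₂
  obtain ⟨u, hu, k, hk, huk⟩ := R.mem_B_iff.1 hB
  rw [← huk] at e ⊢
  have hu1 : u = 1 := eq_one_of_commute_U T hU hh hu hreg (by
    have hc : k * h = h * k := H_commute T hU hk hh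
    apply mul_right_cancel (b := k)
    calc h * u * k = h * (u * k) := by group
      _ = u * k * h := e.symm
      _ = u * (k * h) := by group
      _ = _ := by rw [hc]; group)
  rw [hu1, one_mul]
  exact hk

end finite

end Cfsg.Agent.ChevTori
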