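import Cfsg.Agent.ChevTori.Main

/-!
The numerical side conditions for the self-centralising tori (helper56).
-/

set_option autoImplicit false

namespace Cfsg.Agent.ChevTori

open Polynomial

theorem not_dvd_geom {r Q d : ℕ} (hQ : (Q : ZMod r) = 1) (hd : ¬ r ∣ d) :
    ¬ r ∣ ∑ i ∈ Finset.range d, Q ^ i := by
  rw [← ZMod.natCast_eq_zero_iff, Nat.cast_sum]
  simp only [Nat.cast_pow, hQ, one_pow, Finset.sum_const, Finset.card_range, nsmul_eq_mul, mul_one]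
  rwa [ZMod.natCast_eq_zero_iff]

/-- The index of the torus is prime to `r`. -/
theorem index_of_degrees {r Q G H a l : ℕ} [Fact r.Prime] (hQ : (Q : ZMod r) = 1) (hQ1 : 1 ≤ Q)
    (ds : List ℕ) (hlen : ds.length = l) (hds : ∀ d ∈ ds, ¬ r ∣ d) (hH : H = (Q - 1) ^ l)
    (hG : G = Q ^ a * (ds.map fun d => Q ^ d - 1).prod) :
    ∃ N, G = H * N ∧ ¬ r ∣ N := by
  refine ⟨Q ^ a * (ds.map fun d => ∑ i ∈ Finset.range d, Q ^ i).prod, ?_, ?_⟩
  · subst hH hG hlen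
    clear hds
    induction ds with
    | nil => simp
    | cons d ds ih =>
      simp only [List.map_cons, List.prod_cons, List.length_cons]
      rw [← geom_sum_mul_of_one_le hQ1 d, pow_succ]
      calc _ = (Q - 1) * (∑ i ∈ Finset.range d, Q ^ i) *
            (Q ^ a * (ds.map fun d => Q ^ d - 1).prod) := by ring
        _ = _ := by rw [ih]; ring
  · intro h
    rcases (Nat.Prime.dvd_mul Fact.out).1 h with h | h
    · have h1 := (ZMod.natCast_eq_zero_iff Q r).2 ((Fact.out : r.Prime).dvd_of_dvd_pow h)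
      rw [hQ] at h1
      exact one_ne_zero h1
    · obtain ⟨x, hx, hrx⟩ := (Fact.out : r.Prime).prime.dvd_prod_iff.1 h
      obtain ⟨d, hd, rfl⟩ := List.mem_map.1 hx
      exact not_dvd_geom hQ (hds d hd) hrx

theorem exists_prime {q h : ℕ} (hq : 2 ≤ q) (hh : 2 < h) (h6 : h ≠ 6) :
    ∃ r : ℕ, r.Prime ∧ orderOf (q : ZMod r) = h ∧ h < r ∧ r ∣ q ^ h - 1 ∧ h ∣ r - 1 := by
  obtain ⟨r, hr⟩ := NumberTheory.exists_isPrimitivePrimeDivisor (a := q) (n := h) (by omega) (by omega)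
    (by omega) (by omega)
  exact ⟨r, hr.1, (NumberTheory.isPrimitivePrimeDivisor_iff hr.1 (by omega) (by omega)).1 hr,
    hr.lt (by omega) (by omega), hr.2.1, hr.dvd_sub_one (by omega) (by omega)⟩

theorem cast_pow_eq_one {q h r : ℕ} (hrq : orderOf (q : ZMod r) = h) :
    ((q ^ h : ℕ) : ZMod r) = 1 := by
  rw [Nat.cast_pow, ← hrq, pow_orderOf_eq_one]

theorem Phi_three (q : ℕ) : NumberTheory.Phi 3 q = q ^ 2 + q + 1 := by
  rw [NumberTheory.Phi, cyclotomic_three]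
  simp only [eval_add, eval_pow, eval_X, eval_one]
  norm_cast

theorem Phi_eight (q : ℕ) : NumberTheory.Phi 8 q = q ^ 4 + 1 := by
  haveI : Fact (Nat.Prime 2) := ⟨Nat.prime_two⟩
  rw [NumberTheory.Phi, show (8 : ℕ) = 2 ^ (2 + 1) from rfl,
    cyclotomic_prime_pow_eq_geom_sum Nat.prime_two]
  simp [Finset.sum_range_succ]
  norm_cast
  omega

theorem Phi_thirty {q : ℕ} (hq : 2 ≤ q) :
    NumberTheory.Phi 30 q = q ^ 8 + q ^ 7 - q ^ 5 - q ^ 4 - q ^ 3 + q + 1 := by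
  have h1 := cyclotomic_expand_eq_cyclotomic_mul (p := 5) (n := 6) (by norm_num) (by norm_num) ℤ
  have h2 := congrArg (Polynomial.eval (q : ℤ)) h1
  simp only [expand_eval, eval_mul, cyclotomic_six, eval_add, eval_sub, eval_pow, eval_X, eval_one] at h2
  have hne : ((q : ℤ) ^ 2 - q + 1) ≠ 0 := by nlinarith
  have h3 : (cyclotomic (6 * 5) ℤ).eval (q : ℤ) =
      (q : ℤ) ^ 8 + q ^ 7 - q ^ 5 - q ^ 4 - q ^ 3 + q + 1 :=
    mul_right_cancel₀ hne (by rw [← h2]; ring)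
  have hle : q ^ 5 + q ^ 4 + q ^ 3 ≤ q ^ 8 + q ^ 7 := by
    have e1 : q ^ 5 ≤ q ^ 8 := Nat.pow_le_pow_right (by omega) (by norm_num)
    have e2 : q ^ 4 + q ^ 3 ≤ q ^ 7 := by
      have a : q ^ 3 ≤ q ^ 4 := Nat.pow_le_pow_right (by omega) (by norm_num)
      have b : q ^ 5 ≤ q ^ 7 := Nat.pow_le_pow_right (by omega) (by norm_num)
      have c : 2 * q ^ 4 ≤ q ^ 5 := by rw [pow_succ' q 4]; exact Nat.mul_le_mul_right _ hq
      omega
    omega
  have h4 : ((q ^ 8 + q ^ 7 - q ^ 5 - q ^ 4 - q ^ 3 + q + 1 : ℕ) : ℤ) =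
      (q : ℤ) ^ 8 + q ^ 7 - q ^ 5 - q ^ 4 - q ^ 3 + q + 1 := by
    rw [Nat.cast_add, Nat.cast_add, Nat.cast_sub (by omega), Nat.cast_sub (by omega),
      Nat.cast_sub (by omega)]
    push_cast
    ring
  rw [NumberTheory.Phi, show (30 : ℕ) = 6 * 5 from rfl, h3, ← h4, Int.natAbs_natCast]

end Cfsg.Agent.ChevTori
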