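import Mathlib
import Cfsg.Agent.Lib.NumberTheory.Zsigmondy
import Cfsg.Agent.Lib.ChevCore.TorusGroup

/-!
The kernel of `q - P` on a power of a cyclic group, for `P` with cyclotomic characteristic polynomial
(helper56).
-/

set_option autoImplicit false

namespace Cfsg.Agent.ChevTori

open Polynomial Matrix
open Cfsg.Agent.ChevCore (mpow mpow_apply)

variable {l : ℕ} {M : Type*} [CommGroup M] [IsCyclic M] [Finite M]

/-- The kernel of a matrix whose determinant divides the order of the cyclic group. -/
theorem card_ker_of_det_dvd (A : Matrix (Fin l) (Fin l) ℤ) (hdet : A.det ≠ 0)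
    (hdvd : A.det.natAbs ∣ Nat.card M) : Nat.card (mpow (M := M) A).ker = A.det.natAbs := by
  classical
  obtain ⟨g, hg⟩ := IsCyclic.exists_generator (α := M)
  have hNg : orderOf g = Nat.card M := orderOf_eq_card_of_forall_mem_zpowers hg
  let π : (Fin l → ℤ) →+ Additive (Fin l → M) :=
    { toFun := fun z => Additive.ofMul fun j => g ^ z j
      map_zero' := by
        show Additive.ofMul (fun j => g ^ (0 : Fin l → ℤ) j) = Additive.ofMul 1
        congr 1
        funext j
        simp
      map_add' := fun z z' => by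
        show Additive.ofMul (fun j => g ^ (z + z') j) = Additive.ofMul ((fun j => g ^ z j) * fun j => g ^ z' j)
        congr 1
        funext j
        simp [_root_.zpow_add] }
  have hπ : Function.Surjective π := by
    intro c
    choose z hz using fun j => Subgroup.mem_zpowers_iff.1 (hg (Additive.toMul c j))
    exact ⟨z, congrArg Additive.ofMul (funext hz)⟩
  have hcomm : ∀ z, Additive.ofMul (mpow A (Additive.toMul (π z))) = π (A *ᵥ z) := by
    intro z
    show Additive.ofMul (mpow A fun j => g ^ z j) = Additive.ofMul fun j => g ^ (A *ᵥ z) j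
    congr 1
    funext j
    simp only [mpow_apply, Matrix.mulVec, dotProduct]
    rw [ChevCore.zpow_sum']
    exact Finset.prod_congr rfl fun k _ => by rw [← _root_.zpow_mul, mul_comm]
  have hpre : (MonoidHom.range (mpow (M := M) A)).toAddSubgroup.comap π =
      (A.mulVecLin.toAddMonoidHom).range := by
    ext z
    constructor
    · rintro ⟨c, hc⟩
      obtain ⟨w, hw⟩ := hπ (Additive.ofMul c)
      have h1 : π z = π (A *ᵥ w) := by
        rw [← hcomm, hw]
        exact congrArg Additive.ofMul hc.symm
      have h2 : ∀ j, (Nat.card M : ℤ) ∣ z j - (A *ᵥ w) j := fun j => by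
        have h3 : g ^ z j = g ^ (A *ᵥ w) j := congrFun (congrArg Additive.toMul h1) j
        have h4 : g ^ (z j - (A *ᵥ w) j) = 1 := by rw [_root_.zpow_sub, h3, mul_inv_cancel]
        rw [← hNg]
        exact orderOf_dvd_iff_zpow_eq_one.2 h4
      obtain ⟨e, he⟩ : (A.det) ∣ (Nat.card M : ℤ) := Int.natAbs_dvd.1 (Int.natCast_dvd_natCast.2 hdvd)
      choose t ht using h2
      refine ⟨w + A.adjugate *ᵥ (e • t), ?_⟩
      show A *ᵥ (w + A.adjugate *ᵥ (e • t)) = z
      rw [Matrix.mulVec_add, Matrix.mulVec_mulVec, Matrix.mul_adjugate, Matrix.smul_mulVec,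
        Matrix.one_mulVec]
      funext j
      simp only [Pi.add_apply, Pi.smul_apply, smul_eq_mul]
      rw [← mul_assoc, ← he, ← ht j]
      ring
    · rintro ⟨w, rfl⟩
      exact ⟨Additive.toMul (π w), congrArg Additive.toMul (hcomm w)⟩
  have hidx : (MonoidHom.range (mpow (M := M) A)).index = A.det.natAbs := by
    have h1 := AddSubgroup.index_comap_of_surjective
      (MonoidHom.range (mpow (M := M) A)).toAddSubgroup hπ
    rw [hpre, Subgroup.index_toAddSubgroup] at h1
    rw [← h1]
    have hinj : Function.Injective A.mulVecLin := by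
      rw [← LinearMap.ker_eq_bot, LinearMap.ker_eq_bot']
      intro v hv
      exact Matrix.eq_zero_of_mulVec_eq_zero hdet hv
    let e := (LinearEquiv.ofInjective A.mulVecLin hinj).toAddEquiv
    have h2 := Submodule.natAbs_det_equiv (LinearMap.range A.mulVecLin) e
    have h3 : (LinearMap.range A.mulVecLin).subtype ∘ₗ
        AddMonoidHom.toIntLinearMap (e : (Fin l → ℤ) →+ LinearMap.range A.mulVecLin) = A.mulVecLin :=
      LinearMap.ext fun v => rfl
    rw [h3, ← Matrix.toLin'_apply', LinearMap.det_toLin'] at h2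
    rw [h2]
    rfl
  have h1 := Subgroup.card_mul_index (mpow (M := M) A).ker
  have h2 := Subgroup.card_mul_index (MonoidHom.range (mpow (M := M) A))
  rw [Subgroup.index_ker, ← h2, hidx, mul_comm] at h1
  exact Nat.eq_of_mul_eq_mul_left Nat.card_pos h1

/-- A finite commutative group with small torsion at every prime is cyclic. -/
theorem isCyclic_of_prime_torsion {K : Type*} [CommGroup K] [Finite K]
    (h : ∀ p : ℕ, p.Prime → Nat.card (powMonoidHom p : K →* K).ker ≤ p) : IsCyclic K := by
  classical
  have key : ∀ n : ℕ, 0 < n → Nat.card (powMonoidHom n : K →* K).ker ≤ n := by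
    intro n
    induction n using Nat.recOnMul with
    | zero => intro h0; omega
    | one =>
      intro _
      rw [show (powMonoidHom 1 : K →* K).ker = ⊥ from by ext x; simp [MonoidHom.mem_ker]]
      simp
    | prime p hp => intro _; exact h p hp
    | mul a b iha ihb =>
      intro hab
      have ha : 0 < a := Nat.pos_of_ne_zero fun e => by simp [e] at hab
      replace hab : 0 < b := Nat.pos_of_ne_zero fun e => by simp [e] at hab
      set φ : (powMonoidHom (a * b) : K →* K).ker →* (powMonoidHom b : K →* K).ker :=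
        ((powMonoidHom a : K →* K).comp (powMonoidHom (a * b) : K →* K).ker.subtype).codRestrict _
          (fun x => by
            have hx : (x : K) ^ (a * b) = 1 := x.2
            show ((x : K) ^ a) ^ b = 1
            rw [← pow_mul, hx])
      have h1 := Subgroup.card_mul_index φ.ker
      rw [Subgroup.index_ker] at h1
      have h2 : Nat.card φ.ker ≤ Nat.card (powMonoidHom a : K →* K).ker := by
        refine Nat.card_le_card_of_injective
          (fun x => (⟨(x.1 : K), ?_⟩ : (powMonoidHom a : K →* K).ker)) ?_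
        · exact congrArg Subtype.val (show φ x.1 = 1 from x.2)
        · intro x y e
          exact Subtype.ext (Subtype.ext (congrArg (fun z : (powMonoidHom a : K →* K).ker => (z : K)) e))
      have h3 := Subgroup.card_le_card_group φ.range
      rw [← h1]
      exact Nat.mul_le_mul (h2.trans (iha ha)) (h3.trans (ihb hab))
  letI := Fintype.ofFinite K
  refine isCyclic_of_card_pow_eq_one_le fun n hn => ?_
  refine le_trans (le_of_eq ?_) (key n hn)
  rw [Nat.card_eq_fintype_card, Fintype.card_subtype]
  congr 1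
  ext x
  simp [MonoidHom.mem_ker]

/-- The kernel of `q - P` is cyclic of order `Φ_h(q)`. -/
theorem cyclic_ker {P : Matrix (Fin l) (Fin l) ℤ} {h q : ℕ} (hh : 2 < h) (hq : 2 ≤ q)
    (hP : P.charpoly = cyclotomic h ℤ) (hM : Nat.card M = q ^ h - 1) :
    IsCyclic (mpow (M := M) ((q : ℤ) • (1 : Matrix (Fin l) (Fin l) ℤ) - P)).ker ∧
      Nat.card (mpow (M := M) ((q : ℤ) • (1 : Matrix (Fin l) (Fin l) ℤ) - P)).ker =
        NumberTheory.Phi h q := by
  classical
  set A := (q : ℤ) • (1 : Matrix (Fin l) (Fin l) ℤ) - P with hA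
  have hdetA : A.det.natAbs = NumberTheory.Phi h q := by
    rw [NumberTheory.Phi, ← hP, Matrix.eval_charpoly, hA, Matrix.smul_one_eq_diagonal]
    rfl
  have hpos : 0 < NumberTheory.Phi h q := NumberTheory.Phi_pos (by omega)
  have hdet0 : A.det ≠ 0 := fun e => by rw [e] at hdetA; simp at hdetA; omega
  have hdvd : A.det.natAbs ∣ Nat.card M := by
    rw [hdetA, hM]; exact NumberTheory.Phi_dvd h (by omega)
  have hcard := card_ker_of_det_dvd A hdet0 hdvd
  rw [hdetA] at hcard
  refine ⟨isCyclic_of_prime_torsion fun p hp => ?_, hcard⟩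
  set Kp := (powMonoidHom p : (mpow (M := M) A).ker →* (mpow (M := M) A).ker).ker
  haveI := Fact.mk hp
  by_cases hpD : p ∣ NumberTheory.Phi h q
  swap
  · have hbot : Kp = ⊥ := (Subgroup.eq_bot_iff_forall _).2 fun x hx => by
      have h1 : orderOf x ∣ p := orderOf_dvd_of_pow_eq_one hx
      rcases (Nat.dvd_prime hp).1 h1 with h2 | h2
      · exact orderOf_eq_one_iff.1 h2
      · exact absurd (hcard ▸ h2 ▸ orderOf_dvd_natCard x) hpD
    rw [hbot]
    simp [hp.one_le]
  by_cases hph : p ∣ h
  · have hG : IsPGroup p Kp := fun x => ⟨1, Subtype.ext (by rw [pow_one]; exact x.2)⟩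
    obtain ⟨k, hk⟩ := IsPGroup.iff_card.1 hG
    have h2 : p ^ k ∣ NumberTheory.Phi h q := hcard ▸ hk ▸ Subgroup.card_subgroup_dvd_card Kp
    have hk2 : k ≤ 1 := by
      by_contra hne
      exact NumberTheory.sq_not_dvd_Phi' hh hp hph hpD
        ((pow_dvd_pow p (by omega : 2 ≤ k)).trans h2)
    rw [hk]
    calc p ^ k ≤ p ^ 1 := Nat.pow_le_pow_right hp.pos hk2
      _ = p := pow_one p
  · have hpM : p ∣ Nat.card M := hpD.trans (hM ▸ NumberTheory.Phi_dvd h (by omega))
    obtain ⟨ζ, hζ⟩ := exists_prime_orderOf_dvd_card' (G := M) p hpM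
    have hmem : ∀ y : M, y ^ p = 1 → y ∈ Subgroup.zpowers ζ := by
      intro y hy
      have hle : Subgroup.zpowers ζ ≤ (powMonoidHom p : M →* M).ker := by
        rw [Subgroup.zpowers_le, MonoidHom.mem_ker, powMonoidHom_apply, ← hζ]
        exact pow_orderOf_eq_one ζ
      have heq := Subgroup.eq_of_le_of_card_ge hle (by
        rw [IsCyclic.card_powMonoidHom_ker, Nat.card_zpowers, hζ]
        exact Nat.le_of_dvd hp.pos (Nat.gcd_dvd_right _ _))
      rw [heq]
      exact hy
    let E : Module.End (ZMod p) (Fin l → ZMod p) := (P.map (Int.cast : ℤ → ZMod p)).toLin'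
    have hz : ∀ x : Kp, ∀ j, ∃ z : ℤ, ζ ^ z = (x.1.1 : Fin l → M) j := fun x j =>
      Subgroup.mem_zpowers_iff.1 (hmem _ (congrFun (congrArg (fun y => (y.1 : Fin l → M)) x.2) j))
    choose z hz using hz
    let f : Kp → E.eigenspace (q : ZMod p) := fun x => ⟨fun j => (z x j : ZMod p), by
      rw [Module.End.mem_eigenspace_iff]
      have h1 : mpow A (x.1.1) = 1 := x.1.2
      funext j
      have h2 : ζ ^ (A *ᵥ z x) j = 1 := by
        refine Eq.trans ?_ (congrFun h1 j)
        rw [mpow_apply]
        simp only [Matrix.mulVec, dotProduct]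
        rw [ChevCore.zpow_sum']
        refine Finset.prod_congr rfl fun k _ => ?_
        rw [← hz x k, ← _root_.zpow_mul, mul_comm]
      have h3 : (((A *ᵥ z x) j : ℤ) : ZMod p) = 0 := by
        rw [ZMod.intCast_zmod_eq_zero_iff_dvd, ← hζ]
        exact orderOf_dvd_iff_zpow_eq_one.2 h2
      rw [hA, Matrix.sub_mulVec, Matrix.smul_mulVec, Matrix.one_mulVec, Pi.sub_apply, Pi.smul_apply,
        smul_eq_mul, Int.cast_sub, sub_eq_zero, Int.cast_mul, Int.cast_natCast] at h3
      show (P.map (Int.cast : ℤ → ZMod p) *ᵥ fun j => (z x j : ZMod p)) j = _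
      rw [Pi.smul_apply, smul_eq_mul, h3]
      simp [Matrix.mulVec, dotProduct]⟩
    have hf : Function.Injective f := by
      intro x y e
      refine Subtype.ext (Subtype.ext (funext fun j => ?_))
      have h1 : (z x j : ZMod p) = (z y j : ZMod p) := congrFun (congrArg Subtype.val e) j
      rw [← hz x j, ← hz y j]
      have h2 : (orderOf ζ : ℤ) ∣ z y j - z x j := by
        rw [hζ, ← ZMod.intCast_zmod_eq_zero_iff_dvd, Int.cast_sub, h1, sub_self]
      exact (zpow_eq_zpow_iff_modEq.2 ((Int.modEq_iff_dvd).2 h2))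
    have hne : NeZero ((h : ℕ) : ZMod p) := ⟨fun e => hph ((CharP.cast_eq_zero_iff (ZMod p) p h).1 e)⟩
    have hfin : Module.finrank (ZMod p) (E.eigenspace (q : ZMod p)) ≤ 1 := by
      refine (LinearMap.finrank_eigenspace_le E (q : ZMod p)).trans ?_
      rw [Matrix.charpoly_toLin', show P.map (Int.cast : ℤ → ZMod p) = P.map (Int.castRingHom (ZMod p)) from rfl,
        Matrix.charpoly_map, hP, map_cyclotomic]
      exact rootMultiplicity_le_one_of_separable
        ((separable_X_pow_sub_C (1 : ZMod p) (NeZero.ne _) one_ne_zero).of_dvd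
          (by rw [map_one]; exact cyclotomic.dvd_X_pow_sub_one h (ZMod p))) _
    calc Nat.card Kp ≤ Nat.card (E.eigenspace (q : ZMod p)) := Nat.card_le_card_of_injective f hf
      _ = p ^ Module.finrank (ZMod p) (E.eigenspace (q : ZMod p)) := by
        rw [Module.natCard_eq_pow_finrank (K := ZMod p), Nat.card_zmod]
      _ ≤ p ^ 1 := Nat.pow_le_pow_right hp.pos hfin
      _ = p := pow_one p

end Cfsg.Agent.ChevTori
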