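import Cfsg.Agent.ChevTori.Eigen
import Cfsg.Agent.ChevTori.Count

/-!
Cyclotomic factors of the characteristic polynomial of an integer matrix of finite order, and the kernel of
`q - P` when that polynomial is a separable product.
-/

set_option autoImplicit false

namespace Cfsg.Agent.ChevTori

open Polynomial Matrix
open Cfsg.Agent.ChevCore (mpow mpow_apply)

variable {l : ℕ}

/-- An eigenvalue of order `h` modulo `r` of a matrix of finite order prime to `r` gives a factor `Φ_h`. -/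
theorem cyclotomic_dvd_charpoly {P : Matrix (Fin l) (Fin l) ℤ} {M r h q : ℕ} [Fact r.Prime]
    (hP : P ^ M = 1) (hrM : ¬ r ∣ M) (hq : orderOf (q : ZMod r) = h)
    {b : Fin l → ZMod r} (hb : b ≠ 0)
    (heig : P.map (Int.cast : ℤ → ZMod r) *ᵥ b = (q : ZMod r) • b) :
    cyclotomic h ℤ ∣ P.charpoly := by
  classical
  have hM0 : 0 < M := Nat.pos_of_ne_zero fun e => hrM (e ▸ dvd_zero r)
  have hcast : P.map (Int.cast : ℤ → ZMod r) = (Int.castRingHom (ZMod r)).mapMatrix P := rfl
  have hpow : (q : ZMod r) ^ M = 1 := by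
    have h1 := aeval_mulVec_eigen heig ((X : (ZMod r)[X]) ^ M)
    simp only [map_pow, aeval_X, eval_pow, eval_X] at h1
    rw [hcast, ← map_pow, hP, map_one, Matrix.one_mulVec] at h1
    obtain ⟨i, hi⟩ := Function.ne_iff.1 hb
    have h2 := congrFun h1 i
    simp only [Pi.smul_apply, smul_eq_mul] at h2
    exact (mul_eq_right₀ hi).1 h2.symm
  have hdvd : h ∣ M := hq ▸ orderOf_dvd_of_pow_eq_one hpow
  have hh0 : 0 < h := Nat.pos_of_dvd_of_pos hdvd hM0
  set f : ℤ[X] := ∏ d ∈ M.divisors.erase h, cyclotomic d ℤ with hf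
  have hfac : cyclotomic h ℤ * f = X ^ M - 1 := by
    rw [hf, Finset.mul_prod_erase _ (fun d => cyclotomic d ℤ) (Nat.mem_divisors.2 ⟨hdvd, hM0.ne'⟩),
      prod_cyclotomic_eq_X_pow_sub_one hM0]
  have hfP : aeval P f ≠ 0 := by
    intro e
    have h1 := aeval_mulVec_eigen heig (f.map (Int.castRingHom (ZMod r)))
    have h2 : aeval (P.map (Int.cast : ℤ → ZMod r)) (f.map (Int.castRingHom (ZMod r))) =
        (Int.castRingHom (ZMod r)).mapMatrix (aeval P f) := by
      rw [hcast, aeval_def, eval₂_map, aeval_def]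
      conv_rhs => rw [Polynomial.hom_eval₂]
      congr 1
      exact RingHom.ext_int _ _
    rw [h2, e, map_zero, Matrix.zero_mulVec] at h1
    have h3 : (f.map (Int.castRingHom (ZMod r))).eval (q : ZMod r) ≠ 0 := by
      rw [hf, Polynomial.map_prod, eval_prod, Finset.prod_ne_zero_iff]
      intro d hd h0
      rw [map_cyclotomic] at h0
      obtain ⟨hne, hd'⟩ := Finset.mem_erase.1 hd
      have hdM := (Nat.mem_divisors.1 hd').1
      haveI : NeZero (d : ZMod r) := ⟨fun e' => hrM
        (((CharP.cast_eq_zero_iff (ZMod r) r d).1 e').trans hdM)⟩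
      have h4 : IsPrimitiveRoot (q : ZMod r) d := isRoot_cyclotomic_iff.1 h0
      exact hne (h4.eq_orderOf.trans hq)
    exact hb (smul_eq_zero.1 h1.symm |>.resolve_left h3)
  set PQ : Matrix (Fin l) (Fin l) ℚ := (Int.castRingHom ℚ).mapMatrix P with hPQ
  have hmapQ : ∀ g : ℤ[X], aeval PQ (g.map (Int.castRingHom ℚ)) =
      (Int.castRingHom ℚ).mapMatrix (aeval P g) := by
    intro g
    rw [hPQ, aeval_def, eval₂_map, aeval_def]
    conv_rhs => rw [Polynomial.hom_eval₂]
    congr 1
    exact RingHom.ext_int _ _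
  have hfQ : aeval PQ (f.map (Int.castRingHom ℚ)) ≠ 0 := by
    rw [hmapQ]
    intro e
    apply hfP
    have hinj : Function.Injective ((Int.castRingHom ℚ).mapMatrix : Matrix (Fin l) (Fin l) ℤ →+* _) :=
      Matrix.map_injective Int.cast_injective
    exact hinj (by rw [e, map_zero])
  have h0 : aeval PQ ((cyclotomic h ℤ * f).map (Int.castRingHom ℚ)) = 0 := by
    rw [hfac, hmapQ, map_sub, map_pow, aeval_X, map_one, hP, sub_self, map_zero]
  have hμ1 : minpoly ℚ PQ ∣ cyclotomic h ℚ * f.map (Int.castRingHom ℚ) := by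
    rw [← map_cyclotomic h (Int.castRingHom ℚ), ← Polynomial.map_mul]
    exact minpoly.dvd ℚ PQ h0
  have hirr := cyclotomic.irreducible_rat hh0
  have hΦμ : cyclotomic h ℚ ∣ minpoly ℚ PQ := by
    by_contra hnd
    have hcop : IsCoprime (minpoly ℚ PQ) (cyclotomic h ℚ) := ((hirr.coprime_iff_not_dvd).2 hnd).symm
    obtain ⟨k, hk⟩ := hcop.dvd_of_dvd_mul_left hμ1
    apply hfQ
    rw [hk, map_mul, minpoly.aeval, zero_mul]
  have hchar : cyclotomic h ℚ ∣ PQ.charpoly := hΦμ.trans (Matrix.minpoly_dvd_charpoly PQ)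
  rw [hPQ, RingHom.mapMatrix_apply, Matrix.charpoly_map, ← map_cyclotomic h (Int.castRingHom ℚ)] at hchar
  exact (map_dvd_map (Int.castRingHom ℚ) Int.cast_injective (cyclotomic.monic h ℤ)).1 hchar

/-- The roots of a factor of the characteristic polynomial of a matrix of finite order have norm one. -/
theorem norm_root_eq_one {P : Matrix (Fin l) (Fin l) ℤ} {M : ℕ} (hM : M ≠ 0) (hP : P ^ M = 1)
    {g : ℤ[X]} (hdvd : g ∣ P.charpoly) (z : ℂ) (hz : g.eval₂ (Int.castRingHom ℂ) z = 0) : ‖z‖ = 1 := by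
  classical
  set PC : Matrix (Fin l) (Fin l) ℂ := (Int.castRingHom ℂ).mapMatrix P with hPC
  have h1 : IsRoot PC.charpoly z := by
    rw [hPC, RingHom.mapMatrix_apply, Matrix.charpoly_map]
    obtain ⟨k, hk⟩ := hdvd
    rw [hk, Polynomial.map_mul, IsRoot.def, eval_mul, eval_map, hz, zero_mul]
  haveI : Nonempty (Fin l) := by
    by_contra hne
    haveI := not_nonempty_iff.1 hne
    rw [Matrix.charpoly, Matrix.det_isEmpty] at h1
    simp at h1
  have h2 := spectrum.pow_mem_pow PC M ((Matrix.mem_spectrum_iff_isRoot_charpoly).2 h1)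
  rw [hPC, ← map_pow, hP, map_one, spectrum.one_eq, Set.mem_singleton_iff] at h2
  exact Complex.norm_eq_one_of_pow_eq_one h2 hM

/-- A quadratic factor of the characteristic polynomial of a matrix of finite order. -/
theorem quadratic_factor {P : Matrix (Fin l) (Fin l) ℤ} {M : ℕ} (hM : M ≠ 0) (hP : P ^ M = 1)
    {g : ℤ[X]} (hg : g.Monic) (hdeg : g.natDegree = 2) (hdvd : g ∣ P.charpoly) :
    g = X ^ 2 + C (g.coeff 1) * X + C (g.coeff 0) ∧ |g.coeff 1| ≤ 2 ∧ |g.coeff 0| = 1 := by
  classical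
  have hform : g = X ^ 2 + C (g.coeff 1) * X + C (g.coeff 0) := by
    conv_lhs => rw [hg.as_sum, hdeg]
    rw [Finset.sum_range_succ, Finset.sum_range_succ, Finset.sum_range_zero]
    simp
    ring
  refine ⟨hform, ?_⟩
  set PC : Matrix (Fin l) (Fin l) ℂ := (Int.castRingHom ℂ).mapMatrix P with hPC
  haveI : Nonempty (Fin l) := by
    by_contra hne
    haveI := not_nonempty_iff.1 hne
    have := Polynomial.natDegree_le_of_dvd hdvd P.charpoly_monic.ne_zero
    rw [hdeg, P.charpoly_natDegree_eq_dim, Fintype.card_eq_zero] at this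
    omega
  have hroot : ∀ z : ℂ, z ^ 2 + (g.coeff 1 : ℂ) * z + (g.coeff 0 : ℂ) = 0 → ‖z‖ = 1 := by
    intro z hz
    have h1 : IsRoot PC.charpoly z := by
      rw [hPC, RingHom.mapMatrix_apply, Matrix.charpoly_map]
      obtain ⟨k, hk⟩ := hdvd
      rw [hk, Polynomial.map_mul, IsRoot.def, eval_mul, hform]
      simp [hz]
    have h2 := spectrum.pow_mem_pow PC M ((Matrix.mem_spectrum_iff_isRoot_charpoly).2 h1)
    rw [hPC, ← map_pow, hP, map_one, spectrum.one_eq, Set.mem_singleton_iff] at h2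
    exact Complex.norm_eq_one_of_pow_eq_one h2 hM
  obtain ⟨z, hz⟩ := IsAlgClosed.exists_root (g.map (Int.castRingHom ℂ)) (by
    rw [Polynomial.degree_map_eq_of_injective Int.cast_injective,
      Polynomial.degree_eq_natDegree hg.ne_zero, hdeg]
    norm_num)
  rw [IsRoot.def, eval_map, hform, eval₂_add, eval₂_add, eval₂_mul, eval₂_C, eval₂_C, eval₂_X_pow,
    eval₂_X] at hz
  simp only [eq_intCast] at hz
  set w : ℂ := -(g.coeff 1 : ℂ) - z with hw
  have hw0 : w ^ 2 + (g.coeff 1 : ℂ) * w + (g.coeff 0 : ℂ) = 0 := by rw [hw]; linear_combination hz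
  have h1 := hroot z hz
  have h2 := hroot w hw0
  have hsum : (g.coeff 1 : ℂ) = -(z + w) := by rw [hw]; ring
  have hprod : (g.coeff 0 : ℂ) = z * w := by rw [hw]; linear_combination hz
  constructor
  · have : ‖(g.coeff 1 : ℂ)‖ ≤ 2 := by
      rw [hsum, norm_neg]
      exact (norm_add_le z w).trans (by rw [h1, h2]; norm_num)
    rw [Complex.norm_intCast] at this
    exact_mod_cast this
  · have : ‖(g.coeff 0 : ℂ)‖ = 1 := by rw [hprod, norm_mul, h1, h2, mul_one]
    rw [Complex.norm_intCast] at this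
    exact_mod_cast this

variable {M : Type*} [CommGroup M] [IsCyclic M] [Finite M]

/-- The `p`-torsion of the kernel of `q - P` is cyclic when `q` is a simple root of the characteristic
polynomial modulo `p`. -/
theorem card_torsion_le_of_multiplicity (P : Matrix (Fin l) (Fin l) ℤ) (q : ℕ) {p : ℕ} (hp : p.Prime)
    (hpM : p ∣ Nat.card M)
    (hm : (P.charpoly.map (Int.castRingHom (ZMod p))).rootMultiplicity (q : ZMod p) ≤ 1) :
    Nat.card (powMonoidHom p : (mpow (M := M) ((q : ℤ) • (1 : Matrix (Fin l) (Fin l) ℤ) - P)).ker →* _).ker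
      ≤ p := by
  classical
  haveI := Fact.mk hp
  set A := (q : ℤ) • (1 : Matrix (Fin l) (Fin l) ℤ) - P with hA
  set Kp := (powMonoidHom p : (mpow (M := M) A).ker →* (mpow (M := M) A).ker).ker
  obtain ⟨ζ, hζ⟩ := exists_prime_orderOf_dvd_card' (G := M) p hpM
  have hmem : ∀ y : M, y ^ p = 1 → y ∈ Subgroup.zpowers ζ := by
    intro y hy
    have hle : Subgroup.zpowers ζ ≤ (powMonoidHom p : M →* M).ker := by
      rw [Subgroup.zpowers_le, MonoidHom.mem_ker, powMonoidHom_apply, ← hζ]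
      exact pow_orderOf_eq_one ζ
    have heq := Subgroup.eq_of_le_of_card_ge hle (by
      rw [IsCyclic.card_powMonoidHom_ker, Nat.card_zpowers, hζ]
      exact Nat.le_of_dvd hp.pos (Nat.gcd_dvd_right _ _))
    rw [heq]
    exact hy
  let E : Module.End (ZMod p) (Fin l → ZMod p) := (P.map (Int.cast : ℤ → ZMod p)).toLin'
  have hz : ∀ x : Kp, ∀ j, ∃ z : ℤ, ζ ^ z = (x.1.1 : Fin l → M) j := fun x j =>
    Subgroup.mem_zpowers_iff.1 (hmem _ (congrFun (congrArg (fun y => (y.1 : Fin l → M)) x.2) j))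
  choose z hz using hz
  let f' : Kp → E.eigenspace (q : ZMod p) := fun x => ⟨fun j => (z x j : ZMod p), by
    rw [Module.End.mem_eigenspace_iff]
    have h1 : mpow A (x.1.1) = 1 := x.1.2
    funext j
    have h2 : ζ ^ (A *ᵥ z x) j = 1 := by
      refine Eq.trans ?_ (congrFun h1 j)
      rw [mpow_apply]
      simp only [Matrix.mulVec, dotProduct]
      rw [ChevCore.zpow_sum']
      refine Finset.prod_congr rfl fun k _ => ?_
      rw [← hz x k, ← _root_.zpow_mul, mul_comm]
    have h3 : (((A *ᵥ z x) j : ℤ) : ZMod p) = 0 := by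
      rw [ZMod.intCast_zmod_eq_zero_iff_dvd, ← hζ]
      exact orderOf_dvd_iff_zpow_eq_one.2 h2
    rw [hA, Matrix.sub_mulVec, Matrix.smul_mulVec, Matrix.one_mulVec, Pi.sub_apply, Pi.smul_apply,
      smul_eq_mul, Int.cast_sub, sub_eq_zero, Int.cast_mul, Int.cast_natCast] at h3
    show (P.map (Int.cast : ℤ → ZMod p) *ᵥ fun j => (z x j : ZMod p)) j = _
    rw [Pi.smul_apply, smul_eq_mul, h3]
    simp [Matrix.mulVec, dotProduct]⟩
  have hf' : Function.Injective f' := by
    intro x y e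
    refine Subtype.ext (Subtype.ext (funext fun j => ?_))
    have h1 : (z x j : ZMod p) = (z y j : ZMod p) := congrFun (congrArg Subtype.val e) j
    rw [← hz x j, ← hz y j]
    have h2 : (orderOf ζ : ℤ) ∣ z y j - z x j := by
      rw [hζ, ← ZMod.intCast_zmod_eq_zero_iff_dvd, Int.cast_sub, h1, sub_self]
    exact (zpow_eq_zpow_iff_modEq.2 ((Int.modEq_iff_dvd).2 h2))
  have hfin : Module.finrank (ZMod p) (E.eigenspace (q : ZMod p)) ≤ 1 := by
    refine (LinearMap.finrank_eigenspace_le E (q : ZMod p)).trans ?_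
    rw [Matrix.charpoly_toLin', show P.map (Int.cast : ℤ → ZMod p) = P.map (Int.castRingHom (ZMod p)) from rfl,
      Matrix.charpoly_map]
    exact hm
  calc Nat.card Kp ≤ Nat.card (E.eigenspace (q : ZMod p)) := Nat.card_le_card_of_injective f' hf'
    _ = p ^ Module.finrank (ZMod p) (E.eigenspace (q : ZMod p)) := by
      rw [Module.natCard_eq_pow_finrank (K := ZMod p), Nat.card_zmod]
    _ ≤ p ^ 1 := Nat.pow_le_pow_right hp.pos hfin
    _ = p := pow_one p

/-- The kernel of `q - P` is cyclic when the characteristic polynomial divides `X ^ h - 1` and the squares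
of the primes dividing `h` do not divide its value at `q`. -/
theorem cyclic_ker_of_separable {P : Matrix (Fin l) (Fin l) ℤ} {h q N : ℕ} {f : ℤ[X]}
    (hP : P.charpoly = f) (hf : f ∣ X ^ h - 1) (hN : (f.eval (q : ℤ)).natAbs = N) (hN0 : N ≠ 0)
    (hdvd : N ∣ Nat.card M) (hsq : ∀ p, p.Prime → p ∣ h → ¬ p ^ 2 ∣ N) :
    IsCyclic (mpow (M := M) ((q : ℤ) • (1 : Matrix (Fin l) (Fin l) ℤ) - P)).ker ∧
      Nat.card (mpow (M := M) ((q : ℤ) • (1 : Matrix (Fin l) (Fin l) ℤ) - P)).ker = N := by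
  classical
  set A := (q : ℤ) • (1 : Matrix (Fin l) (Fin l) ℤ) - P with hA
  have hdetA : A.det.natAbs = N := by
    rw [← hN, ← hP, Matrix.eval_charpoly, hA, Matrix.smul_one_eq_diagonal]
    rfl
  have hdet0 : A.det ≠ 0 := fun e => by rw [e] at hdetA; simp at hdetA; omega
  have hcard := card_ker_of_det_dvd (M := M) A hdet0 (hdetA ▸ hdvd)
  rw [hdetA] at hcard
  refine ⟨isCyclic_of_prime_torsion fun p hp => ?_, hcard⟩
  set Kp := (powMonoidHom p : (mpow (M := M) A).ker →* (mpow (M := M) A).ker).ker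
  haveI := Fact.mk hp
  by_cases hpD : p ∣ N
  swap
  · have hbot : Kp = ⊥ := (Subgroup.eq_bot_iff_forall _).2 fun x hx => by
      have h1 : orderOf x ∣ p := orderOf_dvd_of_pow_eq_one hx
      rcases (Nat.dvd_prime hp).1 h1 with h2 | h2
      · exact orderOf_eq_one_iff.1 h2
      · exact absurd (hcard ▸ h2 ▸ orderOf_dvd_natCard x) hpD
    rw [hbot]
    simp [hp.one_le]
  by_cases hph : p ∣ h
  · have hG : IsPGroup p Kp := fun x => ⟨1, Subtype.ext (by rw [pow_one]; exact x.2)⟩
    obtain ⟨k, hk⟩ := IsPGroup.iff_card.1 hG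
    have h2 : p ^ k ∣ N := hcard ▸ hk ▸ Subgroup.card_subgroup_dvd_card Kp
    have hk2 : k ≤ 1 := by
      by_contra hne
      exact hsq p hp hph ((pow_dvd_pow p (by omega : 2 ≤ k)).trans h2)
    rw [hk]
    calc p ^ k ≤ p ^ 1 := Nat.pow_le_pow_right hp.pos hk2
      _ = p := pow_one p
  · have hne : NeZero ((h : ℕ) : ZMod p) := ⟨fun e => hph ((CharP.cast_eq_zero_iff (ZMod p) p h).1 e)⟩
    refine card_torsion_le_of_multiplicity P q hp (hpD.trans hdvd) ?_
    rw [hP]
    refine rootMultiplicity_le_one_of_separable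
      ((separable_X_pow_sub_C (1 : ZMod p) (n := h) hne.ne one_ne_zero).of_dvd ?_) _
    have h5 := Polynomial.map_dvd (Int.castRingHom (ZMod p)) hf
    rwa [Polynomial.map_sub, Polynomial.map_pow, map_X, Polynomial.map_one, ← map_one C] at h5

end Cfsg.Agent.ChevTori
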