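import Cfsg.Agent.ChevTori.Group
import Cfsg.Agent.ChevTori.Count
import Mathlib.FieldTheory.Finite.Extension

/-!
Self-centralising cyclic maximal tori attached to regular elements of the Weyl group (helper56).
-/

set_option autoImplicit false

namespace Cfsg.Agent.ChevTori

open Cfsg.Lie Cfsg.Agent.ChevGroup Cfsg.Agent.ChevCore Cfsg.Agent.ChevFixed Matrix

universe u v

theorem mem_zpowers_of_pow_eq_one {M : Type*} [CommGroup M] [IsCyclic M] [Finite M] {r : ℕ}
    (hr : r.Prime) {ζ y : M} (hζ : orderOf ζ = r) (hy : y ^ r = 1) : y ∈ Subgroup.zpowers ζ := by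
  have hle : Subgroup.zpowers ζ ≤ (powMonoidHom r : M →* M).ker := by
    rw [Subgroup.zpowers_le, MonoidHom.mem_ker, powMonoidHom_apply, ← hζ]
    exact pow_orderOf_eq_one ζ
  have heq := Subgroup.eq_of_le_of_card_ge hle (by
    rw [IsCyclic.card_powMonoidHom_ker, Nat.card_zpowers, hζ]
    exact Nat.le_of_dvd hr.pos (Nat.gcd_dvd_right _ _))
  rw [heq]
  exact hy

variable {D : ChevalleyDatum} (T : Model D) (hU : UGood D)
  {wit : List (List (Fin T.tab.l) × Fin T.tab.l)} (hwit : T.witB wit = true)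
  {w₀ : List (Fin T.tab.l)} (hlong : T.longestB w₀ = true)
  (hspan : Mat.spanB D (T.posList.map Fin.val) = true)

include hU hwit hlong hspan in
theorem range_mapGroup_of_fixed {F₀ : Type u} [Field F₀] {F : Type v} [Field F] [Fintype F]
    (hcard : Nat.card ↥(D.diagonalSubgroup F) = (Fintype.card F - 1) ^ D.rank)
    (σ : F →+* F) (i : F₀ →+* F) (hi : ∀ b, σ b = b ↔ ∃ y, i y = b) {g : ↥(D.group F)}
    (hg : mapGroup σ g = g) : ∃ y, mapGroup i y = g := by
  have hA : TorusFacts D := torusFacts_of_good hU.toCommGood.toGood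
  set K := relsOfCommGood hU.toCommGood F
  have hker := torus_injective T K hA hcard
  have hred : T.S.Red w₀ := red_of_suffix T.S w₀ fun v i u he => by
    have h := hlong
    simp only [Model.longestB, Bool.and_eq_true, List.all_eq_true, List.mem_range] at h
    have := h.1 v.length (by rw [he]; simp)
    rw [he, List.drop_left] at this
    simpa using this
  have hmem : g ∈ fixGen (T.rel K) σ := mem_fixGen_of_fixed (T.shapeR K) (mapGroup_x T K σ)
    (fun a b ha => T.pres_posList K hspan a b ha) hred (fun a ha => T.longest_neg hlong a ha)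
    (T.group_top K hwit) (fun _ hh hf => H_fixed T K hA hker σ hh hf) hg
  have hle : fixGen (T.rel K) σ ≤ (mapGroup (D := D) i).range := by
    refine (Subgroup.closure_le _).2 ?_
    rintro _ ⟨a, b, hb, rfl⟩
    obtain ⟨y, rfl⟩ := (hi b).1 hb
    refine ⟨⟨⟨D.x _ a.val y, D.x _ a.val (-y), ?_, ?_⟩, Subgroup.subset_closure
      ⟨⟨a.val, T.lt a⟩, y, by simp [ChevalleyDatum.x, T.lt a]⟩⟩, Model.mat_inj (x_map i a.val y)⟩
    all_goals
      apply Matrix.map_injective i.injective
      dsimp only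
      rw [Matrix.map_mul, x_map, x_map, map_neg, ← K.x_add _ (T.lt a),
        Matrix.map_one _ (map_zero i) (map_one i)]
      simp [K.x_zero _ (T.lt a)]
  exact hle hmem

include hU hwit hlong hspan in
/-- A Chevalley group over a field with `q` elements contains a self-centralising cyclic subgroup of
order `Φ_h(q)`, for `φ(h)` equal to the rank and a primitive prime divisor `r` of `q ^ h - 1` prime to
the order of the Weyl group, provided the torus is simply connected. -/
theorem exists_cyclic_self_centralizing {F₀ : Type u} [Field F₀] [Fintype F₀] {q h r : ℕ}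
    [Fact r.Prime] (hq : Fintype.card F₀ = q) (hh : 2 < h) (hl : h.totient = T.tab.l)
    (hrq : orderOf (q : ZMod r) = h) (hrW : ¬ r ∣ Nat.card (weyl T))
    (hdiv : r ∣ Nat.card ↥(D.group F₀))
    (hidx : ∀ (F : Type) [Field F] [Fintype F], Fintype.card F = q ^ h →
      ∃ N, Nat.card ↥(D.group F) = Nat.card ↥(D.diagonalSubgroup F) * N ∧ ¬ r ∣ N)
    (htor : ∀ (F : Type) [Field F] [Fintype F],
      Nat.card ↥(D.diagonalSubgroup F) = (Fintype.card F - 1) ^ D.rank) :
    ∃ C : Subgroup ↥(D.group F₀), IsCyclic ↥C ∧ Nat.card ↥C = NumberTheory.Phi h q ∧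
      Subgroup.centralizer (C : Set ↥(D.group F₀)) = C := by
  classical
  have hr : r.Prime := Fact.out
  obtain ⟨p, hchar⟩ := CharP.exists F₀
  haveI : Fact p.Prime := ⟨(CharP.char_is_prime_or_zero F₀ p).resolve_right fun e => by
    subst e
    haveI := CharP.charP_to_charZero F₀
    exact not_finite F₀⟩
  haveI : NeZero h := ⟨by omega⟩
  let F := FiniteField.Extension F₀ p h
  letI : Fintype F := Fintype.ofFinite F
  have hQ : Fintype.card F = q ^ h := by
    rw [← hq, ← Nat.card_eq_fintype_card, ← Nat.card_eq_fintype_card]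
    exact FiniteField.natCard_extension F₀ p h
  let i : F₀ →+* F := algebraMap F₀ F
  let σ : F →+* F := (FiniteField.Extension.frob F₀ p h).toRingEquiv.toRingHom
  have hσ : ∀ b, σ b = b ^ q := fun b => by
    rw [← hq, ← Nat.card_eq_fintype_card]
    exact FiniteField.Extension.frob_apply F₀ p h
  have hi : ∀ b, σ b = b ↔ ∃ y, i y = b := by
    intro b
    constructor
    · intro hb
      have hfix : ∀ g : Gal(F/F₀), g b = b := by
        intro g
        obtain ⟨m, -, rfl⟩ := FiniteField.Extension.exists_frob_pow_eq F₀ p h g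
        induction m with
        | zero => rfl
        | succ m ih =>
          rw [pow_succ', AlgEquiv.mul_apply, ih]
          exact hb
      exact IsGalois.mem_range_algebraMap_iff_fixed b |>.2 hfix
    · rintro ⟨y, rfl⟩
      exact (FiniteField.Extension.frob F₀ p h).commutes y
  set ι := mapGroup (D := D) i
  set τ := mapGroup (D := D) σ
  have hτι : ∀ y, τ (ι y) = ι y := fun y => Model.mat_inj (Matrix.ext fun a b => (hi _).2 ⟨_, rfl⟩)
  set R := rr (F := F) T hU
  have hτx : ∀ a b, τ (R.x a b) = R.x a (σ b) := mapGroup_x T _ σ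
  have hτH : ∀ {t}, t ∈ R.H → τ t = t ^ q := by
    intro t ht
    have h1 : (⟨τ t, map_H hτx ht⟩ : R.H) = ⟨t, ht⟩ ^ q := by
      refine psi_injective T hU ?_
      rw [map_pow]
      funext j
      refine Units.ext ?_
      rw [Pi.pow_apply, Units.val_pow_eq_pow_val, val_psi, val_psi]
      exact hσ _
    exact congrArg Subtype.val h1
  -- an element of order `r`, conjugated into the torus
  obtain ⟨x, hx⟩ := exists_prime_orderOf_dvd_card' r hdiv
  obtain ⟨N, hN, hrN⟩ := hidx F hQ
  obtain ⟨P₀⟩ := (inferInstance : Nonempty (Sylow r R.H))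
  obtain ⟨Q, hQle⟩ := (P₀.2.map R.H.subtype).exists_le_sylow
  have hQH : (Q : Subgroup ↥(D.group F)) ≤ R.H := by
    have hcard : Nat.card (P₀.1.map R.H.subtype) = Nat.card Q := by
      rw [Subgroup.card_map_of_injective Subtype.coe_injective, Sylow.card_eq_multiplicity,
        Sylow.card_eq_multiplicity, hN, T.card_H_eq (relsOfCommGood hU.toCommGood F),
        Nat.factorization_mul Nat.card_pos.ne' (show N ≠ 0 by rintro rfl; exact hrN (dvd_zero r)), Finsupp.add_apply,
        Nat.factorization_eq_zero_of_not_dvd hrN, add_zero]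
    rw [← Subgroup.eq_of_le_of_card_ge hQle hcard.ge]
    rintro _ ⟨y, -, rfl⟩
    exact y.2
  have hxr : orderOf (ι x) = r := by
    rw [orderOf_injective ι (mapGroup_injective i), hx]
  have hxp : IsPGroup r (Subgroup.zpowers (ι x)) := by
    refine IsPGroup.of_card (n := 1) ?_
    rw [Nat.card_zpowers, hxr, pow_one]
  obtain ⟨S, hS⟩ := hxp.exists_le_sylow
  obtain ⟨g, hg⟩ := MulAction.exists_smul_eq (↥(D.group F)) S Q
  set t₀ := g * ι x * g⁻¹ with ht₀
  have ht₀H : t₀ ∈ R.H := by
    refine hQH ?_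
    rw [← hg]
    exact ⟨ι x, hS (Subgroup.mem_zpowers _), rfl⟩
  have ht₀r : orderOf t₀ = r := by
    rw [← hxr]
    exact orderOf_injective (MulAut.conj g).toMonoidHom (MulAut.conj g).injective (ι x)
  let t₁ : R.H := ⟨t₀, ht₀H⟩
  have ht₁r : t₁ ^ r = 1 := Subtype.ext (by
    show t₀ ^ r = 1
    rw [← ht₀r]; exact pow_orderOf_eq_one _)
  obtain ⟨j₀, hj₀⟩ : ∃ j, psi T hU t₁ j ≠ 1 := by
    by_contra hcon
    push Not at hcon
    have h1 : t₁ = 1 := psi_injective T hU (by rw [map_one]; exact funext hcon)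
    have h2 : t₀ = 1 := congrArg Subtype.val h1
    rw [h2, orderOf_one] at ht₀r
    exact hr.ne_one ht₀r.symm
  set ζ := psi T hU t₁ j₀
  have hψr : ∀ j, psi T hU t₁ j ^ r = 1 := fun j => by
    rw [← Pi.pow_apply, ← map_pow, ht₁r, map_one]; rfl
  have hζ : orderOf ζ = r := orderOf_eq_prime (hψr j₀) hj₀
  choose b hb using fun j => Subgroup.mem_zpowers_iff.1 (mem_zpowers_of_pow_eq_one hr hζ (hψr j))
  have hζdvd : ∀ a : ℤ, ζ ^ a = 1 ↔ (r : ℤ) ∣ a := fun a => by
    rw [← hζ]; exact orderOf_dvd_iff_zpow_eq_one.symm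
  have hchi : ∀ s, chi T t₀ s = ((ζ ^ ev T b s : Fˣ) : F) := by
    intro s
    rw [show t₀ = t₁.1 from rfl, chi_cf T hU]
    congr 1
    rw [ev, ChevCore.zpow_sum']
    exact Finset.prod_congr rfl fun j _ => by rw [← hb j, ← _root_.zpow_mul, mul_comm]
  have hmpow : ∀ (A : Matrix (Fin T.tab.l) (Fin T.tab.l) ℤ) j,
      mpow A (psi T hU t₁) j = ζ ^ (A *ᵥ b) j := by
    intro A j
    simp only [mpow_apply, Matrix.mulVec, dotProduct]
    rw [ChevCore.zpow_sum']
    exact Finset.prod_congr rfl fun k _ => by rw [← hb k, ← _root_.zpow_mul, mul_comm]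
  -- the Frobenius twist
  set n := τ g * g⁻¹ with hn
  have hnt₀ : n * t₀ * n⁻¹ = t₀ ^ q := by
    rw [← hτH ht₀H, ht₀, map_mul, map_mul, map_inv, hτι, hn]
    group
  obtain ⟨b₁, hb₁, v, -, b₂, hb₂, hnd⟩ := R.exists_bruhat (g := n)
    ((T.group_top (relsOfCommGood hU.toCommGood F) hwit).symm ▸ Subgroup.mem_top n)
  have key : ∀ {t t'}, t ∈ R.H → t' ∈ R.H → n * t * n⁻¹ = t' → R.nw v * t * (R.nw v)⁻¹ = t' :=
    fun {t t'} ht ht' e => conj_key T hU hlong hspan v ht ht' hb₁ hb₂ (by
      rw [← hnd, ← e]; group)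
  set γ := pw T v.reverse
  have hγ : γ ∈ weyl T := prod_mem_weyl T _
  set A := Pg T γ with hA
  have heig0 : ∀ j, (r : ℤ) ∣ (A *ᵥ b) j - (q : ℤ) * b j := by
    intro j
    have h1 := psi_conj T hU v t₁
    have h2 : (⟨R.nw v * t₁.1 * (R.nw v)⁻¹, nw_conj_mem_H _ v t₁.2⟩ : R.H) = t₁ ^ q :=
      Subtype.ext (key ht₀H (pow_mem ht₀H q) hnt₀)
    rw [h2, map_pow] at h1
    have h3 := congrFun h1 j
    rw [Pi.pow_apply, hmpow, ← hb j, ← zpow_natCast, ← _root_.zpow_mul] at h3
    rw [← hζdvd, _root_.zpow_sub, ← h3, mul_comm (q : ℤ), mul_inv_cancel]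
  have heig : A.map (Int.cast : ℤ → ZMod r) *ᵥ (fun j => (b j : ZMod r)) =
      (q : ZMod r) • fun j => (b j : ZMod r) := by
    funext j
    have h1 := (ZMod.intCast_zmod_eq_zero_iff_dvd _ r).2 (heig0 j)
    rw [Int.cast_sub, sub_eq_zero, Int.cast_mul, Int.cast_natCast] at h1
    rw [Pi.smul_apply, smul_eq_mul, ← h1]
    simp [Matrix.mulVec, dotProduct]
  have hbj₀ : ¬ (r : ℤ) ∣ b j₀ := fun hd => hj₀ (by
    show ζ = 1
    have := hb j₀
    rw [(hζdvd _).2 hd] at this
    exact this.symm)
  have hγM : A ^ orderOf γ = 1 := by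
    rw [hA, ← Pg_pow hU.toCommGood.toGood hγ, pow_orderOf_eq_one, Pg_one hU.toCommGood.toGood]
  have hrM : ¬ r ∣ orderOf γ := fun hd => hrW (hd.trans (by
    rw [← Subgroup.orderOf_mk γ hγ]
    exact orderOf_dvd_natCard _))
  have hb0 : (fun j => (b j : ZMod r)) ≠ 0 := fun e =>
    hbj₀ ((ZMod.intCast_zmod_eq_zero_iff_dvd _ r).1 (congrFun e j₀))
  have hcp := charpoly_eq_cyclotomic hγM hrM hrq hb0 heig hl
  have hwit' := T.witness hwit
  have hreg0 := regular hU.toCommGood.toGood hwit' hrW ⟨j₀, hbj₀⟩ hγ (by omega) hcp heig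
  have hreg : ∀ s, chi T t₀ s ≠ 1 := fun s e => by
    rw [hchi, Units.val_eq_one, hζdvd] at e
    exact hreg0 s e
  have hstab : ∀ w, R.nw w * t₀ * (R.nw w)⁻¹ = t₀ → ∀ s, T.S.actw w s = s := by
    intro w hw s
    have h1 := psi_conj T hU w t₁
    have h2 : (⟨R.nw w * t₁.1 * (R.nw w)⁻¹, nw_conj_mem_H _ w t₁.2⟩ : R.H) = t₁ := Subtype.ext hw
    rw [h2] at h1
    have hst : pw T w.reverse ∈ stab T b r := by
      refine ⟨prod_mem_weyl T _, fun u => ?_⟩
      rw [ev_weyl' hU.toCommGood.toGood (γ := pw T w.reverse) (prod_mem_weyl T _),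
        show ev T b u = cf T u ⬝ᵥ b from rfl, ← dotProduct_sub]
      refine Finset.dvd_sum fun j _ => dvd_mul_of_dvd_right ?_ _
      have h3 := congrFun h1 j
      rw [hmpow, ← hb j] at h3
      rw [Pi.sub_apply, ← hζdvd, _root_.zpow_sub, ← h3, mul_inv_cancel]
    have h4 := stab_eq_one hU.toCommGood.toGood (fun y hy hpos => fix_of_pos T hU F hy hpos) hrW hreg0 hst
    have h5 : T.S.actw w.reverse s = s := by
      rw [← pw_apply, h4]; rfl
    have h6 := T.S.actw_reverse w s
    rwa [h5] at h6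
  have hcent : ∀ {t}, t * t₀ = t₀ * t → t ∈ R.H := fun {t} e =>
    mem_H_of_commute T hU hlong hspan hwit ht₀H hreg hstab e
  -- the centraliser
  set C := Subgroup.centralizer ({x} : Set ↥(D.group F₀)) with hC
  have hmemH : ∀ y : C, g * ι y.1 * g⁻¹ ∈ R.H := fun y => hcent (by
    have h1 : y.1 * x = x * y.1 := Subgroup.mem_centralizer_singleton_iff.1 y.2
    calc g * ι y.1 * g⁻¹ * (g * ι x * g⁻¹) = g * ι (y.1 * x) * g⁻¹ := by rw [map_mul]; group
      _ = _ := by rw [h1, map_mul, ht₀]; group)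
  let φ : C →* R.H :=
    { toFun := fun y => ⟨g * ι y.1 * g⁻¹, hmemH y⟩
      map_one' := Subtype.ext (by simp)
      map_mul' := fun y z => Subtype.ext (by
        show g * ι (y.1 * z.1) * g⁻¹ = (g * ι y.1 * g⁻¹) * (g * ι z.1 * g⁻¹)
        rw [map_mul]; group) }
  have hφinj : Function.Injective φ := by
    intro y z e
    have h1 : g * ι y.1 * g⁻¹ = g * ι z.1 * g⁻¹ := congrArg Subtype.val e
    exact Subtype.ext (mapGroup_injective i (mul_left_cancel (mul_right_cancel h1)))
  set B := (q : ℤ) • (1 : Matrix (Fin T.tab.l) (Fin T.tab.l) ℤ) - A with hB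
  have hBker : ∀ c : Fin T.tab.l → Fˣ, c ∈ (mpow B).ker ↔ mpow A c = c ^ q := by
    intro c
    have h1 : ∀ j, mpow B c j = c j ^ q * (mpow A c j)⁻¹ := by
      intro j
      simp only [mpow_apply, hB, Matrix.sub_apply, Matrix.smul_apply, Matrix.one_apply, smul_eq_mul,
        mul_ite, mul_one, mul_zero, _root_.zpow_sub, Finset.prod_mul_distrib, Finset.prod_inv_distrib]
      congr 1
      rw [Finset.prod_eq_single j]
      · simp
      · intro k _ hk; simp [Ne.symm hk]
      · simp
    rw [MonoidHom.mem_ker]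
    constructor
    · intro e
      funext j
      have := congrFun e j
      rw [h1, Pi.one_apply, mul_inv_eq_one] at this
      exact this.symm
    · intro e
      funext j
      rw [h1, e, Pi.pow_apply, mul_inv_cancel]
      rfl
  have hrange : φ.range = (mpow B).ker.comap (psi T hU) := by
    apply le_antisymm
    · rintro _ ⟨y, rfl⟩
      rw [Subgroup.mem_comap, hBker, ← map_pow, ← psi_conj T hU v]
      congr 1
      refine Subtype.ext (key (φ y).2 (pow_mem (φ y).2 q) ?_)
      show n * (g * ι y.1 * g⁻¹) * n⁻¹ = (g * ι y.1 * g⁻¹) ^ q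
      rw [← hτH (hmemH y), map_mul, map_mul, map_inv, hτι, hn]
      group
    · intro t ht
      rw [Subgroup.mem_comap, hBker, ← map_pow, ← psi_conj T hU v] at ht
      have h1 : R.nw v * t.1 * (R.nw v)⁻¹ = t.1 ^ q := congrArg Subtype.val (psi_injective T hU ht)
      -- `n` normalises the torus
      have h2 : n * t.1 * n⁻¹ ∈ R.H := by
        refine hcent ?_
        have hc : t.1 * t₀ = t₀ * t.1 := H_commute T hU t.2 ht₀H
        have hco : (orderOf t₀).Coprime q := by
          rw [ht₀r]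
          refine (hr.coprime_iff_not_dvd).2 fun hd => ?_
          rw [(ZMod.natCast_eq_zero_iff q r).2 hd, orderOf_zero] at hrq
          omega
        have hcm : Commute (n * t.1 * n⁻¹) (n * t₀ * n⁻¹) := by
          show _ * _ = _ * _
          calc n * t.1 * n⁻¹ * (n * t₀ * n⁻¹) = n * (t.1 * t₀) * n⁻¹ := by group
            _ = _ := by rw [hc]; group
        rw [hnt₀] at hcm
        obtain ⟨a, ha⟩ := exists_pow_eq_self_of_coprime hco.symm
        rw [← ha]
        exact hcm.pow_right a
      have h3 := key t.2 h2 rfl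
      rw [h1] at h3
      obtain ⟨y, hy⟩ := range_mapGroup_of_fixed T hU hwit hlong hspan (htor F) σ i hi
        (g := g⁻¹ * t.1 * g) (by
          show τ _ = _
          rw [map_mul, map_mul, map_inv, hτH t.2, h3, hn]
          group)
      have hyC : y ∈ C := by
        rw [hC, Subgroup.mem_centralizer_singleton_iff]
        refine mapGroup_injective i ?_
        have hc : t.1 * t₀ = t₀ * t.1 := H_commute T hU t.2 ht₀H
        show ι (y * x) = ι (x * y)
        rw [map_mul, map_mul]
        show mapGroup i y * ι x = ι x * mapGroup i y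
        rw [hy]
        calc g⁻¹ * t.1 * g * ι x = g⁻¹ * (t.1 * t₀) * g := by rw [ht₀]; group
          _ = _ := by rw [hc, ht₀]; group
      refine ⟨⟨y, hyC⟩, Subtype.ext ?_⟩
      show g * mapGroup i y * g⁻¹ = t.1
      rw [hy]; group
  have hbij : Function.Bijective (psi (F := F) T hU) := by
    haveI : Finite (Fin T.tab.l → Fˣ) := inferInstance
    refine (psi_injective T hU).bijective_of_nat_card_le ?_
    rw [← T.card_H_eq (relsOfCommGood hU.toCommGood F), htor F, Nat.card_pi, Finset.prod_const,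
      Finset.card_univ, Fintype.card_fin, Nat.card_eq_fintype_card, Fintype.card_units, T.l_eq]
  let e₁ : C ≃* φ.range := MonoidHom.ofInjective hφinj
  let e₂ : φ.range ≃* (mpow (M := Fˣ) B).ker :=
    (MulEquiv.subgroupCongr hrange).trans
      (MulEquiv.ofBijective ((psi T hU).subgroupComap (mpow B).ker)
        ⟨fun a b e => Subtype.ext (hbij.1 (congrArg Subtype.val e)),
          fun c => by
            obtain ⟨t, ht⟩ := hbij.2 c.1
            exact ⟨⟨t, by rw [Subgroup.mem_comap, ht]; exact c.2⟩, Subtype.ext ht⟩⟩)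
  obtain ⟨hcyc, hcard⟩ := cyclic_ker (M := Fˣ) hh (q := q) (by rw [← hq]; exact Fintype.one_lt_card) hcp
    (by rw [Nat.card_eq_fintype_card, Fintype.card_units, hQ])
  haveI : IsCyclic C := by
    haveI := hcyc
    exact isCyclic_of_surjective (e₁.trans e₂).symm (e₁.trans e₂).symm.surjective
  refine ⟨C, inferInstance, (Nat.card_congr (e₁.trans e₂).toEquiv).trans hcard, ?_⟩
  apply le_antisymm
  · intro z hz
    rw [hC, Subgroup.mem_centralizer_singleton_iff]
    exact (Subgroup.mem_centralizer_iff.1 hz x (Subgroup.mem_centralizer_singleton_iff.2 rfl)).symm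
  · intro z hz
    rw [Subgroup.mem_centralizer_iff]
    intro w hw
    letI : CommGroup C := IsCyclic.commGroup
    exact congrArg Subtype.val (mul_comm (⟨w, hw⟩ : C) ⟨z, hz⟩)

end Cfsg.Agent.ChevTori
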