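import Cfsg.Agent.ChevTori.Parabolic
import Cfsg.Agent.ChevTori.EigenDvd
import Cfsg.Agent.ChevGroup.Mat.E6
import Cfsg.Agent.Lib.ChevCore.SepAll

/-!
Elements of the Weyl group of type E6 with an eigenvalue of order 12 have characteristic polynomial
`Φ₁₂ Φ₃`.
-/

set_option autoImplicit false

namespace Cfsg.Agent.ChevTori.E6Tor

open Cfsg.Lie Cfsg.Agent.ChevGroup Polynomial Matrix

abbrev mdl : Model chevE6 := TypeE6.model

theorem hG6 : ChevCore.Good chevE6 := ChevCore.uGoodE6.toCommGood.toGood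

theorem fix6 : ∀ x ∈ weyl mdl, (∀ s, mdl.S.pos s → mdl.S.pos (x s)) → x = 1 := fun _ hx h =>
  fix_of_pos mdl ChevCore.uGoodE6 ℚ hx h

/-- The Cartan matrix. -/
def C6 : Matrix (Fin 6) (Fin 6) ℤ :=
  !![2, 0, -1, 0, 0, 0; 0, 2, 0, -1, 0, 0; -1, 0, 2, -1, 0, 0; 0, -1, -1, 2, -1, 0;
    0, 0, 0, -1, 2, -1; 0, 0, 0, 0, -1, 2]

theorem cartan_eq :
    (Matrix.of fun i j : Fin 6 => chevE6.cartan j.val (chevE6.simple i.val)) = C6 := by decide +kernel

theorem cartT_eq (i j : Fin 6) : cartT mdl i j = C6 i j :=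
  (congrArg (chevE6.cartan j.val) (mdl.simple_eq i)).trans (congrFun (congrFun cartan_eq i) j)

theorem det_C6 : C6.det = 3 := by decide +kernel

theorem det_C5 : ∀ i : Fin 6, ¬ (C6.submatrix i.succAbove i.succAbove).det ∣ 2 := by decide +kernel

theorem det_C4 : ∀ (i : Fin 6) (j : Fin 5),
    ¬ (C6.submatrix (i.succAbove ∘ j.succAbove) (i.succAbove ∘ j.succAbove)).det ∣ 1 := by
  decide +kernel

theorem cyclotomic_twelve : cyclotomic 12 ℤ = X ^ 4 - X ^ 2 + 1 := by
  have h := cyclotomic_expand_eq_cyclotomic (p := 2) (n := 6) Nat.prime_two (by norm_num) ℤ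
  rw [cyclotomic_six] at h
  rw [show (12 : ℕ) = 6 * 2 from rfl, ← h]
  simp [← pow_mul]

theorem charpoly_unit_col {n : ℕ} (A : Matrix (Fin (n + 1)) (Fin (n + 1)) ℤ) (k : Fin (n + 1))
    (hcol : ∀ j, A j k = if j = k then 1 else 0) :
    A.charpoly = (X - 1) * (A.submatrix k.succAbove k.succAbove).charpoly := by
  rw [Matrix.charpoly, Matrix.det_succ_column _ k, Finset.sum_eq_single k]
  · rw [charmatrix_apply_eq, hcol, if_pos rfl, map_one, Even.neg_one_pow ⟨k.val, rfl⟩, one_mul]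
    congr 1
    rw [Matrix.charpoly]
    congr 1
    ext a b
    simp only [Matrix.submatrix_apply, charmatrix_apply, Matrix.diagonal_apply,
      Fin.succAbove_right_injective.eq_iff]
  · intro j _ hj
    rw [charmatrix_apply_ne _ _ _ hj, hcol, if_neg hj, map_zero, neg_zero, mul_zero, zero_mul]
  · simp

theorem det_one_sub {n : ℕ} (A : Matrix (Fin n) (Fin n) ℤ) : (1 - A).det = A.charpoly.eval 1 := by
  rw [Matrix.eval_charpoly, Matrix.scalar_apply, Matrix.diagonal_one]

set_option maxRecDepth 4000 in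
set_option maxHeartbeats 1000000 in
/-- The characteristic polynomial of an element with an eigenvalue of order 12. -/
theorem charpoly_eq {γ : Equiv.Perm (Fin mdl.tab.n)} (hγ : γ ∈ weyl mdl)
    (h12 : cyclotomic 12 ℤ ∣ (Pg mdl γ).charpoly) :
    (Pg mdl γ).charpoly = cyclotomic 12 ℤ * cyclotomic 3 ℤ := by
  set A : Matrix (Fin 6) (Fin 6) ℤ := Pg mdl γ with hA
  change cyclotomic 12 ℤ ∣ A.charpoly at h12
  show A.charpoly = _
  obtain ⟨g, hg⟩ := h12
  have hgm : g.Monic := (cyclotomic.monic 12 ℤ).of_mul_monic_left (hg ▸ A.charpoly_monic)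
  have hdeg : g.natDegree = 2 := by
    have h := congrArg natDegree hg
    rw [(cyclotomic.monic 12 ℤ).natDegree_mul hgm, natDegree_cyclotomic,
      A.charpoly_natDegree_eq_dim, Fintype.card_fin, show Nat.totient 12 = 4 from rfl] at h
    omega
  have hM : A ^ orderOf γ = 1 :=
    (Pg_pow hG6 hγ (orderOf γ)).symm.trans (by rw [pow_orderOf_eq_one]; exact Pg_one hG6)
  obtain ⟨hform, ha, hc⟩ := quadratic_factor (orderOf_pos γ).ne' hM hgm hdeg ⟨_, hg.trans (mul_comm _ _)⟩
  set a := g.coeff 1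
  set c := g.coeff 0
  have hev : (1 - A).det = 1 + a + c := by
    rw [det_one_sub, hg, cyclotomic_twelve, hform]
    simp
  have h3 : (3 : ℤ) ∣ 1 + a + c := by
    rw [← hev]
    have h := det_cartT_dvd hG6 (S := Set.univ) (γ := γ) (weylS_univ mdl ▸ hγ) (k := 6) id
      Function.injective_id (fun x _ => ⟨x, rfl⟩)
    have e : (Matrix.submatrix (cartT mdl) (id : Fin 6 → Fin 6) id).det = 3 :=
      (congrArg Matrix.det (Matrix.ext cartT_eq)).trans det_C6
    exact e.symm.dvd.trans h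
  have hcases : (a = 1 ∧ c = 1) ∨ (1 + a + c = 0 ∧ g = (X - 1) * (X - C c)) := by
    rw [abs_le] at ha
    rcases (abs_eq (zero_le_one' ℤ)).1 hc with hc1 | hc1
    · rcases (show a = 1 ∨ a = -2 by omega) with h | h
      · exact Or.inl ⟨h, hc1⟩
      · refine Or.inr ⟨by omega, ?_⟩
        rw [hform, h, hc1]
        simp only [map_neg, map_ofNat, map_one]
        ring
    · refine Or.inr ⟨by omega, ?_⟩
      rw [hform, show a = 0 by omega, hc1]
      simp only [map_neg, map_zero, map_one]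
      ring
  rcases hcases with ⟨ha1, hc1⟩ | ⟨h0, hfac⟩
  · rw [hg, hform, ha1, hc1, cyclotomic_three]
    simp
  exfalso
  obtain ⟨v, hv, hv0⟩ := Matrix.exists_mulVec_eq_zero_iff.2 (hev.trans h0)
  rw [Matrix.sub_mulVec, Matrix.one_mulVec, sub_eq_zero] at hv0
  obtain ⟨j₀, hj₀⟩ := Function.ne_iff.1 hv
  obtain ⟨u, hu, (i : Fin 6), -, hγ1⟩ := descend hG6 fix6 (S := Set.univ) (weylS_univ mdl ▸ hγ) (a := v) hv0.symm
    ⟨j₀, trivial, hj₀⟩
  set γ1 := u⁻¹ * γ * u
  set A1 : Matrix (Fin 6) (Fin 6) ℤ := Pg mdl γ1 with hA1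
  have hcol : ∀ j, A1 j i = if j = i then 1 else 0 := fun j => (Pg_col hG6 hγ1 j (fun h => h.2 rfl)).trans (by congr 1)
  set B := A1.submatrix (Fin.succAbove (n := 5) i) (Fin.succAbove (n := 5) i) with hB
  have hX1 : (X - 1 : ℤ[X]) ≠ 0 := by
    rw [← map_one C]; exact X_sub_C_ne_zero 1
  have hcB : B.charpoly = cyclotomic 12 ℤ * (X - C c) := by
    refine mul_left_cancel₀ hX1 ?_
    rw [← charpoly_unit_col A1 i hcol, show A1.charpoly = A.charpoly from charpoly_Pg_conj hG6 hγ (weylS_le mdl _ hu), hg, hfac]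
    ring
  have hevB : (1 - B).det = 1 - c := by
    rw [det_one_sub, hcB, cyclotomic_twelve]
    simp
  have hS1 : ∀ x : Fin 6, x ≠ i → ∃ y, Fin.succAbove (n := 5) i y = x := fun x hx =>
    Fin.exists_succAbove_eq hx
  have h5 : (C6.submatrix (Fin.succAbove (n := 5) i) (Fin.succAbove (n := 5) i)).det ∣ 1 - c := by
    rw [← hevB]
    have h := det_cartT_dvd hG6 hγ1 (Fin.succAbove (n := 5) i) Fin.succAbove_right_injective
      (fun x hx => hS1 x fun e => hx.2 e)
    have e : Matrix.submatrix (cartT mdl) (Fin.succAbove (n := 5) i) (Fin.succAbove (n := 5) i) =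
        C6.submatrix (Fin.succAbove (n := 5) i) (Fin.succAbove (n := 5) i) :=
      Matrix.ext fun x y => cartT_eq _ _
    exact (congrArg Matrix.det e).symm.dvd.trans h
  rcases (abs_eq (zero_le_one' ℤ)).1 hc with hc1 | hc1
  swap
  · rw [hc1] at h5
    exact det_C5 i (by simpa using h5)
  rw [hc1, sub_self] at hevB
  obtain ⟨v', hv', hv'0⟩ := Matrix.exists_mulVec_eq_zero_iff.2 hevB
  rw [Matrix.sub_mulVec, Matrix.one_mulVec, sub_eq_zero] at hv'0
  -- a fixed vector extending `v'`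
  have hres : ∀ w : Fin 6 → ℤ, (A1 *ᵥ w) ∘ Fin.succAbove (n := 5) i = B *ᵥ (w ∘ Fin.succAbove (n := 5) i) := by
    intro w
    funext x
    simp only [Function.comp_apply, Matrix.mulVec, dotProduct, hB, Matrix.submatrix_apply]
    rw [Fin.sum_univ_succAbove _ i, hcol, if_neg (Fin.succAbove_ne i x), zero_mul, zero_add]
  set w₀ : Fin 6 → ℤ := Fin.insertNth (α := fun _ => ℤ) i 0 v'
  set M := orderOf γ1
  have hA1M : A1 ^ M = 1 :=
    (Pg_pow hG6 (weylS_le mdl _ hγ1) M).symm.trans (by rw [pow_orderOf_eq_one]; exact Pg_one hG6)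
  set w := (∑ m ∈ Finset.range M, A1 ^ m) *ᵥ w₀ with hw
  have hwfix : A1 *ᵥ w = w := by
    have h := mul_geom_sum A1 M
    rw [hA1M, sub_self, sub_mul, one_mul, sub_eq_zero] at h
    rw [hw, Matrix.mulVec_mulVec, h]
  have hpow : ∀ m, (A1 ^ m *ᵥ w₀) ∘ Fin.succAbove (n := 5) i = v' := by
    intro m
    induction m with
    | zero =>
      funext x
      rw [pow_zero, Matrix.one_mulVec]
      exact Fin.insertNth_apply_succAbove (α := fun _ => ℤ) i 0 v' x
    | succ m ih => rw [pow_succ', ← Matrix.mulVec_mulVec, hres, ih, ← hv'0]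
  have hwres : ∀ x, w (Fin.succAbove (n := 5) i x) = M * v' x := by
    intro x
    rw [hw, Matrix.sum_mulVec, Finset.sum_apply]
    refine (Finset.sum_congr rfl (g := fun _ => v' x) fun m _ => congrFun (hpow m) x).trans ?_
    simp
  obtain ⟨x₀, hx₀⟩ := Function.ne_iff.1 hv'
  obtain ⟨u', hu', i', hi', hγ2⟩ := descend hG6 fix6 hγ1 (a := w) hwfix
    ⟨Fin.succAbove (n := 5) i x₀, ⟨trivial, fun e => Fin.succAbove_ne i x₀ e⟩, by
      rw [hwres]; exact mul_ne_zero (by exact_mod_cast (orderOf_pos γ1).ne') hx₀⟩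
  obtain ⟨j, rfl⟩ := hS1 i' (fun e => hi'.2 e)
  set γ2 := u'⁻¹ * γ1 * u'
  set A2 : Matrix (Fin 6) (Fin 6) ℤ := Pg mdl γ2 with hA2
  have hcol2 : ∀ x, A2 x i = if x = i then 1 else 0 := fun x =>
    (Pg_col hG6 hγ2 x (fun h => h.1.2 rfl)).trans (by congr 1)
  have hcol2' : ∀ x, A2.submatrix (Fin.succAbove (n := 5) i) (Fin.succAbove (n := 5) i) x j =
      if x = j then 1 else 0 := by
    intro x
    rw [Matrix.submatrix_apply]
    refine (Pg_col hG6 hγ2 (Fin.succAbove (n := 5) i x) (fun h => h.2 rfl)).trans ?_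
    by_cases hxj : x = j
    · subst hxj
      rw [if_pos rfl]
      exact if_pos rfl
    · rw [if_neg hxj]
      exact if_neg fun e => hxj (Fin.succAbove_right_injective e)
  set e2 : Fin 4 → Fin 6 := Fin.succAbove (n := 5) i ∘ Fin.succAbove (n := 4) j with he2
  have hcB2 : (A2.submatrix e2 e2).charpoly = cyclotomic 12 ℤ := by
    refine mul_left_cancel₀ hX1 (mul_left_cancel₀ hX1 ?_)
    rw [he2, ← Matrix.submatrix_submatrix, ← charpoly_unit_col _ j hcol2', ← charpoly_unit_col A2 i hcol2,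
      show A2.charpoly = A1.charpoly from charpoly_Pg_conj hG6 (weylS_le mdl _ hγ1) (weylS_le mdl _ hu'),
      show A1.charpoly = A.charpoly from charpoly_Pg_conj hG6 hγ (weylS_le mdl _ hu), hg, hfac, hc1]
    simp only [map_one]
    ring
  refine det_C4 i j ?_
  have h := det_cartT_dvd hG6 hγ2 e2 (Fin.succAbove_right_injective.comp Fin.succAbove_right_injective)
    (fun x hx => by
      obtain ⟨y, rfl⟩ := hS1 x fun e => hx.1.2 e
      obtain ⟨z, rfl⟩ := Fin.exists_succAbove_eq (x := y) (y := j) fun e => hx.2 (by rw [e]; rfl)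
      exact ⟨z, rfl⟩)
  have e : Matrix.submatrix (cartT mdl) e2 e2 = C6.submatrix e2 e2 := Matrix.ext fun x y => cartT_eq _ _
  have e' : (1 - Matrix.submatrix (Pg mdl γ2) e2 e2).det = 1 := by
    rw [det_one_sub, show Matrix.submatrix (Pg mdl γ2) e2 e2 = A2.submatrix e2 e2 from rfl, hcB2,
      cyclotomic_twelve]
    simp
  exact ((congrArg Matrix.det e).symm.dvd.trans h).trans e'.dvd

end Cfsg.Agent.ChevTori.E6Tor
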