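import Cfsg.Agent.ChevTori.Parabolic

/-!
The invariant form of a simply laced root lattice in the coordinates of a model, and its reflections.
-/

set_option autoImplicit false

namespace Cfsg.Agent.ChevTori

open Cfsg.Lie Cfsg.Agent.ChevGroup Cfsg.Agent.ChevCore Matrix

variable {D : ChevalleyDatum} (T : Model D)

/-- The form of the Cartan matrix on rows. -/
noncomputable def bf (x y : Fin T.tab.l → ℤ) : ℤ := (x ᵥ* cartT T) ⬝ᵥ y

theorem bf_add_left (x x' y : Fin T.tab.l → ℤ) : bf T (x + x') y = bf T x y + bf T x' y := by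
  rw [bf, Matrix.add_vecMul, add_dotProduct]; rfl

theorem bf_sub_left (x x' y : Fin T.tab.l → ℤ) : bf T (x - x') y = bf T x y - bf T x' y := by
  rw [bf, Matrix.sub_vecMul, sub_dotProduct]; rfl

theorem bf_sub_right (x y y' : Fin T.tab.l → ℤ) : bf T x (y - y') = bf T x y - bf T x y' :=
  dotProduct_sub _ _ _

theorem bf_smul_left (a : ℤ) (x y : Fin T.tab.l → ℤ) : bf T (a • x) y = a * bf T x y := by
  rw [bf, Matrix.smul_vecMul, smul_dotProduct]; rfl

theorem bf_smul_right (a : ℤ) (x y : Fin T.tab.l → ℤ) : bf T x (a • y) = a * bf T x y :=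
  dotProduct_smul _ _ _

theorem bf_neg_left (x y : Fin T.tab.l → ℤ) : bf T (-x) y = -bf T x y := by
  rw [bf, Matrix.neg_vecMul, neg_dotProduct]; rfl

variable {T} (hG : Good D)

include hG

theorem cf_perm {γ : Equiv.Perm (Fin T.tab.n)} (hγ : γ ∈ weyl T) (s : Fin T.tab.n) :
    cf T (γ s) = cf T s ᵥ* Pg T γ :=
  funext fun k => cf_weyl hG hγ s k

variable (hsymm : (cartT T)ᵀ = cartT T) (hdiag : ∀ i, cartT T i i = 2)

include hsymm

omit hG in
theorem bf_comm (x y : Fin T.tab.l → ℤ) : bf T x y = bf T y x := by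
  rw [bf, bf, ← Matrix.dotProduct_mulVec, dotProduct_comm, ← Matrix.vecMul_transpose, hsymm]

include hdiag

/-- The Weyl group preserves the form. -/
theorem Pg_invariant {γ : Equiv.Perm (Fin T.tab.n)} (hγ : γ ∈ weyl T) :
    Pg T γ * cartT T * (Pg T γ)ᵀ = cartT T := by
  have hgen : ∀ i, Pg T (reflPerm T i) * cartT T * (Pg T (reflPerm T i))ᵀ = cartT T := by
    intro i
    set E : Matrix (Fin T.tab.l) (Fin T.tab.l) ℤ := Matrix.diagonal (Pi.single i 1) with hE
    have e : Pg T (reflPerm T i) = 1 - cartT T * E := by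
      rw [hE, ← one_sub_Pg_refl hG i, sub_sub_cancel]
    have hEE : E * cartT T * E = 2 • E := by
      ext a c
      rw [Matrix.smul_apply, hE, Matrix.mul_diagonal, Matrix.diagonal_mul]
      by_cases ha : a = i <;> by_cases hc : c = i
      · subst ha hc; simp [hdiag]
      · subst ha; simp [hc, Ne.symm hc]
      · subst hc; simp [ha]
      · simp [ha, hc, Matrix.diagonal_apply]
    rw [e, Matrix.transpose_sub, Matrix.transpose_one, Matrix.transpose_mul, hsymm, hE,
      Matrix.diagonal_transpose, ← hE]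
    calc (1 - cartT T * E) * cartT T * (1 - E * cartT T)
        = cartT T - 2 • (cartT T * E * cartT T) + cartT T * (E * cartT T * E) * cartT T := by
          noncomm_ring
      _ = cartT T := by rw [hEE]; noncomm_ring
  induction hγ using Subgroup.closure_induction'' with
  | mem x hx =>
    obtain ⟨i, rfl⟩ := hx
    exact hgen i
  | inv_mem x hx =>
    obtain ⟨i, rfl⟩ := hx
    exact hgen i
  | one => rw [Pg_one hG, Matrix.one_mul, Matrix.transpose_one, Matrix.mul_one]
  | mul x y hx hy ihx ihy =>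
    rw [Pg_mul hG hx, Matrix.transpose_mul,
      show Pg T y * Pg T x * cartT T * ((Pg T x)ᵀ * (Pg T y)ᵀ) =
        Pg T y * (Pg T x * cartT T * (Pg T x)ᵀ) * (Pg T y)ᵀ by noncomm_ring, ihx, ihy]

theorem bf_Pg {γ : Equiv.Perm (Fin T.tab.n)} (hγ : γ ∈ weyl T) (x y : Fin T.tab.l → ℤ) :
    bf T (x ᵥ* Pg T γ) (y ᵥ* Pg T γ) = bf T x y := by
  rw [bf, bf, ← Matrix.mulVec_transpose (Pg T γ) y, Matrix.dotProduct_mulVec, Matrix.vecMul_vecMul,
    Matrix.vecMul_vecMul, ← Matrix.mul_assoc (Pg T γ), Pg_invariant hG hsymm hdiag hγ]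

/-- Roots have norm two. -/
theorem bf_root (hwit : ∀ s, ∃ w i, T.S.actw w (T.S.simple i) = s) (s : Fin T.tab.n) :
    bf T (cf T s) (cf T s) = 2 := by
  obtain ⟨w, i, rfl⟩ := hwit s
  rw [← pw_apply, cf_perm hG (show pw T w ∈ weyl T from prod_mem_weyl T w),
    bf_Pg hG hsymm hdiag (show pw T w ∈ weyl T from prod_mem_weyl T w)]
  have e : cf T (T.S.simple i) = Pi.single i 1 := funext fun j => by rw [cf_simple hG, Pi.single_apply]
  rw [e, bf, Matrix.single_vecMul, one_smul, dotProduct_single, mul_one]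
  exact hdiag i

/-- The reflection of a root. -/
theorem exists_reflection (hwit : ∀ s, ∃ w i, T.S.actw w (T.S.simple i) = s) (t : Fin T.tab.n) :
    ∃ ρ ∈ weyl T, Pg T ρ = 1 - Matrix.vecMulVec (cartT T *ᵥ cf T t) (cf T t) ∧ (Pg T ρ).det = -1 := by
  obtain ⟨w, i, rfl⟩ := hwit t
  set u := pw T w
  have hu : u ∈ weyl T := prod_mem_weyl T w
  have hri := mul_mem hu (reflPerm_mem T i)
  refine ⟨u * reflPerm T i * u⁻¹, mul_mem hri (inv_mem hu), ?_, ?_⟩
  · rw [Pg_mul hG hri, Pg_mul hG hu,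
      show Pg T (reflPerm T i) = 1 - cartT T * Matrix.diagonal (Pi.single i (1 : ℤ)) by
        rw [← one_sub_Pg_refl hG i, sub_sub_cancel]]
    have h1 : Pg T u⁻¹ * Pg T u = 1 := by rw [← Pg_mul hG hu, mul_inv_cancel, Pg_one hG]
    have h2 : Pg T u⁻¹ * cartT T = cartT T * (Pg T u)ᵀ :=
      calc Pg T u⁻¹ * cartT T = Pg T u⁻¹ * (Pg T u * cartT T * (Pg T u)ᵀ) := by
            rw [Pg_invariant hG hsymm hdiag hu]
        _ = Pg T u⁻¹ * Pg T u * cartT T * (Pg T u)ᵀ := by noncomm_ring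
        _ = _ := by rw [h1, Matrix.one_mul]
    rw [Matrix.sub_mul, Matrix.one_mul, Matrix.mul_sub, h1]
    congr 1
    rw [show Pg T u⁻¹ * (cartT T * Matrix.diagonal (Pi.single i (1 : ℤ)) * Pg T u) =
      Pg T u⁻¹ * cartT T * (Matrix.diagonal (Pi.single i (1 : ℤ)) * Pg T u) by noncomm_ring, h2,
      ← pw_apply, ← Matrix.mul_vecMulVec, Matrix.mul_assoc]
    congr 1
    ext a c
    rw [Matrix.mul_apply, Matrix.vecMulVec_apply, Finset.sum_eq_single i]
    · rw [Matrix.diagonal_mul, Pi.single_eq_same, one_mul]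
      rfl
    · intro m _ hm; rw [Matrix.diagonal_mul, Pi.single_eq_of_ne hm, zero_mul, mul_zero]
    · simp
  · rw [Pg_mul hG hri, Pg_mul hG hu, Matrix.det_mul, Matrix.det_mul, det_Pg_refl hG, hdiag,
      mul_comm (Pg T u⁻¹).det, mul_assoc, ← Matrix.det_mul, ← Pg_mul hG (inv_mem hu), inv_mul_cancel,
      Pg_one hG, Matrix.det_one]
    norm_num

end Cfsg.Agent.ChevTori
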