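import Cfsg.Agent.ChevTori.Descent
import Cfsg.Agent.ChevTori.EigenDvd
import Cfsg.Agent.ChevTori.RootForm
import Cfsg.Agent.ChevGroup.Mat.E7
import Cfsg.Agent.Lib.ChevCore.SepAll

/-!
Elements of the Weyl group of type E7 with an eigenvalue of order 12 have characteristic polynomial
`Φ₁₂ (X³ ± 1)`.
-/

set_option autoImplicit false

namespace Cfsg.Agent.ChevTori.E7Tor

open Cfsg.Lie Cfsg.Agent.ChevGroup Polynomial Matrix

abbrev mdl : Model chevE7 := TypeE7.model

theorem hG7 : ChevCore.Good chevE7 := ChevCore.uGoodE7.toCommGood.toGood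

theorem fix7 : ∀ x ∈ weyl mdl, (∀ s, mdl.S.pos s → mdl.S.pos (x s)) → x = 1 := fun _ hx h =>
  fix_of_pos mdl ChevCore.uGoodE7 ℚ hx h

/-- The Cartan matrix. -/
def C7 : Matrix (Fin 7) (Fin 7) ℤ :=
  !![2, 0, -1, 0, 0, 0, 0; 0, 2, 0, -1, 0, 0, 0; -1, 0, 2, -1, 0, 0, 0; 0, -1, -1, 2, -1, 0, 0;
    0, 0, 0, -1, 2, -1, 0; 0, 0, 0, 0, -1, 2, -1; 0, 0, 0, 0, 0, -1, 2]

theorem cartan_eq :
    (Matrix.of fun i j : Fin 7 => chevE7.cartan j.val (chevE7.simple i.val)) = C7 := by decide +kernel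

theorem cartT_eq (i j : Fin 7) : cartT mdl i j = C7 i j :=
  (congrArg (chevE7.cartan j.val) (mdl.simple_eq i)).trans (congrFun (congrFun cartan_eq i) j)

theorem cartT_eq' : cartT mdl = C7 := Matrix.ext cartT_eq

theorem symm7 : (cartT mdl)ᵀ = cartT mdl := by
  have h : C7ᵀ = C7 := by decide +kernel
  exact (congrArg Matrix.transpose cartT_eq').trans (h.trans cartT_eq'.symm)

theorem diag7 : ∀ i, cartT mdl i i = 2 := fun i => (cartT_eq i i).trans (by revert i; decide)

/-- The form of type E7 is positive definite. -/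
theorem bf_pos (x : Fin 7 → ℤ) : 0 ≤ bf mdl x x ∧ (bf mdl x x = 0 → x = 0) := by
  have h : 12 * bf mdl x x = 6 * (2 * x 0 - x 2) ^ 2 + 2 * (3 * x 2 - 2 * x 3) ^ 2 +
      6 * (2 * x 1 - x 3) ^ 2 + 6 * (2 * x 6 - x 5) ^ 2 + 2 * (3 * x 5 - 2 * x 4) ^ 2 +
      (4 * x 4 - 3 * x 3) ^ 2 + x 3 ^ 2 := by
    rw [show bf mdl x x = (x ᵥ* C7) ⬝ᵥ x from
      congrArg (fun B : Matrix (Fin 7) (Fin 7) ℤ => (x ᵥ* B) ⬝ᵥ x) cartT_eq']
    simp only [Matrix.vecMul, dotProduct, Fin.sum_univ_seven]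
    simp [C7]
    ring
  refine ⟨by nlinarith, fun h0 => ?_⟩
  rw [h0] at h
  have e3 : x 3 = 0 := sq_eq_zero_iff.1 (by nlinarith)
  have e4 : x 4 = 0 := by
    have : (4 * x 4 - 3 * x 3) ^ 2 = 0 := by nlinarith
    have := sq_eq_zero_iff.1 this; omega
  have e5 : x 5 = 0 := by
    have : (3 * x 5 - 2 * x 4) ^ 2 = 0 := by nlinarith
    have := sq_eq_zero_iff.1 this; omega
  have e6 : x 6 = 0 := by
    have : (2 * x 6 - x 5) ^ 2 = 0 := by nlinarith
    have := sq_eq_zero_iff.1 this; omega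
  have e1 : x 1 = 0 := by
    have : (2 * x 1 - x 3) ^ 2 = 0 := by nlinarith
    have := sq_eq_zero_iff.1 this; omega
  have e2 : x 2 = 0 := by
    have : (3 * x 2 - 2 * x 3) ^ 2 = 0 := by nlinarith
    have := sq_eq_zero_iff.1 this; omega
  have e0 : x 0 = 0 := by
    have : (2 * x 0 - x 2) ^ 2 = 0 := by nlinarith
    have := sq_eq_zero_iff.1 this; omega
  funext i
  fin_cases i <;> assumption

/-- Twice the inverse of the Cartan matrix. -/
def K7 : Matrix (Fin 7) (Fin 7) ℤ :=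
  !![4, 4, 6, 8, 6, 4, 2; 4, 7, 8, 12, 9, 6, 3; 6, 8, 12, 16, 12, 8, 4; 8, 12, 16, 24, 18, 12, 6;
    6, 9, 12, 18, 15, 10, 5; 4, 6, 8, 12, 10, 8, 4; 2, 3, 4, 6, 5, 4, 3]

theorem C7_mul_K7 : C7 * K7 = (2 : ℤ) • 1 := by decide +kernel

theorem K7_mul_C7 : K7 * C7 = (2 : ℤ) • 1 := by decide +kernel

theorem det_C7_ne : C7.det ≠ 0 := by
  intro h
  have h1 := congrArg Matrix.det C7_mul_K7
  rw [Matrix.det_mul, h, zero_mul, Matrix.det_smul, Matrix.det_one, Fintype.card_fin] at h1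
  norm_num at h1

theorem det_C6 : ∀ i : Fin 7, ¬ (C7.submatrix i.succAbove i.succAbove).det ∣ 1 ∧
    ¬ (C7.submatrix i.succAbove i.succAbove).det ∣ 2 := by decide +kernel

theorem det_C5 : ∀ (i : Fin 7) (j : Fin 6),
    ¬ (C7.submatrix (i.succAbove ∘ j.succAbove) (i.succAbove ∘ j.succAbove)).det ∣ 2 := by
  decide +kernel

theorem det_C4 : ∀ (i : Fin 7) (j : Fin 6) (m : Fin 5),
    ¬ (C7.submatrix (i.succAbove ∘ j.succAbove ∘ m.succAbove)
      (i.succAbove ∘ j.succAbove ∘ m.succAbove)).det ∣ 1 := by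
  decide +kernel

theorem cyclotomic_twelve : cyclotomic 12 ℤ = X ^ 4 - X ^ 2 + 1 := by
  have h := cyclotomic_expand_eq_cyclotomic (p := 2) (n := 6) Nat.prime_two (by norm_num) ℤ
  rw [cyclotomic_six] at h
  rw [show (12 : ℕ) = 6 * 2 from rfl, ← h]
  simp [← pow_mul]

/-- The longest word acts as the negation. -/
theorem w0_neg : ∀ i : Fin 7, mdl.S.actw TypeE7.w0 (mdl.S.simple i) = mdl.S.neg (mdl.S.simple i) := by
  decide +kernel

theorem Pg_neg_word {D : ChevalleyDatum} {T : Model D} (hG : ChevCore.Good D) (w : List (Fin T.tab.l))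
    (h : ∀ j, T.S.actw w (T.S.simple j) = T.S.neg (T.S.simple j)) : Pg T (pw T w) = -1 := by
  refine Matrix.ext fun j k => ?_
  show cf T (pw T w (T.S.simple j)) k = _
  rw [pw_apply, h, cf_neg hG, cf_simple hG, Matrix.neg_apply, Matrix.one_apply]
  by_cases hjk : j = k
  · subst hjk; simp
  · simp [hjk, Ne.symm hjk]

theorem Pg_w0 : Pg mdl (pw mdl TypeE7.w0) = -1 :=
  Pg_neg_word hG7 (T := mdl) TypeE7.w0 w0_neg

theorem quad_root (a : ℝ) : ∃ z : ℝ, z ^ 2 + a * z - 1 = 0 := by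
  have hs := Real.sq_sqrt (show (0 : ℝ) ≤ a ^ 2 + 4 by positivity)
  refine ⟨(-a + Real.sqrt (a ^ 2 + 4)) / 2, ?_⟩
  linear_combination (1 / 4 : ℝ) * hs

theorem cubic_root (a b c : ℝ) : ∃ z : ℝ, z ^ 3 + a * z ^ 2 + b * z + c = 0 := by
  have h1 := abs_nonneg a
  have h2 := abs_nonneg b
  have h3 := abs_nonneg c
  obtain ⟨M, hM⟩ : ∃ M, M = 1 + |a| + |b| + |c| := ⟨_, rfl⟩
  have hM1 : 1 ≤ M := by linarith
  have hM2 : M ≤ M ^ 2 := by nlinarith
  have hM3 : 1 ≤ M ^ 2 := by linarith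
  have e1 : |b| * M ≤ |b| * M ^ 2 := mul_le_mul_of_nonneg_left hM2 h2
  have e2 : |c| ≤ |c| * M ^ 2 := le_mul_of_one_le_right h3 hM3
  have e3 : M ^ 3 = M ^ 2 + (|a| * M ^ 2 + |b| * M ^ 2 + |c| * M ^ 2) := by rw [hM]; ring
  have a1 : -(|a| * M ^ 2) ≤ a * M ^ 2 := by
    rw [← neg_mul]; exact mul_le_mul_of_nonneg_right (neg_abs_le a) (by positivity)
  have a2 : a * M ^ 2 ≤ |a| * M ^ 2 := mul_le_mul_of_nonneg_right (le_abs_self a) (by positivity)
  have b1 : -(|b| * M) ≤ b * M := by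
    rw [← neg_mul]; exact mul_le_mul_of_nonneg_right (neg_abs_le b) (by linarith)
  have b2 : b * M ≤ |b| * M := mul_le_mul_of_nonneg_right (le_abs_self b) (by linarith)
  have c1 := neg_abs_le c
  have c2 := le_abs_self c
  have hl : (-M) ^ 3 + a * (-M) ^ 2 + b * (-M) + c ≤ 0 := by
    have : (-M) ^ 3 + a * (-M) ^ 2 + b * (-M) + c = -(M ^ 3) + a * M ^ 2 - b * M + c := by ring
    linarith
  have hr : 0 ≤ M ^ 3 + a * M ^ 2 + b * M + c := by linarith
  obtain ⟨z, -, hz⟩ := intermediate_value_Icc (f := fun z : ℝ => z ^ 3 + a * z ^ 2 + b * z + c)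
    (show -M ≤ M by linarith) (by fun_prop) ⟨hl, hr⟩
  exact ⟨z, hz⟩

theorem finite_order {γ : Equiv.Perm (Fin mdl.tab.n)} (hγ : γ ∈ weyl mdl) :
    ((Pg mdl γ : Matrix (Fin 7) (Fin 7) ℤ)) ^ orderOf γ = 1 :=
  (Pg_pow hG7 hγ (orderOf γ)).symm.trans (by rw [pow_orderOf_eq_one]; exact Pg_one hG7)

set_option maxRecDepth 20000 in
set_option maxHeartbeats 1000000 in
/-- The cofactor of a root `1` of the cubic factor. -/
theorem cofactor_of_one {γ : Equiv.Perm (Fin mdl.tab.n)} (hγ : γ ∈ weyl mdl) {g : ℤ[X]}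
    (hgm : g.Monic) (hdeg : g.natDegree = 2)
    (hcp : (Pg mdl γ).charpoly = cyclotomic 12 ℤ * ((X - 1) * g)) :
    g = X ^ 2 + X + 1 ∨ g = (X + 1) ^ 2 := by
  set A : Matrix (Fin 7) (Fin 7) ℤ := Pg mdl γ with hA
  change A.charpoly = _ at hcp
  obtain ⟨hform, ha, hc⟩ := quadratic_factor (orderOf_pos γ).ne' (finite_order hγ) hgm hdeg
    ⟨cyclotomic 12 ℤ * (X - 1), hcp.trans (by ring)⟩
  set a := g.coeff 1
  set c := g.coeff 0
  have hX1 : (X - 1 : ℤ[X]) ≠ 0 := by rw [← map_one C]; exact X_sub_C_ne_zero 1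
  have hsub : A.submatrix (id : Fin 7 → Fin 7) id = A := Matrix.submatrix_id_id A
  obtain ⟨i, γ₁, hγ₁, e₁⟩ := descend_block hG7 fix7 (k := 6) (γ := γ) (id : Fin 7 → Fin 7)
    Function.injective_id (weylS_mono mdl (fun x _ => Set.mem_range.2 ⟨x, rfl⟩) ((weylS_univ mdl).symm ▸ hγ)) (by
      show (1 - A.submatrix (id : Fin 7 → Fin 7) id).det = 0
      rw [hsub, det_one_sub_eq, hcp]; simp)
  change (A.submatrix (id : Fin 7 → Fin 7) id).charpoly = _ at e₁
  rw [hsub, hcp] at e₁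
  set B₁ : Matrix (Fin 6) (Fin 6) ℤ :=
    (Pg mdl γ₁).submatrix (id ∘ Fin.succAbove (n := 6) i) (id ∘ Fin.succAbove (n := 6) i) with hB₁
  have hc₁ : B₁.charpoly = cyclotomic 12 ℤ * g :=
    (mul_left_cancel₀ hX1 ((mul_left_comm _ _ _).symm.trans e₁)).symm
  have hev : (1 - B₁).det = 1 + a + c := by
    rw [det_one_sub_eq, hc₁, cyclotomic_twelve, hform]
    simp
  have hd : (C7.submatrix (Fin.succAbove (n := 6) i) (Fin.succAbove (n := 6) i)).det ∣ 1 + a + c := by
    rw [← hev]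
    have h := det_cartT_dvd hG7 hγ₁ (id ∘ Fin.succAbove (n := 6) i)
      (Function.injective_id.comp Fin.succAbove_right_injective) le_rfl
    exact (congrArg Matrix.det (show Matrix.submatrix (cartT mdl) (id ∘ Fin.succAbove (n := 6) i)
      (id ∘ Fin.succAbove (n := 6) i) =
      C7.submatrix (Fin.succAbove (n := 6) i) (Fin.succAbove (n := 6) i) from
        Matrix.ext fun x y => cartT_eq _ _)).symm.dvd.trans h
  by_cases h0 : 1 + a + c = 0
  · exfalso
    have hfac : g = (X - 1) * (X - C c) := by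
      rw [hform, show a = -1 - c by omega]
      simp only [map_sub, map_neg, map_one]
      ring
    obtain ⟨j, γ₂, hγ₂, e₂⟩ := descend_block hG7 fix7 (k := 5) (γ := γ₁) (id ∘ Fin.succAbove (n := 6) i)
      (Function.injective_id.comp Fin.succAbove_right_injective) hγ₁ (hev.trans h0)
    change B₁.charpoly = _ at e₂
    rw [hc₁, hfac] at e₂
    set e5 : Fin 5 → Fin 7 := id ∘ Fin.succAbove (n := 6) i ∘ Fin.succAbove (n := 5) j with he5
    set B₂ : Matrix (Fin 5) (Fin 5) ℤ := (Pg mdl γ₂).submatrix e5 e5 with hB₂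
    have hc₂ : B₂.charpoly = cyclotomic 12 ℤ * (X - C c) :=
      (mul_left_cancel₀ hX1 ((mul_left_comm _ _ _).symm.trans e₂)).symm
    have hev₂ : (1 - B₂).det = 1 - c := by
      rw [det_one_sub_eq, hc₂, cyclotomic_twelve]
      simp
    have he5inj : Function.Injective e5 :=
      Fin.succAbove_right_injective.comp Fin.succAbove_right_injective
    have hd₂ : (C7.submatrix (Fin.succAbove (n := 6) i ∘ Fin.succAbove (n := 5) j)
        (Fin.succAbove (n := 6) i ∘ Fin.succAbove (n := 5) j)).det ∣ 1 - c := by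
      rw [← hev₂]
      exact (congrArg Matrix.det (show Matrix.submatrix (cartT mdl) e5 e5 =
        C7.submatrix (Fin.succAbove (n := 6) i ∘ Fin.succAbove (n := 5) j)
          (Fin.succAbove (n := 6) i ∘ Fin.succAbove (n := 5) j) from
          Matrix.ext fun x y => cartT_eq _ _)).symm.dvd.trans (det_cartT_dvd hG7 hγ₂ e5 he5inj le_rfl)
    rcases (abs_eq (zero_le_one' ℤ)).1 hc with hc1 | hc1
    swap
    · rw [hc1] at hd₂
      exact det_C5 i j (by simpa using hd₂)
    obtain ⟨m, γ₃, hγ₃, e₃⟩ := descend_block hG7 fix7 (k := 4) (γ := γ₂) e5 he5inj hγ₂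
      (hev₂.trans (by rw [hc1]; rfl))
    change B₂.charpoly = _ at e₃
    rw [hc₂, hc1, map_one] at e₃
    set e4 : Fin 4 → Fin 7 := e5 ∘ Fin.succAbove (n := 4) m with he4
    have hc₃ : ((Pg mdl γ₃).submatrix e4 e4).charpoly = cyclotomic 12 ℤ :=
      (mul_left_cancel₀ hX1 ((mul_comm _ _).trans e₃)).symm
    refine det_C4 i j m ?_
    have h := det_cartT_dvd hG7 hγ₃ e4 (he5inj.comp Fin.succAbove_right_injective) le_rfl
    have h' : (1 - (Pg mdl γ₃).submatrix e4 e4).det = 1 := by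
      rw [det_one_sub_eq, hc₃, cyclotomic_twelve]
      simp
    exact ((congrArg Matrix.det (show Matrix.submatrix (cartT mdl) e4 e4 =
      C7.submatrix (Fin.succAbove (n := 6) i ∘ Fin.succAbove (n := 5) j ∘ Fin.succAbove (n := 4) m)
        (Fin.succAbove (n := 6) i ∘ Fin.succAbove (n := 5) j ∘ Fin.succAbove (n := 4) m) from
        Matrix.ext fun x y => cartT_eq _ _)).symm.dvd.trans h).trans h'.dvd
  obtain ⟨h1, h2⟩ := det_C6 i
  rw [abs_le] at ha
  have hreal : c = -1 → a = 0 := by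
    intro hc1
    obtain ⟨z, hz⟩ := quad_root (a : ℝ)
    have h1 := norm_root_eq_one (orderOf_pos γ).ne' (finite_order hγ)
      (g := g) ⟨cyclotomic 12 ℤ * (X - 1), hcp.trans (by ring)⟩ (z : ℂ) (by
        rw [hform, hc1]
        simp only [eval₂_add, eval₂_mul, eval₂_C, eval₂_X_pow, eval₂_X]
        simp only [eq_intCast]
        push_cast
        have := congrArg (fun t : ℝ => (t : ℂ)) hz
        push_cast at this
        linear_combination this)
    rw [Complex.norm_real, Real.norm_eq_abs] at h1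
    rcases (abs_eq (zero_le_one' ℝ)).1 h1 with h | h <;> rw [h] at hz
    · exact_mod_cast (by linarith : (a : ℝ) = 0)
    · exact_mod_cast (by linarith : (a : ℝ) = 0)
  rcases (abs_eq (zero_le_one' ℤ)).1 hc with hc1 | hc1
  · rw [hc1] at hd h0
    rcases (show a = -2 ∨ a = -1 ∨ a = 0 ∨ a = 1 ∨ a = 2 by omega) with h | h | h | h | h <;> rw [h] at hd h0
    · exact absurd (by norm_num) h0
    · exact absurd (by simpa using hd) h1
    · exact absurd (by simpa using hd) h2
    · left; rw [hform, h, hc1, map_one]; ring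
    · right; rw [hform, h, hc1, map_one, show (C (2 : ℤ) : ℤ[X]) = 2 from map_ofNat C 2]; ring
  · exact absurd (by rw [hreal hc1, hc1]; norm_num) h0

set_option maxHeartbeats 1000000 in
theorem charpoly_neg (A : Matrix (Fin 7) (Fin 7) ℤ) (t : ℤ) :
    (-A).charpoly.eval t = -(A.charpoly.eval (-t)) := by
  rw [Matrix.eval_charpoly, Matrix.eval_charpoly, map_neg,
    show (Matrix.scalar (Fin 7)) t - -A = -(-(Matrix.scalar (Fin 7)) t - A) by abel, Matrix.det_neg,
    Fintype.card_fin]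
  ring

set_option maxHeartbeats 1000000 in
/-- The characteristic polynomial of an element with an eigenvalue of order 12. -/
theorem charpoly_cases {γ : Equiv.Perm (Fin mdl.tab.n)} (hγ : γ ∈ weyl mdl)
    (h12 : cyclotomic 12 ℤ ∣ (Pg mdl γ).charpoly) :
    (Pg mdl γ).charpoly = cyclotomic 12 ℤ * (X ^ 3 - 1) ∨
      (Pg mdl γ).charpoly = cyclotomic 12 ℤ * (X ^ 3 + 1) := by
  set A : Matrix (Fin 7) (Fin 7) ℤ := Pg mdl γ with hA
  change cyclotomic 12 ℤ ∣ A.charpoly at h12
  show A.charpoly = _ ∨ A.charpoly = _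
  obtain ⟨f, hf⟩ := h12
  have hfm : f.Monic := (cyclotomic.monic 12 ℤ).of_mul_monic_left (hf ▸ A.charpoly_monic)
  have hdeg : f.natDegree = 3 := by
    have h := congrArg natDegree hf
    rw [(cyclotomic.monic 12 ℤ).natDegree_mul hfm, natDegree_cyclotomic,
      A.charpoly_natDegree_eq_dim, Fintype.card_fin, show Nat.totient 12 = 4 from rfl] at h
    omega
  -- a real root of the cubic factor
  have hroot : f.eval 1 = 0 ∨ f.eval (-1) = 0 := by
    have hform : f = X ^ 3 + C (f.coeff 2) * X ^ 2 + C (f.coeff 1) * X + C (f.coeff 0) := by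
      conv_lhs => rw [hfm.as_sum, hdeg]
      rw [Finset.sum_range_succ, Finset.sum_range_succ, Finset.sum_range_succ, Finset.sum_range_zero]
      simp
      ring
    set a : ℝ := ((f.coeff 2 : ℤ) : ℝ) with ha
    set b : ℝ := ((f.coeff 1 : ℤ) : ℝ) with hb
    set c : ℝ := ((f.coeff 0 : ℤ) : ℝ) with hc
    obtain ⟨z, hz⟩ := cubic_root a b c
    have h1 := norm_root_eq_one (orderOf_pos γ).ne' (finite_order hγ) (g := f)
      ⟨cyclotomic 12 ℤ, hf.trans (mul_comm _ _)⟩ (z : ℂ) (by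
        rw [hform]
        simp only [eval₂_add, eval₂_mul, eval₂_C, eval₂_X_pow, eval₂_X]
        simp only [eq_intCast]
        have := congrArg (fun t : ℝ => (t : ℂ)) hz
        simp only [ha, hb, hc] at this
        push_cast at this
        linear_combination this)
    rw [Complex.norm_real, Real.norm_eq_abs] at h1
    rcases (abs_eq (zero_le_one' ℝ)).1 h1 with h | h <;> rw [h, ha, hb, hc] at hz
    · left
      rw [hform]
      simp only [eval_add, eval_mul, eval_pow, eval_X, eval_C]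
      exact_mod_cast hz
    · right
      rw [hform]
      simp only [eval_add, eval_mul, eval_pow, eval_X, eval_C]
      exact_mod_cast hz
  have key : ∀ {δ : Equiv.Perm (Fin mdl.tab.n)}, δ ∈ weyl mdl → ∀ {f' : ℤ[X]}, f'.Monic →
      f'.natDegree = 3 → (Pg mdl δ).charpoly = cyclotomic 12 ℤ * f' → f'.eval 1 = 0 →
      f' = X ^ 3 - 1 ∨ f' = (X - 1) * (X + 1) ^ 2 := by
    intro δ hδ f' hm hd hcp h1
    obtain ⟨g, hg⟩ : (X - C (1 : ℤ)) ∣ f' := dvd_iff_isRoot.2 h1
    rw [map_one] at hg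
    have hXm : (X - 1 : ℤ[X]).Monic := by rw [← map_one C]; exact monic_X_sub_C 1
    have hgm : g.Monic := hXm.of_mul_monic_left (hg ▸ hm)
    have hgd : g.natDegree = 2 := by
      have h := congrArg natDegree hg
      rw [hXm.natDegree_mul hgm, ← map_one C, natDegree_X_sub_C, hd] at h
      omega
    rcases cofactor_of_one hδ hgm hgd (hg ▸ hcp) with rfl | rfl
    · left; rw [hg]; ring
    · exact Or.inr hg
  set δ := γ * pw mdl TypeE7.w0
  have hw : pw mdl TypeE7.w0 ∈ weyl mdl := prod_mem_weyl mdl _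
  have hδA : (Pg mdl δ : Matrix (Fin 7) (Fin 7) ℤ) = -A := by
    refine (Pg_mul hG7 hγ).trans ?_
    rw [Pg_w0]
    exact neg_one_mul _
  have hneg : ∀ f' : ℤ[X], (∀ t, f'.eval t = -(f.eval (-t))) →
      (Pg mdl δ).charpoly = cyclotomic 12 ℤ * f' := by
    intro f' hf'
    refine Polynomial.funext fun t => ?_
    refine (congrArg (fun B : Matrix (Fin 7) (Fin 7) ℤ => B.charpoly.eval t) hδA).trans ?_
    show (-A).charpoly.eval t = _
    rw [charpoly_neg, hf, eval_mul, eval_mul, hf', cyclotomic_twelve]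
    simp only [eval_add, eval_sub, eval_pow, eval_X, eval_one]
    ring
  set f' : ℤ[X] := -(f.comp (-X)) with hf'def
  have hf'e : ∀ t, f'.eval t = -(f.eval (-t)) := fun t => by simp [hf'def, eval_comp]
  have hcp' := hneg f' hf'e
  have hf'm : f'.Monic := (cyclotomic.monic 12 ℤ).of_mul_monic_left (hcp' ▸ (Pg mdl δ).charpoly_monic)
  have hf'd : f'.natDegree = 3 := by
    rw [hf'def, natDegree_neg, natDegree_comp, natDegree_neg, natDegree_X, hdeg]
  rcases hroot with h | h
  · rcases key hγ hfm hdeg hf h with e | e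
    · exact Or.inl (by rw [hf, e])
    · exfalso
      rcases key (mul_mem hγ hw) hf'm hf'd hcp' (by rw [hf'e, e]; simp) with e' | e'
      · have := congrArg (Polynomial.eval 2) e'
        rw [hf'e, e] at this
        norm_num at this
      · have := congrArg (Polynomial.eval 2) e'
        rw [hf'e, e] at this
        norm_num at this
  · rcases key (mul_mem hγ hw) hf'm hf'd hcp' (by rw [hf'e]; simp [h]) with e' | e'
    · refine Or.inr ?_
      rw [hf]
      congr 1
      refine Polynomial.funext fun t => ?_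
      have := congrArg (Polynomial.eval (-t)) e'
      rw [hf'e, neg_neg] at this
      simp only [eval_sub, eval_pow, eval_X, eval_one] at this
      simp only [eval_add, eval_pow, eval_X, eval_one]
      linear_combination -this
    · exfalso
      have hfe : ∀ t, f.eval t = (t + 1) * (t - 1) ^ 2 := fun t => by
        have := congrArg (Polynomial.eval (-t)) e'
        rw [hf'e, neg_neg] at this
        simp only [eval_mul, eval_sub, eval_add, eval_pow, eval_X, eval_one] at this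
        linear_combination -this
      rcases key hγ hfm hdeg hf (by rw [hfe]; norm_num) with e'' | e'' <;>
        · have := congrArg (Polynomial.eval 2) e''
          rw [hfe] at this
          norm_num at this

end Cfsg.Agent.ChevTori.E7Tor
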