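import Cfsg.Agent.ChevTori.Parabolic
import Mathlib

/-!
One step of the descent through parabolic subgroups on the blocks of a Weyl element.
-/

set_option autoImplicit false

namespace Cfsg.Agent.ChevTori

open Cfsg.Lie Cfsg.Agent.ChevGroup Matrix Polynomial
open Cfsg.Agent.ChevCore (Good reflPerm)

theorem charpoly_of_unit_col {n : ℕ} (A : Matrix (Fin (n + 1)) (Fin (n + 1)) ℤ) (k : Fin (n + 1))
    (hcol : ∀ j, A j k = if j = k then 1 else 0) :
    A.charpoly = (X - 1) * (A.submatrix k.succAbove k.succAbove).charpoly := by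
  rw [Matrix.charpoly, Matrix.det_succ_column _ k, Finset.sum_eq_single k]
  · rw [charmatrix_apply_eq, hcol, if_pos rfl, map_one, Even.neg_one_pow ⟨k.val, rfl⟩, one_mul]
    congr 1
    rw [Matrix.charpoly]
    congr 1
    ext a b
    simp only [Matrix.submatrix_apply, charmatrix_apply, Matrix.diagonal_apply,
      Fin.succAbove_right_injective.eq_iff]
  · intro j _ hj
    rw [charmatrix_apply_ne _ _ _ hj, hcol, if_neg hj, map_zero, neg_zero, mul_zero, zero_mul]
  · simp

theorem det_one_sub_eq {n : ℕ} (A : Matrix (Fin n) (Fin n) ℤ) : (1 - A).det = A.charpoly.eval 1 := by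
  rw [Matrix.eval_charpoly, Matrix.scalar_apply, Matrix.diagonal_one]

variable {D : ChevalleyDatum} {T : Model D} (hG : Good D)

include hG

theorem block_mul {S : Set (Fin T.tab.l)} {x y : Equiv.Perm (Fin T.tab.n)} (hx : x ∈ weylS T S)
    (hy : y ∈ weylS T S) {k : ℕ} (e : Fin k → Fin T.tab.l) (he : Function.Injective e)
    (hS : S = Set.range e) :
    (Pg T (x * y)).submatrix e e = (Pg T y).submatrix e e * (Pg T x).submatrix e e := by
  ext a c
  rw [Pg_mul hG (weylS_le T S hx), Matrix.submatrix_apply, Matrix.mul_apply, Matrix.mul_apply]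
  simp only [Matrix.submatrix_apply]
  rw [← Finset.sum_image (s := Finset.univ) (g := e)
    (f := fun m => Pg T y (e a) m * Pg T x m (e c)) he.injOn]
  refine (Finset.sum_subset (Finset.subset_univ _) fun m _ hm => ?_).symm
  have hmS : m ∉ S := by
    rw [hS]
    rintro ⟨a', rfl⟩
    exact hm (Finset.mem_image_of_mem _ (Finset.mem_univ a'))
  rw [Pg_col hG hy (e a) hmS, if_neg (fun e' : e a = m => hmS (hS ▸ ⟨a, e'⟩)), zero_mul]

/-- A block with a fixed vector splits off a factor `X - 1` after a conjugation. -/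
theorem descend_block (hfix : ∀ x ∈ weyl T, (∀ s, T.S.pos s → T.S.pos (x s)) → x = 1) {k : ℕ}
    (e : Fin (k + 1) → Fin T.tab.l) (he : Function.Injective e) {γ : Equiv.Perm (Fin T.tab.n)}
    (hγ : γ ∈ weylS T (Set.range e)) (hdet : (1 - (Pg T γ).submatrix e e).det = 0) :
    ∃ (j : Fin (k + 1)) (γ' : Equiv.Perm (Fin T.tab.n)), γ' ∈ weylS T (Set.range (e ∘ j.succAbove)) ∧
      ((Pg T γ).submatrix e e).charpoly =
        (X - 1) * ((Pg T γ').submatrix (e ∘ j.succAbove) (e ∘ j.succAbove)).charpoly := by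
  classical
  set S := Set.range e
  set A := Pg T γ with hA
  set B := A.submatrix e e with hB
  have hres : ∀ w : Fin T.tab.l → ℤ, (A *ᵥ w) ∘ e = B *ᵥ (w ∘ e) := by
    intro w
    funext a
    simp only [Function.comp_apply, Matrix.mulVec, dotProduct, hB, Matrix.submatrix_apply]
    rw [← Finset.sum_image (s := Finset.univ) (g := e) (f := fun m => A (e a) m * w m) he.injOn]
    refine (Finset.sum_subset (Finset.subset_univ _) fun m _ hm => ?_).symm
    have hmS : m ∉ S := by
      rintro ⟨a', rfl⟩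
      exact hm (Finset.mem_image_of_mem _ (Finset.mem_univ a'))
    rw [hA, Pg_col hG hγ (e a) hmS, if_neg (fun e' : e a = m => hmS ⟨a, e'⟩), zero_mul]
  obtain ⟨v, hv, hv0⟩ := Matrix.exists_mulVec_eq_zero_iff.2 hdet
  rw [Matrix.sub_mulVec, Matrix.one_mulVec, sub_eq_zero] at hv0
  set M := orderOf γ
  have hAM : A ^ M = 1 := by
    rw [hA, ← Pg_pow hG (weylS_le T S hγ), pow_orderOf_eq_one, Pg_one hG]
  set w₀ : Fin T.tab.l → ℤ := Function.extend e v 0
  set w := (∑ m ∈ Finset.range M, A ^ m) *ᵥ w₀ with hw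
  have hwfix : A *ᵥ w = w := by
    have h := mul_geom_sum A M
    rw [hAM, sub_self, sub_mul, one_mul, sub_eq_zero] at h
    rw [hw, Matrix.mulVec_mulVec, h]
  have hpow : ∀ m, (A ^ m *ᵥ w₀) ∘ e = v := by
    intro m
    induction m with
    | zero =>
      funext a
      rw [pow_zero, Matrix.one_mulVec]
      exact he.extend_apply v 0 a
    | succ m ih => rw [pow_succ', ← Matrix.mulVec_mulVec, hres, ih, ← hv0]
  obtain ⟨a₀, ha₀⟩ := Function.ne_iff.1 hv
  have hwne : w (e a₀) ≠ 0 := by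
    rw [hw, Matrix.sum_mulVec, Finset.sum_apply]
    refine ne_of_eq_of_ne ((Finset.sum_congr rfl (g := fun _ => v a₀) fun m _ =>
      congrFun (hpow m) a₀).trans (by rw [Finset.sum_const, Finset.card_range, nsmul_eq_mul])) ?_
    exact mul_ne_zero (by exact_mod_cast (orderOf_pos γ).ne') ha₀
  obtain ⟨u, hu, i, ⟨j, rfl⟩, hγ'⟩ := descend hG hfix hγ hwfix ⟨e a₀, ⟨a₀, rfl⟩, hwne⟩
  have hS' : S \ {e j} ⊆ Set.range (e ∘ j.succAbove) := by
    rintro _ ⟨⟨a, rfl⟩, hne⟩
    obtain ⟨y, rfl⟩ := Fin.exists_succAbove_eq (x := a) (y := j) fun e' => hne (by rw [e']; rfl)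
    exact ⟨y, rfl⟩
  refine ⟨j, u⁻¹ * γ * u, weylS_mono T hS' hγ', ?_⟩
  set γ' := u⁻¹ * γ * u with hγ'def
  have hγ'S : γ' ∈ weylS T S := mul_mem (mul_mem (inv_mem hu) hγ) hu
  have e1 : ((Pg T γ').submatrix e e).charpoly = B.charpoly := by
    rw [hγ'def, block_mul hG (mul_mem (inv_mem hu) hγ) hu e he rfl,
      block_mul hG (inv_mem hu) hγ e he rfl, Matrix.charpoly_mul_comm, mul_assoc,
      ← block_mul hG hu (inv_mem hu) e he rfl, mul_inv_cancel, Pg_one hG, Matrix.submatrix_one _ he,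
      mul_one]
  rw [← e1, charpoly_of_unit_col ((Pg T γ').submatrix e e) j fun a => ?_]
  · rw [Matrix.submatrix_submatrix]
  · rw [Matrix.submatrix_apply, Pg_col hG hγ' (e a) fun h => h.2 rfl]
    simp only [he.eq_iff]

end Cfsg.Agent.ChevTori
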