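import Cfsg.Agent.ChevTori.StTorus
import Cfsg.Agent.KnownSimple.Steinberg.Lower

/-!
An embedding of root systems sends Steinberg's group into a Chevalley group, compatibly with the field maps,
the tori and the monomial elements.
-/

set_option autoImplicit false

namespace Cfsg.Agent.ChevTori

open Cfsg.Lie Cfsg.Agent.ChevGroup Cfsg.Agent.ChevCore Cfsg.Agent.ChevFixed Matrix
open Cfsg.Agent.KnownSimple.Steinberg (SLD EmbFacts)

variable {D D' : ChevalleyDatum} {ι : ℕ → ℕ} (hS : SLD D) (hS' : SLD D') (hι : EmbFacts D D' ι)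
  (hC' : CommGood D')

include hS hS' hι in
theorem emb_rels {K : Type*} [Field K] : ∀ g ∈ D.steinbergRels K,
    FreeGroup.lift (fun p : Fin D.nroots × K => Stb.th hC' (Stb.xb D' K (ι p.1.val) p.2)) g = 1 := by
  intro g hg
  have h : (D'.group K).subtype.comp
      (FreeGroup.lift fun p : Fin D.nroots × K => Stb.th hC' (Stb.xb D' K (ι p.1.val) p.2)) =
      FreeGroup.lift fun p : Fin D.nroots × K => xg D' K (ι p.1.val) p.2 :=
    FreeGroup.ext_hom _ _ fun p => by
      rw [MonoidHom.comp_apply, FreeGroup.lift_apply_of, FreeGroup.lift_apply_of]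
      exact Stb.thG_xb hC' _ _
  refine Subtype.ext ?_
  have h1 := KnownSimple.Steinberg.lift_emb hS hS' hι hg
  rw [← h] at h1
  exact h1

/-- Steinberg's group of the smaller system inside the Chevalley group of the bigger one. -/
noncomputable def embHom (K : Type*) [Field K] : D.SteinbergGroup K →* ↥(D'.group K) :=
  PresentedGroup.toGroup (emb_rels hS hS' hι hC')

theorem embHom_xb {K : Type*} [Field K] {r : ℕ} (hr : r < D.nroots) (t : K) :
    embHom hS hS' hι hC' K (Stb.xb D K r t) = Stb.th hC' (Stb.xb D' K (ι r) t) := by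
  show PresentedGroup.toGroup (emb_rels hS hS' hι hC') (PresentedGroup.mk _ (D.stX r t)) = _
  rw [ChevalleyDatum.stX, dif_pos hr]
  exact PresentedGroup.toGroup.of (emb_rels hS hS' hι hC')

theorem embHom_stMap {K : Type*} [Field K] (σ : K →+* K) (g : D.SteinbergGroup K) :
    embHom hS hS' hι hC' K (stMap σ g) = mapGroup σ (embHom hS hS' hι hC' K g) := by
  have h : (embHom hS hS' hι hC' K).comp (stMap σ) =
      (mapGroup σ).comp (embHom hS hS' hι hC' K) := by
    refine PresentedGroup.ext fun p => ?_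
    obtain ⟨⟨r, hr⟩, t⟩ := p
    have e : (PresentedGroup.of (rels := D.steinbergRels K) (⟨r, hr⟩, t)) = Stb.xb D K r t := by
      simp [PresentedGroup.of, Stb.xb, ChevalleyDatum.stGen, ChevalleyDatum.stX, hr]
    rw [e, MonoidHom.comp_apply, MonoidHom.comp_apply, stMap_xb, embHom_xb _ _ _ _ hr,
      embHom_xb _ _ _ _ hr, ← th_stMap, stMap_xb]
  exact DFunLike.congr_fun h g

theorem embHom_nb {K : Type*} [Field K] {r : ℕ} (hr : r < D.nroots) (c : K) :
    embHom hS hS' hι hC' K (Stb.nb D K r c) = Stb.th hC' (Stb.nb D' K (ι r) c) := by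
  simp only [Stb.nb, map_mul, embHom_xb hS hS' hι hC' hr,
    embHom_xb hS hS' hι hC' (hS.good.toGood.neg_lt hr), hι.neg r hr]

theorem embHom_hb {K : Type*} [Field K] {r : ℕ} (hr : r < D.nroots) (c : K) :
    embHom hS hS' hι hC' K (Stb.hb D K r c) = Stb.th hC' (Stb.hb D' K (ι r) c) := by
  simp only [Stb.hb, map_mul, embHom_nb hS hS' hι hC' hr]

variable (T : Model D) (T' : Model D') (hD : Stb.Cert D) (hD' : Stb.Cert D')
  (e : Fin T.tab.l → Fin T'.tab.l) (hsimp : ∀ j, ι (D.simple j.val) = D'.simple (e j).val)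

include hsimp

theorem embHom_nw {K : Type*} [Field K] (w : List (Fin T.tab.l)) :
    embHom hS hS' hι hC' K ((Stb.rel T hD).nw w) = Stb.th hC' ((Stb.rel T' hD').nw (w.map e)) := by
  induction w with
  | nil => simp
  | cons i w ih =>
    rw [List.map_cons, RootRel.nw_cons, RootRel.nw_cons, map_mul, map_mul, ih]
    congr 1
    have h1 : (Stb.rel T hD).n i = Stb.nb D K (D.simple i.val) 1 := by
      simp only [RootRel.n, RootRel.nr, nOf, Stb.nb, Stb.rel, T.neg_eq, T.simple_eq]
    have h2 : (Stb.rel T' hD').n (e i) = Stb.nb D' K (D'.simple (e i).val) 1 := by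
      simp only [RootRel.n, RootRel.nr, nOf, Stb.nb, Stb.rel, T'.neg_eq, T'.simple_eq]
    rw [h1, h2, embHom_nb hS hS' hι hC' (hS.good.toGood.simple_lt (T.lt_l i)), hsimp]

theorem embHom_psil {K : Type*} [Field K] (ext : (Fin T.tab.l → Kˣ) →* (Fin T'.tab.l → Kˣ))
    (hext : ∀ j c, ext (Pi.mulSingle j c) = Pi.mulSingle (e j) c) (c : Fin T.tab.l → Kˣ) :
    embHom hS hS' hι hC' K (psil T hD c) = Stb.th hC' (psil T' hD' (ext c)) := by
  have h : (embHom hS hS' hι hC' K).comp (psil T hD) =
      ((Stb.th hC').comp (psil T' hD')).comp ext := by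
    refine pi_hom_ext fun j c => ?_
    rw [MonoidHom.comp_apply, MonoidHom.comp_apply, MonoidHom.comp_apply, hext, psil_single, psil_single,
      embHom_hb hS hS' hι hC' (hS.good.toGood.simple_lt (T.lt_l j)), hsimp]
  exact DFunLike.congr_fun h c

end Cfsg.Agent.ChevTori
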