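import Mathlib

/-!
A fixed-point criterion for homocyclicity of a subgroup of a homocyclic abelian group (helper56).
-/

set_option autoImplicit false

namespace Cfsg.Agent.ChevTori

/-- An abelian group of exponent dividing `r ^ e` whose elements of order `r` are all
`r ^ (e - 1)`-th powers is homocyclic. -/
theorem homocyclic_of_roots {V : Type*} [CommGroup V] [Finite V] {r e a : ℕ} (hr : r.Prime) (he : 1 ≤ e)
    (hexp : ∀ x : V, x ^ r ^ e = 1) (hroot : ∀ y : V, y ^ r = 1 → ∃ x : V, x ^ r ^ (e - 1) = y)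
    (hcard : Nat.card V = (r ^ e) ^ a) :
    Nonempty (V ≃* (Fin a → Multiplicative (ZMod (r ^ e)))) := by
  classical
  obtain ⟨ι, hι, n, hn, ⟨f⟩⟩ := CommGroup.equiv_prod_multiplicative_zmod_of_finite V
  haveI := hι
  have hne : ∀ i, n i = r ^ e := by
    intro i
    have h1 : n i ∣ r ^ e := by
      have h := hexp (f.symm (Pi.mulSingle i (Multiplicative.ofAdd (1 : ZMod (n i)) :
        Multiplicative (ZMod (n i)))))
      have h2 := congrArg f h
      rw [map_pow, MulEquiv.apply_symm_apply, ← Pi.mulSingle_pow] at h2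
      rw [map_one f] at h2
      have h3 : (Multiplicative.ofAdd (1 : ZMod (n i))) ^ r ^ e = 1 := by
        simpa using congrFun h2 i
      rw [← ofAdd_nsmul, nsmul_one, ofAdd_eq_one, ZMod.natCast_eq_zero_iff] at h3
      exact h3
    obtain ⟨k, hk, hnk⟩ := (Nat.dvd_prime_pow hr).1 h1
    rcases Nat.lt_or_ge k e with hlt | hge
    swap
    · rw [hnk, le_antisymm hk hge]
    exfalso
    have hk1 : 1 ≤ k := by
      by_contra hk0
      obtain rfl : k = 0 := by omega
      have := hn i
      rw [hnk, pow_zero] at this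
      omega
    set y := f.symm (Pi.mulSingle i (Multiplicative.ofAdd ((r ^ (k - 1) : ℕ) : ZMod (n i))))
    obtain ⟨x, hx⟩ := hroot y (by
      apply f.injective
      rw [map_pow, map_one, MulEquiv.apply_symm_apply, ← Pi.mulSingle_pow, ← ofAdd_nsmul,
        nsmul_eq_mul, ← Nat.cast_mul, ← pow_succ', Nat.sub_add_cancel hk1, ← hnk, ZMod.natCast_self,
        ofAdd_zero, Pi.mulSingle_one])
    have h2 := congrFun (congrArg f hx) i
    rw [map_pow, MulEquiv.apply_symm_apply, Pi.pow_apply, Pi.mulSingle_eq_same] at h2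
    have h4 : (r ^ (e - 1) : ℕ) • Multiplicative.toAdd (f x i) = ((r ^ (k - 1) : ℕ) : ZMod (n i)) :=
      congrArg Multiplicative.toAdd h2
    have h5 : ((r ^ (e - 1) : ℕ) : ZMod (n i)) = 0 := by
      rw [ZMod.natCast_eq_zero_iff, hnk]
      exact pow_dvd_pow r (by omega)
    rw [nsmul_eq_mul, h5, zero_mul, eq_comm, ZMod.natCast_eq_zero_iff, hnk] at h4
    have := Nat.le_of_dvd (pow_pos hr.pos _) h4
    exact absurd this (not_le.2 (Nat.pow_lt_pow_right hr.one_lt (by omega)))
  have hc : Fintype.card ι = a := by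
    have h1 := Nat.card_congr f.toEquiv
    rw [hcard, Nat.card_pi] at h1
    simp only [Nat.card_congr Multiplicative.toAdd, Nat.card_zmod, hne, Finset.prod_const,
      Finset.card_univ] at h1
    exact (Nat.pow_right_injective (Nat.one_lt_pow (by omega) hr.one_lt) h1).symm
  let g : (∀ i, Multiplicative (ZMod (n i))) ≃* (ι → Multiplicative (ZMod (r ^ e))) :=
    MulEquiv.piCongrRight fun i => AddEquiv.toMultiplicative (ZMod.ringEquivCongr (hne i)).toAddEquiv
  exact ⟨f.trans (g.trans (MulEquiv.arrowCongr (Fintype.equivFinOfCardEq hc) (MulEquiv.refl _)))⟩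

/-- Roots in a maximal subgroup cut out by a fixed-point condition and a twisting condition. -/
theorem exists_root_of_maximal {V Γ : Type*} [CommGroup V] [Group Γ] [Finite Γ] (φ : Γ →* Monoid.End V)
    {r q e d : ℕ} [Fact r.Prime] (hΓ : ¬ r ∣ Nat.card Γ) (hexp : ∀ x : V, x ^ r ^ e = 1)
    (hroot : ∀ y : V, y ^ r = 1 → ∃ x : V, x ^ r ^ (e - 1) = y)
    (hd : orderOf (q : ZMod r) = d) (hqd : r ^ e ∣ q ^ d - 1) (hd0 : 0 < d) (v : Γ) (P : Subgroup V)
    (hv : ∀ y ∈ P, φ v y = y ^ q)
    (hmax : ∀ t : V, (∀ γ : Γ, (∀ y ∈ P, φ γ y = y) → φ γ t = t) → φ v t = t ^ q → t ∈ P)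
    {y : V} (hy : y ∈ P) (hyr : y ^ r = 1) : ∃ x ∈ P, x ^ r ^ (e - 1) = y := by
  classical
  by_cases hy1 : y = 1
  · exact ⟨1, one_mem _, by rw [one_pow, hy1]⟩
  have hr : r.Prime := Fact.out
  letI := Fintype.ofFinite Γ
  let W : Subgroup Γ :=
    { carrier := {γ | ∀ y ∈ P, φ γ y = y}
      one_mem' := fun y _ => by rw [map_one]; rfl
      mul_mem' := fun {a b} ha hb y hy => by
        rw [map_mul, Monoid.End.coe_mul, Function.comp_apply, hb y hy, ha y hy]
      inv_mem' := fun {a} ha y hy => by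
        conv_lhs => rw [← ha y hy]
        rw [← Function.comp_apply (f := φ a⁻¹), ← Monoid.End.coe_mul, ← map_mul, inv_mul_cancel,
          map_one]
        rfl }
  -- the twist normalises the stabiliser
  have hnorm : ∀ w ∈ W, v⁻¹ * w * v ∈ W := by
    intro w hw z hz
    have h1 : φ v z = z ^ q := hv z hz
    have h2 : φ w (φ v z) = φ v z := by rw [h1, map_pow, hw z hz]
    calc φ (v⁻¹ * w * v) z = φ v⁻¹ (φ w (φ v z)) := by simp [map_mul, Monoid.End.coe_mul]
      _ = φ v⁻¹ (φ v z) := by rw [h2]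
      _ = z := by rw [← Function.comp_apply (f := φ v⁻¹), ← Monoid.End.coe_mul, ← map_mul,
          inv_mul_cancel, map_one]; rfl
  obtain ⟨x, hx⟩ := hroot y hyr
  set x₁ : V := ∏ w : W, φ w.1 x
  have hx₁W : ∀ w ∈ W, φ w x₁ = x₁ := by
    intro w hw
    rw [map_prod]
    refine Fintype.prod_equiv (Equiv.mulLeft ⟨w, hw⟩) _ _ fun u => ?_
    show φ w (φ u.1 x) = φ (w * u.1) x
    rw [map_mul]; rfl
  have hx₁y : x₁ ^ r ^ (e - 1) = y ^ Nat.card W := by
    rw [← Finset.prod_pow]
    rw [Finset.prod_congr rfl (fun (w : W) _ => show (φ w.1 x) ^ r ^ (e - 1) = y by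
      rw [← map_pow, hx]; exact w.2 y hy), Finset.prod_const, Finset.card_univ,
      Nat.card_eq_fintype_card]
  -- the twisted average over the powers of `v`
  set M := orderOf v with hM
  have hM0 : 0 < M := orderOf_pos v
  have hiter : ∀ j : ℕ, φ (v ^ j) y = y ^ q ^ j := by
    intro j
    induction j with
    | zero => simp
    | succ j ih =>
      rw [pow_succ', map_mul, Monoid.End.coe_mul, Function.comp_apply, ih, map_pow, hv y hy, ← pow_mul,
        ← pow_succ']
  have hqM : (q : ZMod r) ^ M = 1 := by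
    have h1 := hiter M
    rw [hM, pow_orderOf_eq_one, map_one] at h1
    have h2 : y ^ (q ^ M) = y ^ 1 := by rw [pow_one, hM]; exact h1.symm
    rw [pow_eq_pow_iff_modEq, orderOf_eq_prime hyr hy1, ← ZMod.natCast_eq_natCast_iff] at h2
    simpa using h2
  have hdM : d ∣ M := hd ▸ orderOf_dvd_of_pow_eq_one hqM
  have hq1 : 1 ≤ q := Nat.pos_of_ne_zero fun h0 => by
    rw [h0, Nat.cast_zero, orderOf_zero] at hd
    omega
  have hm : r ^ e ∣ q ^ M - 1 := hqd.trans (Nat.pow_sub_one_dvd_pow_sub_one q hdM)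
  have hqp : ∀ z : V, z ^ q ^ M = z := by
    intro z
    obtain ⟨c, hc⟩ := hm
    have : q ^ M = r ^ e * c + 1 := by have := Nat.one_le_pow M q hq1; omega
    rw [this, pow_succ, pow_mul, hexp, one_pow, one_mul]
  set g : ℕ → V := fun j => φ (v ^ j) x₁ ^ q ^ (M - j)
  set x₂ : V := ∏ j ∈ Finset.range M, g j
  have hgM : g M = x₁ := by
    simp only [g, Nat.sub_self, pow_zero, pow_one, hM, pow_orderOf_eq_one, map_one]
    rfl
  have hg0 : g 0 = x₁ := by
    simp only [g, pow_zero, map_one, Nat.sub_zero]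
    exact hqp x₁
  have hx₂v : φ v x₂ = x₂ ^ q := by
    rw [map_prod, ← Finset.prod_pow]
    have h1 : ∀ j ∈ Finset.range M, φ v (g j) = g (j + 1) ^ q := by
      intro j hj
      have hjM := Finset.mem_range.1 hj
      simp only [g, map_pow φ, map_mul]
      rw [map_pow, pow_succ', ← pow_mul, ← pow_succ,
        show M - (j + 1) + 1 = M - j by omega]
      rfl
    rw [Finset.prod_congr rfl h1, Finset.prod_pow, Finset.prod_pow]
    congr 1
    have h2 := Finset.prod_range_succ' g M
    rw [Finset.prod_range_succ, hgM, hg0] at h2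
    exact (mul_right_cancel h2).symm
  have hx₂W : ∀ w, (∀ z ∈ P, φ w z = z) → φ w x₂ = x₂ := by
    intro w hw
    rw [map_prod]
    refine Finset.prod_congr rfl fun j _ => ?_
    simp only [g]
    rw [map_pow (φ w)]
    congr 1
    have hj : ∀ k : ℕ, ∀ w ∈ W, (v ^ k)⁻¹ * w * v ^ k ∈ W := by
      intro k
      induction k with
      | zero => intro w hw; simpa using hw
      | succ k ih =>
        intro w hw
        have := hnorm _ (ih w hw)
        simpa [pow_succ, mul_assoc] using this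
    have h3 : φ w (φ (v ^ j) x₁) = φ (v ^ j) (φ ((v ^ j)⁻¹ * w * v ^ j) x₁) := by
      rw [← Function.comp_apply (f := φ w), ← Monoid.End.coe_mul, ← map_mul,
        ← Function.comp_apply (f := φ (v ^ j)), ← Monoid.End.coe_mul, ← map_mul]
      congr 2
      group
    rw [h3, hx₁W _ (hj j w hw)]
  have hx₂P := hmax x₂ hx₂W hx₂v
  -- undo the multiplicity
  have hx₂y : x₂ ^ r ^ (e - 1) = y ^ (M * Nat.card W) := by
    rw [← Finset.prod_pow, Finset.prod_congr rfl (fun j hj => show g j ^ r ^ (e - 1) = y ^ Nat.card W by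
      have hjM := Finset.mem_range.1 hj
      simp only [g]
      rw [← pow_mul, mul_comm, pow_mul, ← map_pow, hx₁y, map_pow, hiter, ← pow_mul, ← pow_mul,
        mul_left_comm, ← pow_add, Nat.add_sub_cancel' hjM.le,
        pow_mul, hqp]),
      Finset.prod_const, Finset.card_range, ← pow_mul, mul_comm]
  have hco : (M * Nat.card W).Coprime r := by
    refine Nat.Coprime.mul_left ?_ ?_ <;> refine ((hr.coprime_iff_not_dvd).2 fun h => hΓ ?_).symm
    · exact h.trans (orderOf_dvd_natCard v)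
    · exact h.trans (Subgroup.card_subgroup_dvd_card W)
  obtain ⟨c, hc⟩ := exists_pow_eq_self_of_coprime (x := y) (n := M * Nat.card W)
    (by rw [orderOf_eq_prime hyr hy1]; exact hco)
  refine ⟨x₂ ^ c, pow_mem hx₂P c, ?_⟩
  rw [← pow_mul, mul_comm, pow_mul, hx₂y, hc]

end Cfsg.Agent.ChevTori
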