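import Cfsg.Agent.ChevTori.Eigen

/-!
A pairing that vanishes on the orbit of a vector of an irreducible cyclotomic part kills that part.
-/

set_option autoImplicit false

namespace Cfsg.Agent.ChevTori

open Polynomial Matrix

variable {l : ℕ}

/-- The rows `v A^i`, `i < φ(h)`, are independent for a nonzero `v` killed by `Φ_h(A)`. -/
theorem linearIndependent_orbit {A : Matrix (Fin l) (Fin l) ℚ} {h : ℕ} (hh : 0 < h) {v : Fin l → ℚ}
    (hv : v ≠ 0) (hk : aeval A (cyclotomic h ℚ) *ᵥ v = 0) :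
    LinearIndependent ℚ fun i : Fin h.totient => (A ^ (i : ℕ)) *ᵥ v := by
  classical
  rw [Fintype.linearIndependent_iff]
  intro c hc
  set g : ℚ[X] := ∑ i : Fin h.totient, C (c i) * X ^ (i : ℕ) with hg
  have hg0 : aeval A g *ᵥ v = 0 := by
    rw [hg, map_sum, Matrix.sum_mulVec]
    refine Eq.trans (Finset.sum_congr rfl fun i _ => ?_) hc
    rw [map_mul, aeval_C, map_pow, aeval_X, ← Algebra.smul_def, Matrix.smul_mulVec]
  have hz : g = 0 := by
    by_contra hne
    have hnd : ¬ cyclotomic h ℚ ∣ g := fun hd => by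
      have h1 := Polynomial.natDegree_le_of_dvd hd hne
      rw [natDegree_cyclotomic] at h1
      have h2 : g.natDegree < h.totient := by
        refine (natDegree_lt_iff_degree_lt hne).2 ?_
        rw [hg]
        exact degree_sum_fin_lt c
      omega
    obtain ⟨x, y, hxy⟩ := ((cyclotomic.irreducible_rat hh).coprime_iff_not_dvd).2 hnd
    have h2 := congrArg (fun f => (aeval A f) *ᵥ v) hxy
    simp only [map_add, map_mul, map_one, Matrix.one_mulVec, Matrix.add_mulVec,
      ← Matrix.mulVec_mulVec, hk, hg0, Matrix.mulVec_zero, add_zero] at h2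
    exact hv h2.symm
  intro i
  have := congrArg (fun f => Polynomial.coeff f (i : ℕ)) hz
  simp only [hg, finset_sum_coeff, coeff_C_mul, coeff_X_pow, coeff_zero] at this
  rw [Finset.sum_eq_single i] at this
  · simpa using this
  · intro j _ hj
    simp [Fin.val_ne_of_ne (Ne.symm hj)]
  · simp

/-- Twice the degree above the size leaves no room for an orthogonal pair of orbits. -/
theorem eq_zero_of_pair {A : Matrix (Fin l) (Fin l) ℤ} {h : ℕ} (hh : 0 < h) (hl : l < 2 * h.totient)
    {a w : Fin l → ℤ} (ha : a ≠ 0) (hak : aeval A (cyclotomic h ℤ) *ᵥ a = 0)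
    (hwk : w ᵥ* aeval A (cyclotomic h ℤ) = 0) (hz : ∀ i : ℕ, w ⬝ᵥ ((A ^ i) *ᵥ a) = 0) : w = 0 := by
  classical
  by_contra hw
  set AQ : Matrix (Fin l) (Fin l) ℚ := (Int.castRingHom ℚ).mapMatrix A with hAQ
  have hmap : aeval AQ (cyclotomic h ℚ) = (Int.castRingHom ℚ).mapMatrix (aeval A (cyclotomic h ℤ)) := by
    rw [← map_cyclotomic h (Int.castRingHom ℚ), hAQ, aeval_def, eval₂_map, aeval_def]
    conv_rhs => rw [Polynomial.hom_eval₂]
    congr 1
    exact RingHom.ext_int _ _
  let aQ : Fin l → ℚ := fun j => (a j : ℚ)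
  let wQ : Fin l → ℚ := fun j => (w j : ℚ)
  have hmv : ∀ (B : Matrix (Fin l) (Fin l) ℤ) (v : Fin l → ℤ),
      (Int.castRingHom ℚ).mapMatrix B *ᵥ (fun j => (v j : ℚ)) = fun j => ((B *ᵥ v) j : ℚ) := fun B v => by
    funext j; simp [Matrix.mulVec, dotProduct]
  have haQ : aQ ≠ 0 := fun e => ha (funext fun i => by simpa [aQ] using congrFun e i)
  have hwQ : wQ ≠ 0 := fun e => hw (funext fun i => by simpa [wQ] using congrFun e i)
  have h1 := linearIndependent_orbit hh (A := AQ) haQ (by rw [hmap, hmv, hak]; funext j; simp)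
  have h2 := linearIndependent_orbit hh (A := AQᵀ) hwQ (by
    have e : aeval AQᵀ (cyclotomic h ℚ) = (aeval AQ (cyclotomic h ℚ))ᵀ := by
      rw [aeval_eq_sum_range, aeval_eq_sum_range, Matrix.transpose_sum]
      exact Finset.sum_congr rfl fun i _ => by rw [Matrix.transpose_smul, Matrix.transpose_pow]
    rw [e, hmap, Matrix.mulVec_transpose]
    funext j
    have := congrArg (fun z : ℤ => (z : ℚ)) (congrFun hwk j)
    simpa [Matrix.vecMul, dotProduct, wQ] using this)
  set P : Matrix (Fin h.totient) (Fin l) ℚ := Matrix.of fun i => (AQᵀ ^ (i : ℕ)) *ᵥ wQ with hP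
  set Q : Matrix (Fin h.totient) (Fin l) ℚ := Matrix.of fun i => (AQ ^ (i : ℕ)) *ᵥ aQ with hQ
  have hPQ : P * Qᵀ = 0 := by
    ext i k
    rw [Matrix.mul_apply, Matrix.zero_apply]
    show (((AQᵀ ^ (i : ℕ)) *ᵥ wQ) ⬝ᵥ ((AQ ^ (k : ℕ)) *ᵥ aQ)) = 0
    rw [← Matrix.transpose_pow, Matrix.mulVec_transpose, ← Matrix.dotProduct_mulVec, Matrix.mulVec_mulVec,
      ← pow_add, hAQ, ← map_pow, hmv]
    have := congrArg (fun z : ℤ => (z : ℚ)) (hz ((i : ℕ) + k))
    simpa [dotProduct, wQ] using this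
  have hr := Matrix.rank_add_rank_le_card_of_mul_eq_zero hPQ
  rw [Matrix.rank_transpose, (show LinearIndependent ℚ P.row from h2).rank_matrix,
    (show LinearIndependent ℚ Q.row from h1).rank_matrix] at hr
  simp only [Fintype.card_fin] at hr
  omega

end Cfsg.Agent.ChevTori
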