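import Cfsg.Agent.ChevTori.SelfCent

/-!
An explicit Lang element in the product of three commuting rank one subgroups permuted by a Frobenius
twist: it multiplies the twist by a fundamental reflection.
-/

set_option autoImplicit false

namespace Cfsg.Agent.ChevTori

open Cfsg.Lie Cfsg.Agent.ChevGroup Cfsg.Agent.ChevCore Cfsg.Agent.ChevFixed Matrix

/-- A solution of `c e^Q = -e`, `e = c B^Q - B`, for `c` of norm one in a field of order `Q ^ 4`. -/
theorem exists_lang_param {F : Type} [Field F] [Fintype F] (φ : F →+* F) {Q : ℕ} (hQ : 2 ≤ Q)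
    (hφ : ∀ a, φ a = a ^ Q) (hcard : Fintype.card F = Q ^ 4) {c : F}
    (hnorm : c ^ (1 + Q + Q ^ 2 + Q ^ 3) = 1) :
    ∃ e B : F, e ≠ 0 ∧ c * e ^ Q = -e ∧ c * B ^ Q = B + e := by
  classical
  have hc : c ≠ 0 := by
    rintro rfl
    rw [zero_pow (by omega)] at hnorm
    exact zero_ne_one hnorm
  obtain ⟨ξ, hξ⟩ := IsCyclic.exists_generator (α := Fˣ)
  have hord : orderOf ξ = Q ^ 4 - 1 := by
    rw [orderOf_eq_card_of_forall_mem_zpowers hξ, Nat.card_eq_fintype_card, Fintype.card_units, hcard]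
  obtain ⟨j, hj⟩ := Subgroup.mem_zpowers_iff.1 (hξ (Units.mk0 c hc))
  set S := 1 + Q + Q ^ 2 + Q ^ 3 with hS
  have hS1 : (((Q ^ 4 - 1 : ℕ)) : ℤ) = ((Q : ℤ) - 1) * S := by
    rw [Nat.cast_sub (Nat.one_le_pow _ _ (by omega)), hS]
    push_cast
    ring
  have hjS : (((Q ^ 4 - 1 : ℕ)) : ℤ) ∣ j * S := by
    rw [← hord, orderOf_dvd_iff_zpow_eq_one, _root_.zpow_mul, hj, zpow_natCast]
    exact Units.ext (by rw [Units.val_pow_eq_pow_val, Units.val_mk0, hnorm, Units.val_one])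
  rw [hS1] at hjS
  obtain ⟨m, hm⟩ : ((Q : ℤ) - 1) ∣ j := by
    refine Int.dvd_of_mul_dvd_mul_right ?_ hjS
    have : 0 < S := by omega
    exact_mod_cast this.ne'
  set L : Fˣ := ξ ^ (-m)
  have hL : Units.mk0 c hc * L ^ Q = L := by
    rw [← hj, ← zpow_natCast, ← _root_.zpow_mul, ← _root_.zpow_add, hm]
    congr 1
    ring
  set η : Fˣ := ξ ^ (Q ^ 2 + 1) with hη
  have hηo : orderOf η = Q ^ 2 - 1 := by
    have h4 : Q ^ 4 - 1 = (Q ^ 2 + 1) * (Q ^ 2 - 1) := by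
      rw [show (4 : ℕ) = 2 * 2 from rfl, pow_mul]
      exact (Nat.sq_sub_sq (Q ^ 2) 1).trans rfl
    rw [hη, orderOf_pow' _ (by omega), hord, h4, Nat.gcd_mul_right_left, Nat.mul_div_cancel_left _ (by omega)]
  set b : F := (η : F)
  have hb2 : (b ^ Q) ^ Q = b := by
    have h1 : η ^ (Q * Q) = η := by
      have h2 : 1 ≤ Q * Q := Nat.one_le_iff_ne_zero.2 (by positivity)
      have h3 : η ^ (Q ^ 2 - 1) = 1 := hηo ▸ pow_orderOf_eq_one η
      calc η ^ (Q * Q) = η ^ ((Q ^ 2 - 1) + 1) := by rw [pow_two, Nat.sub_add_cancel h2]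
        _ = η := by rw [pow_add, h3, one_mul, pow_one]
    rw [← pow_mul]
    exact (Units.val_pow_eq_pow_val η (Q * Q)).symm.trans (congrArg Units.val h1)
  have hb1 : b ^ Q ≠ b := by
    intro e
    have h1 : η ^ Q = η := Units.ext (by rw [Units.val_pow_eq_pow_val]; exact e)
    have h2 : η ^ (Q - 1) = 1 := by
      apply mul_right_cancel (b := η)
      rw [← pow_succ, Nat.sub_add_cancel (by omega), h1, one_mul]
    have h3 := Nat.le_of_dvd (by omega) (hηo ▸ orderOf_dvd_of_pow_eq_one h2)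
    have h4 : 2 * Q ≤ Q ^ 2 := by rw [pow_two]; exact Nat.mul_le_mul_right Q hQ
    omega
  have hLv : c * (L : F) ^ Q = (L : F) := by
    have := congrArg Units.val hL
    rwa [Units.val_mul, Units.val_mk0, Units.val_pow_eq_pow_val] at this
  refine ⟨(L : F) * (b ^ Q - b), (L : F) * b, mul_ne_zero (Units.ne_zero L) (sub_ne_zero.2 hb1), ?_, ?_⟩
  · rw [mul_pow, ← mul_assoc, hLv, ← hφ (b ^ Q - b), map_sub, hφ, hφ, hb2]
    ring
  · rw [mul_pow, ← mul_assoc, hLv]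
    ring

variable {D : ChevalleyDatum} (T : Model D) (hU : UGood D) {F : Type} [Field F] [Fintype F]

omit [Fintype F] in
theorem nw_conj_pm (w : List (Fin T.tab.l)) (r : Fin T.tab.n) :
    ∃ e : F, e * e = 1 ∧
      (∀ a, (rr T hU).nw w * (rr T hU).x r a * ((rr T hU).nw w)⁻¹ =
        (rr T hU).x (T.S.actw w r) (e * a)) ∧
      ∀ a, (rr T hU).nw w * (rr T hU).x (T.S.neg r) a * ((rr T hU).nw w)⁻¹ =
        (rr T hU).x (T.S.actw w (T.S.neg r)) (e * a) := by
  generalize (rr (F := F) T hU) = R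
  induction w with
  | nil => exact ⟨1, one_mul 1, fun a => by simp, fun a => by simp⟩
  | cons i w ih =>
    obtain ⟨e, he, h1, h2⟩ := ih
    refine ⟨R.sgn i (T.S.actw w r) * e, by rw [mul_mul_mul_comm, R.sgn_sq, he, one_mul],
      fun a => ?_, fun a => ?_⟩
    · rw [R.nw_cons, T.S.actw_cons, mul_assoc _ e a, ← R.n_conj', ← h1 a]
      group
    · rw [R.nw_cons, T.S.actw_cons, ← R.sgn_neg i (T.S.actw w r), ← T.S.actw_neg, mul_assoc _ e a,
        ← R.n_conj', ← h2 a]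
      group

omit [Fintype F] in
include hU in
/-- The Frobenius twist permutes the root subgroups. -/
theorem twist_x (σ : F →+* F) {q : ℕ} (hσ : ∀ b, σ b = b ^ q) (v : List (Fin T.tab.l))
    {k : ↥(D.group F)} (hk : k ∈ (rr T hU).H) (r : Fin T.tab.n) :
    ∃ c : F, c ≠ 0 ∧
      (∀ a, ((rr T hU).nw v * k)⁻¹ * mapGroup σ ((rr T hU).x (T.S.actw v r) a) * ((rr T hU).nw v * k) =
        (rr T hU).x r (c * a ^ q)) ∧
      ∀ a, ((rr T hU).nw v * k)⁻¹ * mapGroup σ ((rr T hU).x (T.S.actw v (T.S.neg r)) a) *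
          ((rr T hU).nw v * k) = (rr T hU).x (T.S.neg r) (c⁻¹ * a ^ q) := by
  set R := rr (F := F) T hU
  obtain ⟨e, he, h1, h2⟩ := nw_conj_pm (F := F) T hU v r
  have he0 : e ≠ 0 := left_ne_zero_of_mul_eq_one he
  have hk' := inv_mem hk
  have hinv : chi T k⁻¹ (T.S.neg r) = (chi T k⁻¹ r)⁻¹ := by
    rw [show k⁻¹ = ((⟨k⁻¹, hk'⟩ : R.H) : ↥(D.group F)) from rfl, chi_eq_chiu T hU, chi_eq_chiu T hU,
      chiu_neg T hU, Units.val_inv_eq_inv_val]
  refine ⟨chi T k⁻¹ r * e, mul_ne_zero (chi_ne_zero T hU hk' r) he0, fun a => ?_, fun a => ?_⟩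
  · rw [mapGroup_x T, hσ, show (R.nw v * k)⁻¹ * R.x (T.S.actw v r) (a ^ q) * (R.nw v * k) =
      k⁻¹ * ((R.nw v)⁻¹ * R.x (T.S.actw v r) (a ^ q) * R.nw v) * k⁻¹⁻¹ by group,
      show (R.nw v)⁻¹ * R.x (T.S.actw v r) (a ^ q) * R.nw v = R.x r (e * a ^ q) by
        rw [show R.x (T.S.actw v r) (a ^ q) = R.nw v * R.x r (e * a ^ q) * (R.nw v)⁻¹ by
          rw [h1, ← mul_assoc, he, one_mul]]
        group,
      conj_x T hU hk', mul_assoc]
  · rw [mapGroup_x T, hσ, show (R.nw v * k)⁻¹ * R.x (T.S.actw v (T.S.neg r)) (a ^ q) * (R.nw v * k) =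
      k⁻¹ * ((R.nw v)⁻¹ * R.x (T.S.actw v (T.S.neg r)) (a ^ q) * R.nw v) * k⁻¹⁻¹ by group,
      show (R.nw v)⁻¹ * R.x (T.S.actw v (T.S.neg r)) (a ^ q) * R.nw v =
          R.x (T.S.neg r) (e * a ^ q) by
        rw [show R.x (T.S.actw v (T.S.neg r)) (a ^ q) =
          R.nw v * R.x (T.S.neg r) (e * a ^ q) * (R.nw v)⁻¹ by rw [h2, ← mul_assoc, he, one_mul]]
        group,
      conj_x T hU hk', hinv, mul_inv, mul_assoc, inv_eq_of_mul_eq_one_right he]

set_option maxHeartbeats 2000000 in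
include hU in
/-- The switch of a twist by a fundamental reflection with orbit of three commuting rank one subgroups. -/
theorem exists_switch_twist (hD : Stb.Cert D) (σ : F →+* F) {q : ℕ} (hq : 2 ≤ q)
    (hσ : ∀ b, σ b = b ^ q) (hcard : Fintype.card F = q ^ 12) (g : ↥(D.group F))
    (v : List (Fin T.tab.l)) {k : ↥(D.group F)} (hk : k ∈ (rr T hU).H)
    (hn : mapGroup σ g * g⁻¹ = (rr T hU).nw v * k) (i : Fin T.tab.l) {r₁ r₂ : Fin T.tab.n}
    (h₁ : T.S.actw v r₁ = T.S.simple i) (h₂ : T.S.actw v r₂ = r₁)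
    (h₀ : T.S.actw v (T.S.simple i) = r₂)
    (hc : ∀ s t, (s = T.S.simple i ∨ s = T.S.neg (T.S.simple i)) →
      (t = r₁ ∨ t = T.S.neg r₁ ∨ t = r₂ ∨ t = T.S.neg r₂) → ∀ a b,
        Commute ((rr (F := F) T hU).x s a) ((rr (F := F) T hU).x t b))
    (hp : ∀ c : F, c ≠ 0 →
      (rr T hU).x (T.S.simple i) c * (rr T hU).x (T.S.neg (T.S.simple i)) (-c⁻¹) *
          (rr T hU).x (T.S.simple i) c =
        (rr T hU).x (T.S.neg (T.S.simple i)) (-c⁻¹) * (rr T hU).x (T.S.simple i) c *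
          (rr T hU).x (T.S.neg (T.S.simple i)) (-c⁻¹)) :
    ∃ g' : ↥(D.group F), ∃ k' ∈ (rr T hU).H,
      mapGroup σ g' * g'⁻¹ = (rr T hU).nw (v ++ [i]) * k' := by
  classical
  set R := rr (F := F) T hU
  set τ := mapGroup (D := D) σ
  set n := R.nw v * k with hndef
  let Fr : ↥(D.group F) →* ↥(D.group F) := ((MulAut.conj n⁻¹).toMonoidHom).comp τ
  have hFr : ∀ y, Fr y = n⁻¹ * τ y * n := fun y => by
    simp only [Fr, MonoidHom.comp_apply, MulEquiv.coe_toMonoidHom, MulAut.conj_apply, inv_inv]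
  set α := T.S.simple i with hα
  obtain ⟨c₁, hc₁, p₁, m₁⟩ := twist_x T hU σ hσ v hk r₁
  obtain ⟨c₂, hc₂, p₂, m₂⟩ := twist_x T hU σ hσ v hk r₂
  obtain ⟨c₀, hc₀, p₀, m₀⟩ := twist_x T hU σ hσ v hk α
  rw [h₁] at p₁
  rw [h₂] at p₂
  rw [h₀] at p₀
  rw [T.S.actw_neg, h₁] at m₁
  rw [T.S.actw_neg, h₂] at m₂
  rw [T.S.actw_neg, h₀] at m₀
  replace p₁ := fun a => (hFr _).trans (p₁ a)
  replace p₂ := fun a => (hFr _).trans (p₂ a)
  replace p₀ := fun a => (hFr _).trans (p₀ a)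
  replace m₁ := fun a => (hFr _).trans (m₁ a)
  replace m₂ := fun a => (hFr _).trans (m₂ a)
  replace m₀ := fun a => (hFr _).trans (m₀ a)
  set cc := c₀ * (c₂ * c₁ ^ q) ^ q with hcc
  set Q := q ^ 3 with hQdef
  have hP3 : ∀ a, Fr (Fr (Fr (R.x α a))) = R.x α (cc * a ^ Q) := fun a => by
    rw [p₁, p₂, p₀]
    congr 1
    rw [hcc, hQdef]
    ring
  have hM3 : ∀ a, Fr (Fr (Fr (R.x (T.S.neg α) a))) = R.x (T.S.neg α) (cc⁻¹ * a ^ Q) := fun a => by
    rw [m₁, m₂, m₀]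
    congr 1
    rw [hcc, hQdef]
    simp only [mul_inv, mul_pow, inv_pow]
    ring
  -- the twist is a conjugate of the Frobenius map, of order dividing 12
  have hF12 : ∀ y, Fr^[12] y = y := by
    have hit : ∀ m y, Fr^[m] y = g * τ^[m] (g⁻¹ * y * g) * g⁻¹ := by
      intro m y
      induction m with
      | zero => simp only [Function.iterate_zero, id_eq]; group
      | succ m ih =>
        rw [Function.iterate_succ_apply', Function.iterate_succ_apply', ih, hFr, ← hn, map_mul,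
          map_mul, map_inv]
        group
    intro y
    have e : ∀ z : ↥(D.group F), τ^[12] z = z := by
      intro z
      refine Model.mat_inj ?_
      have hm : ∀ m, Model.mat (τ^[m] z) = (Model.mat z).map (σ^[m]) := by
        intro m
        induction m with
        | zero => ext a c; rfl
        | succ m ih =>
          rw [Function.iterate_succ_apply', Function.iterate_succ']
          ext a c
          show σ ((Model.mat (τ^[m] z)) a c) = _
          rw [ih]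
          rfl
      rw [hm]
      ext a c
      have hs : ∀ m (x : F), σ^[m] x = x ^ q ^ m := by
        intro m x
        induction m with
        | zero => simp
        | succ m ih => rw [Function.iterate_succ_apply', ih, hσ, ← pow_mul, ← pow_succ]
      rw [Matrix.map_apply, hs, ← hcard]
      exact FiniteField.pow_card _
    rw [hit, e]
    group
  have hnorm : cc ^ (1 + Q + Q ^ 2 + Q ^ 3) = 1 := by
    have h := hF12 (R.x α 1)
    simp only [Function.iterate_succ_apply', Function.iterate_zero, id_eq, hP3] at h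
    have h1 := x_inj T hU α h
    rw [← h1]
    ring
  have hQ2 : 2 ≤ Q := hq.trans (Nat.le_self_pow (by norm_num) q)
  obtain ⟨e, B, he, hce, hcB⟩ := exists_lang_param (σ.comp (σ.comp σ)) hQ2
    (fun a => by simp only [RingHom.comp_apply, hσ, ← pow_mul, hQdef]; ring)
    (by rw [hcard, hQdef, ← pow_mul]) hnorm
  set k₀ := R.x (T.S.neg α) e⁻¹ * R.x α B with hk₀
  set ne := R.x α e * R.x (T.S.neg α) (-e⁻¹) * R.x α e with hne
  have hF3 : Fr (Fr (Fr k₀)) = ne * k₀ := by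
    have h3 : cc⁻¹ * e⁻¹ ^ Q = -e⁻¹ := by
      rw [inv_pow, ← mul_inv, hce, inv_neg]
    rw [hk₀, map_mul, map_mul, map_mul, hP3, hM3, h3, hcB, hne, hp e he, add_comm B e, R.x_add,
      show R.x (T.S.neg α) (-e⁻¹) = (R.x (T.S.neg α) e⁻¹)⁻¹ from R.x_neg _ _]
    group
  -- the three rank one factors commute
  have hcom : ∀ a b, Commute (R.x (T.S.neg α) a * R.x α b) (Fr k₀) ∧
      Commute (R.x (T.S.neg α) a * R.x α b) (Fr (Fr k₀)) := by
    intro a b
    have g1 : Fr k₀ = R.x (T.S.neg r₁) (c₁⁻¹ * e⁻¹ ^ q) * R.x r₁ (c₁ * B ^ q) := by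
      rw [hk₀, map_mul, p₁, m₁]
    have g2 : ∃ a' b', Fr (Fr k₀) = R.x (T.S.neg r₂) a' * R.x r₂ b' :=
      ⟨_, _, by rw [g1, map_mul, p₂, m₂]⟩
    obtain ⟨a', b', g2⟩ := g2
    rw [g2, g1]
    refine ⟨?_, ?_⟩
    · refine Commute.mul_right (Commute.mul_left ?_ ?_) (Commute.mul_left ?_ ?_)
      · exact hc _ _ (Or.inr rfl) (Or.inr (Or.inl rfl)) _ _
      · exact hc _ _ (Or.inl rfl) (Or.inr (Or.inl rfl)) _ _
      · exact hc _ _ (Or.inr rfl) (Or.inl rfl) _ _
      · exact hc _ _ (Or.inl rfl) (Or.inl rfl) _ _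
    · refine Commute.mul_right (Commute.mul_left ?_ ?_) (Commute.mul_left ?_ ?_)
      · exact hc _ _ (Or.inr rfl) (Or.inr (Or.inr (Or.inr rfl))) _ _
      · exact hc _ _ (Or.inl rfl) (Or.inr (Or.inr (Or.inr rfl))) _ _
      · exact hc _ _ (Or.inr rfl) (Or.inr (Or.inr (Or.inl rfl))) _ _
      · exact hc _ _ (Or.inl rfl) (Or.inr (Or.inr (Or.inl rfl))) _ _
  have hK1 : Commute (Fr (Fr (Fr k₀))) (Fr k₀) ∧ Commute (Fr (Fr (Fr k₀))) (Fr (Fr k₀)) := by
    have g3 : Fr (Fr (Fr k₀)) =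
        R.x (T.S.neg α) (cc⁻¹ * e⁻¹ ^ Q) * R.x α (cc * B ^ Q) := by
      rw [hk₀, map_mul, map_mul, map_mul, hP3, hM3]
    rw [g3]
    exact hcom _ _
  set kk := k₀ * Fr k₀ * Fr (Fr k₀) with hkk
  have hfix : Fr kk * kk⁻¹ = ne := by
    have h1 : Fr kk = Fr (Fr (Fr k₀)) * (Fr k₀ * Fr (Fr k₀)) := by
      rw [hkk, map_mul, map_mul]
      exact (Commute.mul_right hK1.1 hK1.2).eq.symm
    rw [h1, hF3, hkk]
    group
  -- the product lies in the coset of the reflection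
  obtain ⟨h', hh', hne'⟩ : ∃ h' ∈ R.H, ne = h' * R.n i := by
    have hC := hU.toCommGood
    have hp' : (rr (F := F) T hU).x α e = Stb.th hC ((Stb.rel T hD).x α e) := (Stb.th_x T hD hC α e).symm
    refine ⟨Stb.th hC (psil T hD (Pi.mulSingle i (Units.mk0 e he))), th_psil_mem T hD hU _, ?_⟩
    rw [hne, ← Stb.th_n T hD hC, psil_single, ← map_mul, Units.val_mk0,
      show (Stb.rel T hD).n i = Stb.nb D F (D.simple i.val) 1 by
        simp only [RootRel.n, RootRel.nr, nOf, Stb.nb, Stb.rel, T.neg_eq, T.simple_eq],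
      ← Stb.nb_eq, Stb.nb, map_mul, map_mul]
    rw [show Stb.xb D F (D.simple i.val) e = (Stb.rel T hD).x α e by
        simp only [Stb.rel, hα, T.simple_eq],
      show Stb.xb D F (D.neg (D.simple i.val)) (-e⁻¹) = (Stb.rel T hD).x (T.S.neg α) (-e⁻¹) by
        simp only [Stb.rel, hα, T.neg_eq, T.simple_eq],
      Stb.th_x, Stb.th_x]
  refine ⟨kk * g, (R.n i)⁻¹ * (k * h') * R.n i, ?_, ?_⟩
  · have e1 : R.nw [i] = R.n i := by simp
    have := R.nw_inv_conj_mem_H [i] (mul_mem hk hh')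
    rwa [e1] at this
  · calc τ (kk * g) * (kk * g)⁻¹ = τ kk * (τ g * g⁻¹) * kk⁻¹ := by rw [map_mul]; group
      _ = n * (Fr kk * kk⁻¹) := by rw [hn, hFr, hndef]; group
      _ = R.nw v * k * (h' * R.n i) := by rw [hfix, hne', hndef]
      _ = R.nw (v ++ [i]) * ((R.n i)⁻¹ * (k * h') * R.n i) := by
        rw [R.nw_append, R.nw_cons, R.nw_nil, mul_one]; group

end Cfsg.Agent.ChevTori
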