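import Cfsg.Agent.ChevTori.Group

/-!
Parabolic subgroups of the Weyl group of a model: the factorisation `1 - P = C M` through the Cartan matrix,
and the descent to a smaller parabolic subgroup along a fixed vector.
-/

set_option autoImplicit false

namespace Cfsg.Agent.ChevTori

open Cfsg.Lie Cfsg.Agent.ChevGroup Cfsg.Agent.ChevCore Matrix

variable {D : ChevalleyDatum} (T : Model D)

/-- The Cartan matrix of a model, the row of a fundamental root. -/
def cartT : Matrix (Fin T.tab.l) (Fin T.tab.l) ℤ :=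
  Matrix.of fun j i => D.cartan i.val (T.S.simple j).val

/-- The subgroup generated by the reflections of a set of fundamental roots. -/
def weylS (S : Set (Fin T.tab.l)) : Subgroup (Equiv.Perm (Fin T.tab.n)) :=
  Subgroup.closure (reflPerm T '' S)

theorem weylS_le (S : Set (Fin T.tab.l)) : weylS T S ≤ weyl T :=
  Subgroup.closure_mono (Set.image_subset_range _ _)

theorem weylS_univ : weylS T Set.univ = weyl T := by rw [weylS, Set.image_univ]; rfl

theorem weylS_mono {S S' : Set (Fin T.tab.l)} (h : S ⊆ S') : weylS T S ≤ weylS T S' :=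
  Subgroup.closure_mono (Set.image_mono h)

theorem reflPerm_mem_weylS {S : Set (Fin T.tab.l)} {i : Fin T.tab.l} (hi : i ∈ S) :
    reflPerm T i ∈ weylS T S :=
  Subgroup.subset_closure ⟨i, hi, rfl⟩

theorem reflPerm_inv (i : Fin T.tab.l) : (reflPerm T i)⁻¹ = reflPerm T i := rfl

variable {T} (hG : Good D)

include hG

/-- The matrix of a fundamental reflection. -/
theorem one_sub_Pg_refl (i : Fin T.tab.l) :
    1 - Pg T (reflPerm T i) = cartT T * Matrix.diagonal (Pi.single i (1 : ℤ)) := by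
  ext j k
  rw [Matrix.mul_diagonal, Matrix.sub_apply, Matrix.one_apply]
  show _ - cf T (T.S.refl i (T.S.simple j)) k = _
  rw [cf_refl hG, cf_simple hG]
  by_cases hk : k = i
  · subst hk
    simp [cartT, eq_comm]
  · simp [hk, eq_comm]

theorem exists_one_sub_Pg {S : Set (Fin T.tab.l)} {γ : Equiv.Perm (Fin T.tab.n)}
    (hγ : γ ∈ weylS T S) :
    ∃ M : Matrix (Fin T.tab.l) (Fin T.tab.l) ℤ,
      (∀ j k, j ∉ S ∨ k ∉ S → M j k = 0) ∧ 1 - Pg T γ = cartT T * M := by
  have hgen : ∀ i ∈ S, ∃ M : Matrix (Fin T.tab.l) (Fin T.tab.l) ℤ,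
      (∀ j k, j ∉ S ∨ k ∉ S → M j k = 0) ∧ 1 - Pg T (reflPerm T i) = cartT T * M := by
    intro i hi
    refine ⟨_, fun j k h => ?_, one_sub_Pg_refl hG i⟩
    rcases eq_or_ne j k with rfl | hne
    · rw [Matrix.diagonal_apply_eq, Pi.single_eq_of_ne]
      rintro rfl
      exact h.elim (fun e => e hi) fun e => e hi
    · exact Matrix.diagonal_apply_ne _ hne
  induction hγ using Subgroup.closure_induction'' with
  | mem x hx =>
    obtain ⟨i, hi, rfl⟩ := hx
    exact hgen i hi
  | inv_mem x hx =>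
    obtain ⟨i, hi, rfl⟩ := hx
    rw [reflPerm_inv]
    exact hgen i hi
  | one => exact ⟨0, fun j k _ => rfl, by rw [Pg_one hG, sub_self, Matrix.mul_zero]⟩
  | mul x y hx hy ihx ihy =>
    obtain ⟨Mx, hMx, ex⟩ := ihx
    obtain ⟨My, hMy, ey⟩ := ihy
    refine ⟨My + (Mx - My * (cartT T * Mx)), fun j k h => ?_, ?_⟩
    · rw [Matrix.add_apply, Matrix.sub_apply, hMy j k h, hMx j k h, Matrix.mul_apply, zero_add, zero_sub,
        neg_eq_zero]
      refine Finset.sum_eq_zero fun m _ => ?_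
      rcases h with h | h
      · rw [hMy j m (Or.inl h), zero_mul]
      · rw [Matrix.mul_apply, Finset.sum_eq_zero (fun p _ => by rw [hMx p k (Or.inr h), mul_zero]),
          mul_zero]
    · rw [Pg_mul hG (weylS_le T S hx), eq_sub_of_add_eq' (sub_eq_iff_eq_add.1 ey).symm,
        eq_sub_of_add_eq' (sub_eq_iff_eq_add.1 ex).symm, Matrix.mul_add, Matrix.mul_sub]
      noncomm_ring

theorem Pg_col {S : Set (Fin T.tab.l)} {γ : Equiv.Perm (Fin T.tab.n)} (hγ : γ ∈ weylS T S)
    (j : Fin T.tab.l) {k : Fin T.tab.l} (hk : k ∉ S) : Pg T γ j k = if j = k then 1 else 0 := by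
  obtain ⟨M, hM, e⟩ := exists_one_sub_Pg hG hγ
  have h := congrFun (congrFun e j) k
  rw [Matrix.sub_apply, Matrix.one_apply, Matrix.mul_apply,
    Finset.sum_eq_zero (fun m _ => by rw [hM m k (Or.inr hk), mul_zero]), sub_eq_zero] at h
  exact h.symm

/-- The Cartan determinant of a set of fundamental roots divides `det (1 - P)` on it. -/
theorem det_cartT_dvd {S : Set (Fin T.tab.l)} {γ : Equiv.Perm (Fin T.tab.n)} (hγ : γ ∈ weylS T S)
    {k : ℕ} (e : Fin k → Fin T.tab.l) (he : Function.Injective e) (hS : S ⊆ Set.range e) :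
    ((cartT T).submatrix e e).det ∣ (1 - (Pg T γ).submatrix e e).det := by
  obtain ⟨M, hM, h⟩ := exists_one_sub_Pg hG hγ
  refine ⟨(M.submatrix e e).det, ?_⟩
  rw [← Matrix.det_mul]
  congr 1
  ext a c
  have h1 := congrFun (congrFun h (e a)) (e c)
  rw [Matrix.sub_apply, Matrix.one_apply] at h1
  rw [Matrix.sub_apply, Matrix.one_apply, Matrix.submatrix_apply, Matrix.mul_apply]
  simp only [Matrix.submatrix_apply]
  simp only [he.eq_iff] at h1
  rw [h1, Matrix.mul_apply, ← Finset.sum_image (s := Finset.univ) (g := e)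
    (f := fun m => cartT T (e a) m * M m (e c)) he.injOn]
  refine (Finset.sum_subset (Finset.subset_univ _) fun m _ hm => ?_).symm
  rw [hM m (e c) (Or.inl fun hS' => hm ?_), mul_zero]
  obtain ⟨a', rfl⟩ := hS hS'
  exact Finset.mem_image_of_mem _ (Finset.mem_univ a')

omit hG in
theorem ev_one_eq_ht (hG : Good D) (s : Fin T.tab.n) : ev T (1 : Fin T.tab.l → ℤ) s = ht D s.val := by
  rw [hG.ht_eq (T.lt s), ← T.l_eq, Finset.sum_range]
  exact Finset.sum_congr rfl fun j _ => mul_one _

theorem pos_iff_ev (s : Fin T.tab.n) : T.S.pos s ↔ 0 < ev T (1 : Fin T.tab.l → ℤ) s := by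
  rw [T.pos_val, hG.isPosRoot_iff (T.lt s), ev_one_eq_ht hG]

theorem cf_nonneg {s : Fin T.tab.n} (hs : T.S.pos s) (j : Fin T.tab.l) : 0 ≤ cf T s j :=
  hG.coef_nonneg (T.lt s) ((hG.isPosRoot_iff (T.lt s)).1 ((T.pos_val s).1 hs)) (T.lt_l j)

theorem cf_nonpos {s : Fin T.tab.n} (hs : ¬ T.S.pos s) (j : Fin T.tab.l) : cf T s j ≤ 0 := by
  have h := cf_nonneg hG ((T.S.pos_or_neg s).resolve_left hs) j
  rw [cf_neg hG] at h
  omega

/-- An element of a parabolic subgroup fixing a dominant vector lies in the parabolic subgroup of its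
zeros. -/
theorem mem_weylS_zeros (hfix : ∀ x ∈ weyl T, (∀ s, T.S.pos s → T.S.pos (x s)) → x = 1)
    {S : Set (Fin T.tab.l)} {a : Fin T.tab.l → ℤ} (ha : ∀ i ∈ S, 0 ≤ a i)
    {z : Equiv.Perm (Fin T.tab.n)} (hz : z ∈ weylS T S) (hza : ∀ t, ev T a (z t) = ev T a t) :
    z ∈ weylS T {i ∈ S | a i = 0} := by
  classical
  let inv : Equiv.Perm (Fin T.tab.n) → ℕ := fun y =>
    (Finset.univ.filter fun s => T.S.pos s ∧ ¬ T.S.pos (y s)).card
  induction h : inv z using Nat.strong_induction_on generalizing z with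
  | _ n ih =>
  by_cases h1 : ∀ s, T.S.pos s → T.S.pos (z s)
  · rw [hfix z (weylS_le T S hz) h1]
    exact one_mem _
  obtain ⟨i, hi⟩ : ∃ i, ¬ T.S.pos (z (T.S.simple i)) := by
    by_contra hall
    push Not at hall
    refine h1 fun s hs => (pos_iff_ev hG _).2 ?_
    have h0 : 0 ≤ ev T (1 : Fin T.tab.l → ℤ) (z s) := by
      rw [ev_weyl hG (weylS_le T S hz)]
      exact Finset.sum_nonneg fun j _ =>
        mul_nonneg (cf_nonneg hG hs j) ((pos_iff_ev hG _).1 (hall j)).le
    refine lt_of_le_of_ne h0 fun e => hG.ht_ne_zero (T.lt (z s)) ?_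
    rw [← ev_one_eq_ht hG, ← e]
  have hiS : i ∈ S := by
    by_contra hiS
    have h2 := cf_nonpos hG hi i
    rw [show cf T (z (T.S.simple i)) i = Pg T z i i from rfl, Pg_col hG hz i hiS, if_pos rfl] at h2
    omega
  have hai : a i = 0 := by
    refine le_antisymm ?_ (ha i hiS)
    rw [← ev_simple hG a i, ← hza]
    refine Finset.sum_nonpos fun k _ => ?_
    by_cases hk : k ∈ S
    · exact mul_nonpos_of_nonpos_of_nonneg (cf_nonpos hG hi k) (ha k hk)
    · rw [show cf T (z (T.S.simple i)) k = Pg T z i k from rfl, Pg_col hG hz i hk,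
        if_neg (fun e : i = k => hk (e ▸ hiS)), zero_mul]
  set z' := z * reflPerm T i with hz'
  have hz'S : z' ∈ weylS T S := mul_mem hz (reflPerm_mem_weylS T hiS)
  have hz'a : ∀ t, ev T a (z' t) = ev T a t := by
    intro t
    rw [hz', Equiv.Perm.mul_apply, hza]
    show ev T a (T.S.refl i t) = _
    simp only [ev, cf_refl hG, sub_mul, Finset.sum_sub_distrib, ite_mul, zero_mul, Finset.sum_ite_eq',
      Finset.mem_univ, if_true, hai, mul_zero, sub_zero]
  have hneg : T.S.pos (z (T.S.neg (T.S.simple i))) := by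
    have h2 := ev_neg hG (1 : Fin T.tab.l → ℤ) (weylS_le T S hz) (T.S.simple i)
    have h3 := (not_congr (pos_iff_ev hG _)).1 hi
    have h4 : ev T (1 : Fin T.tab.l → ℤ) (z (T.S.simple i)) ≠ 0 := by
      rw [ev_one_eq_ht hG]; exact hG.ht_ne_zero (T.lt _)
    exact (pos_iff_ev hG _).2 (by omega)
  have hlt : inv z' < n := by
    rw [← h]
    refine lt_of_le_of_lt (Finset.card_le_card (t := ((Finset.univ.filter fun s =>
      T.S.pos s ∧ ¬ T.S.pos (z s)).erase (T.S.simple i)).image (T.S.refl i)) ?_) ?_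
    · intro t ht
      replace ht := (Finset.mem_filter.1 ht).2
      change T.S.pos t ∧ ¬ T.S.pos (z (T.S.refl i t)) at ht
      have hne : t ≠ T.S.simple i := by
        rintro rfl
        rw [T.S.refl_simple] at ht
        exact ht.2 hneg
      refine Finset.mem_image.2 ⟨T.S.refl i t, Finset.mem_erase.2 ⟨?_, ?_⟩, T.S.refl_refl i t⟩
      · intro e
        have := congrArg (T.S.refl i) e
        rw [T.S.refl_refl, T.S.refl_simple] at this
        exact T.S.not_pos_neg _ (T.S.simple_pos i) (this ▸ ht.1)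
      · simp only [Finset.mem_filter, Finset.mem_univ, true_and]
        exact ⟨T.S.refl_pos i t ht.1 hne, ht.2⟩
    · refine lt_of_le_of_lt Finset.card_image_le (Finset.card_erase_lt_of_mem ?_)
      simp only [Finset.mem_filter, Finset.mem_univ, true_and]
      exact ⟨T.S.simple_pos i, hi⟩
  have h5 := mul_mem (ih _ hlt hz'S hz'a rfl) (reflPerm_mem_weylS T (S := {i ∈ S | a i = 0}) ⟨hiS, hai⟩)
  have h6 : z' * reflPerm T i = z := by
    rw [hz', mul_assoc, show reflPerm T i * reflPerm T i = 1 from inv_eq_iff_mul_eq_one.1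
      (reflPerm_inv T i), mul_one]
  rwa [h6] at h5

/-- An element of a parabolic subgroup with a fixed vector not vanishing there is conjugate into a smaller
one. -/
theorem descend (hfix : ∀ x ∈ weyl T, (∀ s, T.S.pos s → T.S.pos (x s)) → x = 1)
    {S : Set (Fin T.tab.l)} {γ : Equiv.Perm (Fin T.tab.n)} (hγ : γ ∈ weylS T S)
    {a : Fin T.tab.l → ℤ} (ha : Pg T γ *ᵥ a = a) (hne : ∃ i ∈ S, a i ≠ 0) :
    ∃ u ∈ weylS T S, ∃ i ∈ S, u⁻¹ * γ * u ∈ weylS T (S \ {i}) := by
  classical
  let cnt : weylS T S → ℕ := fun u =>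
    (Finset.univ.filter fun s => T.S.pos s ∧ ev T a (u.1 s) < 0).card
  obtain ⟨u, -, hu⟩ := Finset.exists_min_image (Finset.univ : Finset (weylS T S)) cnt Finset.univ_nonempty
  have huW := weylS_le T S u.2
  set a' := Pg T u.1 *ᵥ a with ha'
  have hev : ∀ t, ev T a' t = ev T a (u.1 t) := fun t => (ev_weyl' hG huW a t).symm
  have hdom : ∀ i ∈ S, 0 ≤ a' i := by
    intro i hiS
    rw [← ev_simple hG a' i, hev]
    by_contra hi
    push Not at hi
    have hle := hu ⟨u.1 * reflPerm T i, mul_mem u.2 (reflPerm_mem_weylS T hiS)⟩ (Finset.mem_univ _)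
    have hlt : cnt ⟨u.1 * reflPerm T i, mul_mem u.2 (reflPerm_mem_weylS T hiS)⟩ < cnt u := by
      refine lt_of_le_of_lt (Finset.card_le_card (t := ((Finset.univ.filter fun s =>
        T.S.pos s ∧ ev T a (u.1 s) < 0).erase (T.S.simple i)).image (T.S.refl i)) ?_) ?_
      · intro t ht
        replace ht := (Finset.mem_filter.1 ht).2
        change T.S.pos t ∧ ev T a (u.1 (T.S.refl i t)) < 0 at ht
        have hne' : t ≠ T.S.simple i := by
          rintro rfl
          rw [T.S.refl_simple, ev_neg hG _ huW] at ht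
          omega
        refine Finset.mem_image.2 ⟨T.S.refl i t, Finset.mem_erase.2 ⟨?_, ?_⟩, T.S.refl_refl i t⟩
        · intro e
          have := congrArg (T.S.refl i) e
          rw [T.S.refl_refl, T.S.refl_simple] at this
          exact T.S.not_pos_neg _ (T.S.simple_pos i) (this ▸ ht.1)
        · simp only [Finset.mem_filter, Finset.mem_univ, true_and]
          exact ⟨T.S.refl_pos i t ht.1 hne', ht.2⟩
      · refine lt_of_le_of_lt Finset.card_image_le (Finset.card_erase_lt_of_mem ?_)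
        simp only [Finset.mem_filter, Finset.mem_univ, true_and]
        exact ⟨T.S.simple_pos i, hi⟩
    omega
  obtain ⟨i₁, hi₁S, hi₁⟩ : ∃ i ∈ S, a' i ≠ 0 := by
    by_contra hall
    push Not at hall
    obtain ⟨i, hiS, hi⟩ := hne
    apply hi
    have h1 : a i = ev T a' (u.1⁻¹ (T.S.simple i)) := by
      rw [hev, Equiv.Perm.coe_inv, Equiv.apply_symm_apply, ev_simple hG]
    rw [h1]
    refine Finset.sum_eq_zero fun k _ => ?_
    by_cases hk : k ∈ S
    · rw [hall k hk, mul_zero]
    · rw [show cf T (u.1⁻¹ (T.S.simple i)) k = Pg T u.1⁻¹ i k from rfl,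
        Pg_col hG (inv_mem u.2) i hk, if_neg (fun e : i = k => hk (e ▸ hiS)), zero_mul]
  refine ⟨u.1, u.2, i₁, hi₁S, ?_⟩
  have hz : u.1⁻¹ * γ * u.1 ∈ weylS T S := mul_mem (mul_mem (inv_mem u.2) hγ) u.2
  have hfixa : ∀ t, ev T a' ((u.1⁻¹ * γ * u.1) t) = ev T a' t := by
    intro t
    rw [hev, hev, Equiv.Perm.mul_apply, Equiv.Perm.mul_apply, Equiv.Perm.coe_inv, Equiv.apply_symm_apply,
      ev_weyl' hG (weylS_le T S hγ), ha]
    rfl
  refine weylS_mono T ?_ (mem_weylS_zeros hG hfix hdom hz hfixa)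
  intro k hk
  exact ⟨hk.1, fun e => hi₁ (by rw [← Set.mem_singleton_iff.1 e]; exact hk.2)⟩

theorem charpoly_Pg_conj {γ u : Equiv.Perm (Fin T.tab.n)} (hγ : γ ∈ weyl T) (hu : u ∈ weyl T) :
    (Pg T (u⁻¹ * γ * u)).charpoly = (Pg T γ).charpoly := by
  rw [Pg_mul hG (mul_mem (inv_mem hu) hγ), Pg_mul hG (inv_mem hu), Matrix.charpoly_mul_comm,
    mul_assoc, ← Pg_mul hG hu, mul_inv_cancel, Pg_one hG, mul_one]

theorem det_Pg_refl (i : Fin T.tab.l) : (Pg T (reflPerm T i)).det = 1 - cartT T i i := by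
  rw [show Pg T (reflPerm T i) = 1 - cartT T * Matrix.diagonal (Pi.single i (1 : ℤ)) by
    rw [← one_sub_Pg_refl hG i, sub_sub_cancel]]
  have e : cartT T * Matrix.diagonal (Pi.single i (1 : ℤ)) =
      Matrix.replicateCol Unit (fun j => cartT T j i) * Matrix.replicateRow Unit (Pi.single i (1 : ℤ)) := by
    ext j k
    rw [Matrix.mul_diagonal, Matrix.mul_apply]
    simp only [Finset.univ_unique, Finset.sum_singleton, Matrix.replicateCol_apply, Matrix.replicateRow_apply]
    by_cases hk : k = i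
    · subst hk; rfl
    · simp [hk]
  rw [e, sub_eq_add_neg, ← Matrix.neg_mul,
    show -Matrix.replicateCol Unit (fun j => cartT T j i) =
      Matrix.replicateCol Unit (fun j => -cartT T j i) from rfl,
    Matrix.det_one_add_replicateCol_mul_replicateRow]
  simp [sub_eq_add_neg]

end Cfsg.Agent.ChevTori
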