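import Cfsg.Agent.ChevTori.Parabolic
import Cfsg.Agent.ChevGroup.Steinberg.Center
import Cfsg.Agent.ChevFixed.Field

/-!
The torus of Steinberg's group: functoriality in the field and the action of the monomial elements.
-/

set_option autoImplicit false

namespace Cfsg.Agent.ChevTori

open Cfsg.Lie Cfsg.Agent.ChevGroup Cfsg.Agent.ChevCore Cfsg.Agent.ChevFixed Matrix

universe u v

variable {D : ChevalleyDatum} {K₀ : Type u} [Field K₀] {K : Type v} [Field K]

theorem stMap_rels (f : K₀ →+* K) : ∀ g ∈ D.steinbergRels K₀,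
    FreeGroup.lift (fun p : Fin D.nroots × K₀ => Stb.xb D K p.1.val (f p.2)) g = 1 := by
  have hX : ∀ (r : ℕ) (t : K₀),
      FreeGroup.lift (fun p : Fin D.nroots × K₀ => Stb.xb D K p.1.val (f p.2)) (D.stX r t) =
        Stb.xb D K r (f t) := by
    intro r t
    by_cases hr : r < D.nroots
    · simp [ChevalleyDatum.stX, hr]
    · simp [ChevalleyDatum.stX, hr, Stb.xb_out hr]
  have hW : ∀ w : List (ℕ × K₀),
      FreeGroup.lift (fun p : Fin D.nroots × K₀ => Stb.xb D K p.1.val (f p.2)) (D.stWord w) =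
        Stb.wordB D K (w.map fun p => (p.1, f p.2)) := by
    intro w
    rw [ChevalleyDatum.stWord, map_list_prod, List.map_map, Stb.wordB, List.map_map]
    congr 1
    exact List.map_congr_left fun p _ => hX _ _
  rintro g ((⟨r, a, b, hr, rfl⟩ | ⟨r, s, t, u, hr, hs, h1, h2, rfl⟩) | ⟨r, a, b, hr, ha, hb', rfl⟩)
  · simp only [map_mul, map_inv, hX, mul_inv_eq_one, map_add, Stb.xb_add hr]
  · simp only [map_mul, map_inv, hX, hW, mul_inv_eq_one]
    rw [Stb.xb_comm hr hs h1 h2]
    congr 1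
    simp [ChevalleyDatum.commWord, List.map_map, Function.comp_def]
  · have e : ∀ c : K₀,
        FreeGroup.lift (fun p : Fin D.nroots × K₀ => Stb.xb D K p.1.val (f p.2)) (D.stH r c) =
          Stb.hb D K r (f c) := by
      intro c
      rw [ChevalleyDatum.stH, hW]
      simp [Stb.wordB, ChevalleyDatum.hWord, ChevalleyDatum.nWord, Stb.hb, Stb.nb, mul_assoc]
    simp only [map_mul, map_inv, e, mul_inv_eq_one]
    exact Stb.hb_mul hr (fun h => ha (f.injective (h.trans (map_zero f).symm)))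
      (fun h => hb' (f.injective (h.trans (map_zero f).symm)))

/-- The map of Steinberg's groups along a ring homomorphism. -/
def stMap (f : K₀ →+* K) : D.SteinbergGroup K₀ →* D.SteinbergGroup K :=
  PresentedGroup.toGroup (stMap_rels f)

theorem stMap_xb (f : K₀ →+* K) (r : ℕ) (t : K₀) :
    stMap f (Stb.xb D K₀ r t) = Stb.xb D K r (f t) := by
  by_cases hr : r < D.nroots
  · show PresentedGroup.toGroup (stMap_rels f) (PresentedGroup.mk _ (D.stX r t)) = _
    rw [ChevalleyDatum.stX, dif_pos hr]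
    exact PresentedGroup.toGroup.of (stMap_rels f)
  · rw [Stb.xb_out hr, Stb.xb_out hr, map_one]

theorem stMap_hb (f : K₀ →+* K) (r : ℕ) (t : K₀) :
    stMap f (Stb.hb D K₀ r t) = Stb.hb D K r (f t) := by
  simp [Stb.hb, Stb.nb, stMap_xb]

theorem th_stMap (hC : CommGood D) (f : K₀ →+* K) (g : D.SteinbergGroup K₀) :
    Stb.th hC (stMap f g) = mapGroup f (Stb.th hC g) := by
  have h : (Stb.th (K := K) hC).comp (stMap f) = (mapGroup f).comp (Stb.th (K := K₀) hC) := by
    refine PresentedGroup.ext fun p => ?_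
    obtain ⟨⟨r, hr⟩, t⟩ := p
    have e : (PresentedGroup.of (rels := D.steinbergRels K₀) (⟨r, hr⟩, t)) = Stb.xb D K₀ r t := by
      simp [PresentedGroup.of, Stb.xb, ChevalleyDatum.stGen, ChevalleyDatum.stX, hr]
    rw [e, MonoidHom.comp_apply, MonoidHom.comp_apply, stMap_xb]
    refine Model.mat_inj ?_
    rw [mat_mapGroup]
    show ((Stb.thG hC (Stb.xb D K r (f t)) : GL D.Idx K) : Matrix D.Idx D.Idx K) =
      ((Stb.thG hC (Stb.xb D K₀ r t) : GL D.Idx K₀) : Matrix D.Idx D.Idx K₀).map f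
    rw [Stb.thG_xb, Stb.thG_xb, hC.toGood.val_xg, hC.toGood.val_xg, x_map]
  exact DFunLike.congr_fun h g

theorem pi_hom_ext {n : ℕ} {M N : Type*} [CommMonoid M] [Monoid N] {g h : (Fin n → M) →* N}
    (H : ∀ j c, g (Pi.mulSingle j c) = h (Pi.mulSingle j c)) : g = h := by
  refine MonoidHom.ext fun c => ?_
  rw [← Finset.univ_prod_mulSingle c, ← List.prod_ofFn, map_list_prod, map_list_prod, List.map_ofFn,
    List.map_ofFn]
  congr 2
  funext j
  exact H j (c j)

section torus

variable (T : Model D) (hD : Stb.Cert D)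

/-- The torus of Steinberg's group in the coordinates of a model. -/
noncomputable def psil : (Fin T.tab.l → Kˣ) →* D.SteinbergGroup K :=
  (Stb.psi hD).comp
    (MonoidHom.mk' (fun (c : Fin T.tab.l → Kˣ) (i : Fin D.rank) => c (Fin.cast T.l_eq.symm i))
      fun _ _ => rfl)

theorem psil_single (j : Fin T.tab.l) (c : Kˣ) :
    psil T hD (Pi.mulSingle j c) = Stb.hb D K (D.simple j.val) (c : K) := by
  have e : (fun i : Fin D.rank => (Pi.mulSingle j c : Fin T.tab.l → Kˣ) (Fin.cast T.l_eq.symm i)) =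
      Pi.mulSingle (⟨j.val, T.lt_l j⟩ : Fin D.rank) c := by
    funext i
    by_cases hij : i.val = j.val
    · obtain rfl : i = ⟨j.val, T.lt_l j⟩ := Fin.ext hij
      rw [Pi.mulSingle_eq_same]
      exact Pi.mulSingle_eq_same (M := fun _ : Fin T.tab.l => Kˣ) j c
    · rw [Pi.mulSingle_eq_of_ne (fun e => hij (congrArg Fin.val e) : Fin.cast T.l_eq.symm i ≠ j),
        Pi.mulSingle_eq_of_ne (fun e => hij (congrArg Fin.val e) : i ≠ ⟨j.val, T.lt_l j⟩)]
  show Stb.psi hD (fun i => (Pi.mulSingle j c : Fin T.tab.l → Kˣ) (Fin.cast T.l_eq.symm i)) = _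
  rw [e, Stb.psi_single]

theorem psil_injective (h : Function.Injective (Stb.psi (K := K) hD)) :
    Function.Injective (psil (K := K) T hD) := by
  intro c c' e
  funext j
  have h1 : (fun i : Fin D.rank => c (Fin.cast T.l_eq.symm i)) =
      fun i : Fin D.rank => c' (Fin.cast T.l_eq.symm i) := h e
  exact congrFun h1 (Fin.cast T.l_eq j)

theorem stMap_psil (f : K₀ →+* K) (c : Fin T.tab.l → K₀ˣ) :
    stMap f (psil T hD c) = psil T hD (fun j => Units.map (f : K₀ →* K) (c j)) := by
  let F : (Fin T.tab.l → K₀ˣ) →* (Fin T.tab.l → Kˣ) :=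
    MonoidHom.compLeft (Units.map (f : K₀ →* K)) _
  have h : (stMap f).comp (psil (K := K₀) T hD) = (psil (K := K) T hD).comp F := by
    refine pi_hom_ext fun j c => ?_
    have e : F (Pi.mulSingle j c) = Pi.mulSingle j (Units.map (f : K₀ →* K) c) := by
      funext i
      exact Pi.apply_mulSingle (fun _ => Units.map (f : K₀ →* K)) (fun _ => map_one _) j c i
    rw [MonoidHom.comp_apply, MonoidHom.comp_apply, psil_single, stMap_hb, e, psil_single]
    rfl
  exact DFunLike.congr_fun h c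

/-- The matrix of a word on the torus of Steinberg's group. -/
noncomputable def Qw : List (Fin T.tab.l) → Matrix (Fin T.tab.l) (Fin T.tab.l) ℤ
  | [] => 1
  | i :: w => (1 - Matrix.diagonal (Pi.single i (1 : ℤ)) * cartT T) * Qw w

theorem n_conj_psil (i : Fin T.tab.l) (c : Fin T.tab.l → Kˣ) :
    (Stb.rel T hD).n i * psil T hD c * ((Stb.rel T hD).n i)⁻¹ =
      psil T hD (mpow (1 - Matrix.diagonal (Pi.single i (1 : ℤ)) * cartT T) c) := by
  have hn : (Stb.rel T hD).n i = Stb.nb D K (D.simple i.val) 1 := by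
    simp only [RootRel.n, RootRel.nr, nOf, Stb.nb, Stb.rel, T.neg_eq, T.simple_eq]
  set E := 1 - Matrix.diagonal (Pi.single i (1 : ℤ)) * cartT T
  have h : ((MulAut.conj ((Stb.rel (K := K) T hD).n i)).toMonoidHom).comp (psil T hD) =
      (psil T hD).comp (mpow E) := by
    refine pi_hom_ext fun j c => ?_
    have e : mpow E (Pi.mulSingle j c) =
        Pi.mulSingle i ((c ^ cartT T i j)⁻¹) * Pi.mulSingle j c := by
      funext k
      rw [mpow_apply, Finset.prod_eq_single j]
      · rw [Pi.mulSingle_eq_same, Pi.mul_apply]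
        simp only [E, Matrix.sub_apply, Matrix.diagonal_mul, Matrix.one_apply, _root_.zpow_sub]
        by_cases hki : k = i <;> by_cases hkj : k = j
        · subst hki hkj; simp [mul_comm]
        · subst hki; simp [hkj]
        · subst hkj; simp [hki]
        · simp [hki, hkj]
      · intro m _ hm; rw [Pi.mulSingle_eq_of_ne hm, _root_.one_zpow]
      · simp
    rw [MonoidHom.comp_apply, MonoidHom.comp_apply, e, map_mul, psil_single, psil_single]
    show (Stb.rel T hD).n i * _ * ((Stb.rel T hD).n i)⁻¹ = _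
    rw [hn, Stb.nb_conj_hb_simple hD (T.lt_l i) (T.lt_l j) c.ne_zero]
    congr 1
    rw [Units.val_inv_eq_inv_val, Units.val_zpow_eq_zpow_val]
    show _ = Stb.hb D K _ ((c : K) ^ D.cartan j.val (T.S.simple i).val)⁻¹
    rw [T.simple_eq]
    have hpos := Stb.hb_mul (D := D) (K := K) ((Stb.good hD).simple_lt (T.lt_l i))
      (zpow_ne_zero (D.cartan j.val (D.simple i.val)) c.ne_zero)
      (inv_ne_zero (zpow_ne_zero (D.cartan j.val (D.simple i.val)) c.ne_zero))
    rw [mul_inv_cancel₀ (zpow_ne_zero _ c.ne_zero), Stb.hb_one] at hpos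
    exact inv_eq_of_mul_eq_one_right hpos
  exact DFunLike.congr_fun h c

theorem nw_conj_psil : ∀ (w : List (Fin T.tab.l)) (c : Fin T.tab.l → Kˣ),
    (Stb.rel T hD).nw w * psil T hD c * ((Stb.rel T hD).nw w)⁻¹ = psil T hD (mpow (Qw T w) c)
  | [], c => by simp [Qw, mpow_one]
  | i :: w, c => by
    rw [Qw, mpow_mul, ← n_conj_psil, ← nw_conj_psil w c, RootRel.nw_cons]
    group

theorem cartT_mul_Qw (hG : ChevCore.Good D) : ∀ w : List (Fin T.tab.l),
    cartT T * Qw T w = Pg T (pw T w.reverse) * cartT T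
  | [] => by simp [Qw, pw, Pg_one hG]
  | i :: w => by
    have e : pw T (i :: w).reverse = pw T w.reverse * reflPerm T i := by simp [pw]
    have e2 : Pg T (reflPerm T i) = 1 - cartT T * Matrix.diagonal (Pi.single i (1 : ℤ)) := by
      rw [← one_sub_Pg_refl hG i, sub_sub_cancel]
    rw [Qw, e, Pg_mul hG (show pw T w.reverse ∈ weyl T from prod_mem_weyl T _), e2,
      Matrix.mul_assoc _ (Pg T _) (cartT T), ← cartT_mul_Qw hG w]
    noncomm_ring

theorem charpoly_Qw (hG : ChevCore.Good D) (hdet : (cartT T).det ≠ 0) (w : List (Fin T.tab.l)) :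
    (Qw T w).charpoly = (Pg T (pw T w.reverse)).charpoly := by
  have h := cartT_mul_Qw T hG w
  set P := Pg T (pw T w.reverse)
  set Cm := (cartT T).map (Polynomial.C : ℤ →+* Polynomial ℤ) with hCm
  have h2 : Cm * Matrix.charmatrix (Qw T w) = Matrix.charmatrix P * Cm := by
    simp only [Matrix.charmatrix, hCm, RingHom.mapMatrix_apply, Matrix.mul_sub, Matrix.sub_mul,
      ← Matrix.map_mul, h]
    congr 1
    rw [← Matrix.scalar_commute _ (fun r' => Commute.all _ r')]
  have h3 := congrArg Matrix.det h2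
  rw [Matrix.det_mul, Matrix.det_mul, mul_comm] at h3
  refine mul_right_cancel₀ ?_ h3
  rw [hCm, ← RingHom.mapMatrix_apply, ← RingHom.map_det]
  exact Polynomial.C_ne_zero.2 hdet

variable (hU : UGood D)

/-- The image of the torus of Steinberg's group. -/
theorem th_psil (c : Fin T.tab.l → Kˣ) :
    (Stb.th hU.toCommGood (psil T hD c) : GL D.Idx K) =
      tau D K (fun i => c (Fin.cast T.l_eq.symm i)) :=
  (Stb.thG_psi hD (fun i => c (Fin.cast T.l_eq.symm i)) :)

theorem th_psil_mem (c : Fin T.tab.l → Kˣ) :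
    Stb.th hU.toCommGood (psil T hD c) ∈ (rr (F := K) T hU).H := by
  have h : (Stb.th hU.toCommGood (psil T hD c) : GL D.Idx K) ∈ D.diagonalSubgroup K := by
    rw [th_psil T hD hU, hU.toCommGood.toGood.diagonalSubgroup_eq_range]
    exact ⟨_, rfl⟩
  rw [← T.H_map (relsOfCommGood hU.toCommGood K)] at h
  obtain ⟨t, ht, e⟩ := h
  exact (Subtype.ext e : t = _) ▸ ht

theorem psi_th_psil (c : Fin T.tab.l → Kˣ) :
    psi T hU ⟨_, th_psil_mem T hD hU c⟩ = mpow (cartT T) c := by
  funext j
  refine Units.ext ?_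
  rw [val_psi, chi_tau T (th_psil T hD hU c)]
  congr 1
  rw [mpow_apply]
  simp only [tauW, Sum.elim_inr, cartT, Matrix.of_apply]
  exact Fintype.prod_equiv (finCongr T.l_eq.symm) _ _ fun i => rfl

include T hD in
theorem exists_psil {wit : List (List (Fin T.tab.l) × Fin T.tab.l)} (hwit : T.witB wit = true)
    {s : D.SteinbergGroup K} (hs : Stb.th hU.toCommGood s ∈ (rr (F := K) T hU).H) :
    ∃ c, s = psil T hD c := by
  obtain ⟨c, hc⟩ := exists_tau T hU hs
  let c' : Fin T.tab.l → Kˣ := fun j => c (Fin.cast T.l_eq j)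
  have hc' : Stb.th hU.toCommGood (psil T hD c') = Stb.th hU.toCommGood s :=
    Subtype.ext (by rw [th_psil T hD hU, hc]; rfl)
  have h1 : Stb.th hU.toCommGood (s * (psil T hD c')⁻¹) = 1 := by
    rw [map_mul, map_inv, hc', mul_inv_cancel]
  obtain ⟨e, he⟩ := Stb.Hb_le_range hD (Stb.ker_le_Hb T hD hU.toCommGood hwit h1)
  refine ⟨(fun j => e (Fin.cast T.l_eq j)) * c', ?_⟩
  rw [map_mul, show psil T hD (fun j => e (Fin.cast T.l_eq j)) = Stb.psi hD e from rfl, he,
    inv_mul_cancel_right]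

end torus

end Cfsg.Agent.ChevTori
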