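import Cfsg.Agent.ChevTori.SylowMain
import Cfsg.Agent.ChevTori.StTorus
import Cfsg.Agent.ChevTori.EigenDvd

/-!
Self-centralising cyclic maximal tori of a Chevalley group that is not simply connected: the regular element
is found through the uniqueness of the characteristic polynomial, and the torus of the group is the image of
the torus of Steinberg's group.
-/

set_option autoImplicit false

namespace Cfsg.Agent.ChevTori

open Cfsg.Lie Cfsg.Agent.ChevGroup Cfsg.Agent.ChevCore Cfsg.Agent.ChevFixed Matrix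

universe u

variable {D : ChevalleyDatum} (T : Model D) (hU : UGood D)
  {wit : List (List (Fin T.tab.l) × Fin T.tab.l)} (hwit : T.witB wit = true)
  {w₀ : List (Fin T.tab.l)} (hlong : T.longestB w₀ = true)
  (hspan : Mat.spanB D (T.posList.map Fin.val) = true)

theorem stMap_stMap {K₀ K₁ K₂ : Type*} [Field K₀] [Field K₁] [Field K₂] (f : K₁ →+* K₂) (e : K₀ →+* K₁)
    (g : D.SteinbergGroup K₀) : stMap f (stMap e g) = stMap (f.comp e) g := by
  have h : (stMap f).comp (stMap (D := D) e) = stMap (f.comp e) := by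
    refine PresentedGroup.ext fun p => ?_
    obtain ⟨⟨r, hr⟩, t⟩ := p
    have he : (PresentedGroup.of (rels := D.steinbergRels K₀) (⟨r, hr⟩, t)) = Stb.xb D K₀ r t := by
      simp [PresentedGroup.of, Stb.xb, ChevalleyDatum.stGen, ChevalleyDatum.stX, hr]
    rw [he, MonoidHom.comp_apply, stMap_xb, stMap_xb, stMap_xb]
    rfl
  exact DFunLike.congr_fun h g

theorem mpow_Qw_of_ker {M : Type*} [CommGroup M] {c : Fin T.tab.l → M} (hc : mpow (cartT T) c = 1) :
    ∀ w : List (Fin T.tab.l), mpow (Qw T w) c = c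
  | [] => by rw [Qw, mpow_one]
  | i :: w => by
    rw [Qw, mpow_mul, mpow_Qw_of_ker hc w]
    funext j
    have h1 : mpow (Matrix.diagonal (Pi.single i (1 : ℤ)) * cartT T) c j = 1 := by
      rw [mpow_mul, hc, map_one, Pi.one_apply]
    rw [mpow_apply] at h1 ⊢
    simp only [Matrix.sub_apply, _root_.zpow_sub, Finset.prod_mul_distrib, Finset.prod_inv_distrib, h1,
      inv_one, mul_one]
    rw [← mpow_apply, mpow_one]

include hU in
theorem mapGroup_H {F : Type} [Field F] (σ : F →+* F) {q : ℕ} (hσ : ∀ b, σ b = b ^ q)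
    {t : ↥(D.group F)} (ht : t ∈ (rr T hU).H) : mapGroup σ t = t ^ q := by
  have h1 : (⟨mapGroup σ t, map_H (mapGroup_x T _ σ) ht⟩ : (rr (F := F) T hU).H) = ⟨t, ht⟩ ^ q := by
    refine psi_injective T hU ?_
    rw [map_pow]
    funext j
    refine Units.ext ?_
    rw [Pi.pow_apply, Units.val_pow_eq_pow_val, val_psi, val_psi]
    exact hσ _
  exact congrArg Subtype.val h1

set_option maxHeartbeats 2000000 in
include hU hwit hlong hspan in
/-- An element of order `r` with regular image in the torus, and the Frobenius twist of its conjugator. -/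
theorem exists_regular_twist {F₀ : Type u} [Field F₀] [Fintype F₀] {F : Type} [Field F] [Fintype F]
    {q h r : ℕ} [Fact r.Prime] {f : Polynomial ℤ} (σ : F →+* F) (i : F₀ →+* F)
    (hσ : ∀ b, σ b = b ^ q) (hi : ∀ b, σ b = b ↔ ∃ y, i y = b) (hQ : Fintype.card F = q ^ h)
    (hrq : orderOf (q : ZMod r) = h) (hrW : ¬ r ∣ Nat.card (weyl T))
    (hdiv : r ∣ Nat.card ↥(D.group F₀))
    (hidx : ∃ N, Nat.card ↥(D.group F) = Nat.card ↥(D.diagonalSubgroup F) * N ∧ ¬ r ∣ N)
    (hchar : ∀ γ ∈ weyl T, Polynomial.cyclotomic h ℤ ∣ (Pg T γ).charpoly → (Pg T γ).charpoly = f)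
    (hrefl : ∀ j, cartT T j j = 2) (hf0 : f.eval 0 ≠ 0) :
    ∃ (x : ↥(D.group F₀)) (g : ↥(D.group F)) (v : List (Fin T.tab.l)) (k : ↥(D.group F)),
      orderOf x = r ∧ g * mapGroup i x * g⁻¹ ∈ (rr T hU).H ∧
      (∀ t, t * (g * mapGroup i x * g⁻¹) = g * mapGroup i x * g⁻¹ * t → t ∈ (rr T hU).H) ∧
      k ∈ (rr T hU).H ∧ mapGroup σ g * g⁻¹ = (rr T hU).nw v * k ∧
      (Pg T (pw T v.reverse)).charpoly = f := by
  classical
  have hr : r.Prime := Fact.out
  have hG : ChevCore.Good D := hU.toCommGood.toGood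
  have hC := hU.toCommGood
  set ι := mapGroup (D := D) i
  set τ := mapGroup (D := D) σ
  have hτι : ∀ y, τ (ι y) = ι y := fun y => Model.mat_inj (Matrix.ext fun a b => (hi _).2 ⟨_, rfl⟩)
  set R := rr (F := F) T hU
  have hτx : ∀ a b, τ (R.x a b) = R.x a (σ b) := mapGroup_x T _ σ
  have hτH : ∀ {t}, t ∈ R.H → τ t = t ^ q := fun {t} ht => mapGroup_H T hU σ hσ ht
  -- an element of order `r`, conjugated into the torus
  obtain ⟨x, hx⟩ := exists_prime_orderOf_dvd_card' r hdiv
  obtain ⟨Nidx, hNidx, hrN⟩ := hidx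
  obtain ⟨P₀⟩ := (inferInstance : Nonempty (Sylow r R.H))
  obtain ⟨Q, hQle⟩ := (P₀.2.map R.H.subtype).exists_le_sylow
  have hQH : (Q : Subgroup ↥(D.group F)) ≤ R.H := by
    have hcard : Nat.card (P₀.1.map R.H.subtype) = Nat.card Q := by
      rw [Subgroup.card_map_of_injective Subtype.coe_injective, Sylow.card_eq_multiplicity,
        Sylow.card_eq_multiplicity, hNidx, T.card_H_eq (relsOfCommGood hU.toCommGood F),
        Nat.factorization_mul Nat.card_pos.ne' (show Nidx ≠ 0 by rintro rfl; exact hrN (dvd_zero r)),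
        Finsupp.add_apply, Nat.factorization_eq_zero_of_not_dvd hrN, add_zero]
    rw [← Subgroup.eq_of_le_of_card_ge hQle hcard.ge]
    rintro _ ⟨y, -, rfl⟩
    exact y.2
  have hxr : orderOf (ι x) = r := by
    rw [orderOf_injective ι (mapGroup_injective i), hx]
  have hxp : IsPGroup r (Subgroup.zpowers (ι x)) := by
    refine IsPGroup.of_card (n := 1) ?_
    rw [Nat.card_zpowers, hxr, pow_one]
  obtain ⟨S, hS⟩ := hxp.exists_le_sylow
  obtain ⟨g, hg⟩ := MulAction.exists_smul_eq (↥(D.group F)) S Q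
  set t₀ := g * ι x * g⁻¹ with ht₀
  have ht₀H : t₀ ∈ R.H := by
    refine hQH ?_
    rw [← hg]
    exact ⟨ι x, hS (Subgroup.mem_zpowers _), rfl⟩
  have ht₀r : orderOf t₀ = r := by
    rw [← hxr]
    exact orderOf_injective (MulAut.conj g).toMonoidHom (MulAut.conj g).injective (ι x)
  let t₁ : R.H := ⟨t₀, ht₀H⟩
  have ht₁r : t₁ ^ r = 1 := Subtype.ext (by
    show t₀ ^ r = 1
    rw [← ht₀r]; exact pow_orderOf_eq_one _)
  obtain ⟨j₀, hj₀⟩ : ∃ j, psi T hU t₁ j ≠ 1 := by
    by_contra hcon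
    push Not at hcon
    have h1 : t₁ = 1 := psi_injective T hU (by rw [map_one]; exact funext hcon)
    have h2 : t₀ = 1 := congrArg Subtype.val h1
    rw [h2, orderOf_one] at ht₀r
    exact hr.ne_one ht₀r.symm
  set ζ := psi T hU t₁ j₀
  have hψr : ∀ j, psi T hU t₁ j ^ r = 1 := fun j => by
    rw [← Pi.pow_apply, ← map_pow, ht₁r, map_one]; rfl
  have hζ : orderOf ζ = r := orderOf_eq_prime (hψr j₀) hj₀
  choose b hb using fun j => Subgroup.mem_zpowers_iff.1 (mem_zpowers_of_pow_eq_one hr hζ (hψr j))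
  have hζdvd : ∀ a : ℤ, ζ ^ a = 1 ↔ (r : ℤ) ∣ a := fun a => by
    rw [← hζ]; exact orderOf_dvd_iff_zpow_eq_one.symm
  have hchi : ∀ s, chi T t₀ s = ((ζ ^ ev T b s : Fˣ) : F) := by
    intro s
    rw [show t₀ = t₁.1 from rfl, chi_cf T hU]
    congr 1
    rw [ev, ChevCore.zpow_sum']
    exact Finset.prod_congr rfl fun j _ => by rw [← hb j, ← _root_.zpow_mul, mul_comm]
  have hmpow : ∀ (A : Matrix (Fin T.tab.l) (Fin T.tab.l) ℤ) j,
      mpow A (psi T hU t₁) j = ζ ^ (A *ᵥ b) j := by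
    intro A j
    simp only [mpow_apply, Matrix.mulVec, dotProduct]
    rw [ChevCore.zpow_sum']
    exact Finset.prod_congr rfl fun k _ => by rw [← hb k, ← _root_.zpow_mul, mul_comm]
  -- the Frobenius twist
  set n := τ g * g⁻¹ with hn
  have hnt₀ : n * t₀ * n⁻¹ = t₀ ^ q := by
    rw [← hτH ht₀H, ht₀, map_mul, map_mul, map_inv, hτι, hn]
    group
  obtain ⟨b₁, hb₁, v, -, b₂, hb₂, hnd⟩ := R.exists_bruhat (g := n)
    ((T.group_top (relsOfCommGood hU.toCommGood F) hwit).symm ▸ Subgroup.mem_top n)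
  have key : R.nw v * t₀ * (R.nw v)⁻¹ = t₀ ^ q :=
    conj_key T hU hlong hspan v ht₀H (pow_mem ht₀H q) hb₁ hb₂ (by rw [← hnd, ← hnt₀]; group)
  set γ := pw T v.reverse with hγdef
  have hγ : γ ∈ weyl T := prod_mem_weyl T _
  set A := Pg T γ with hA
  set bZ : Fin T.tab.l → ZMod r := fun j => (b j : ZMod r) with hbZ
  have hmapvec : ∀ (B : Matrix (Fin T.tab.l) (Fin T.tab.l) ℤ) (c : Fin T.tab.l → ℤ),
      B.map (Int.cast : ℤ → ZMod r) *ᵥ (fun j => (c j : ZMod r)) = fun j => ((B *ᵥ c) j : ZMod r) := by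
    intro B c
    funext j
    simp [Matrix.mulVec, dotProduct]
  have heig : A.map (Int.cast : ℤ → ZMod r) *ᵥ bZ = (q : ZMod r) • bZ := by
    rw [hmapvec]
    funext j
    have h1 := psi_conj T hU v t₁
    have h2 : (⟨R.nw v * t₁.1 * (R.nw v)⁻¹, nw_conj_mem_H _ v t₁.2⟩ : R.H) = t₁ ^ q := Subtype.ext key
    rw [h2, map_pow] at h1
    have h3 := congrFun h1 j
    rw [Pi.pow_apply, hmpow, ← hb j, ← zpow_natCast, ← _root_.zpow_mul] at h3
    have heig0 : (r : ℤ) ∣ (A *ᵥ b) j - (q : ℤ) * b j := by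
      rw [← hζdvd, _root_.zpow_sub, ← h3, mul_comm (q : ℤ), mul_inv_cancel]
    have h4 := (ZMod.intCast_zmod_eq_zero_iff_dvd _ r).2 heig0
    rw [Int.cast_sub, sub_eq_zero, Int.cast_mul, Int.cast_natCast] at h4
    rw [Pi.smul_apply, smul_eq_mul]
    exact h4
  have hbj₀ : ¬ (r : ℤ) ∣ b j₀ := fun hd' => hj₀ (by
    show ζ = 1
    have := hb j₀
    rw [(hζdvd _).2 hd'] at this
    exact this.symm)
  have hb0 : bZ ≠ 0 := fun e => hbj₀ ((ZMod.intCast_zmod_eq_zero_iff_dvd _ r).1 (congrFun e j₀))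
  have hcharOf : ∀ δ ∈ weyl T, (Pg T δ).map (Int.cast : ℤ → ZMod r) *ᵥ bZ = (q : ZMod r) • bZ →
      (Pg T δ).charpoly = f := by
    intro δ hδ he
    refine hchar δ hδ (cyclotomic_dvd_charpoly (M := orderOf δ) ?_ ?_ hrq hb0 he)
    · rw [← Pg_pow hG hδ, pow_orderOf_eq_one, Pg_one hG]
    · exact fun hdr => hrW (hdr.trans (by
        rw [← Subgroup.orderOf_mk δ hδ]
        exact orderOf_dvd_natCard _))
  have hcp : A.charpoly = f := hcharOf γ hγ heig
  -- regularity
  have hreg0 : ∀ s, ¬ (r : ℤ) ∣ ev T b s := by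
    intro s hs
    obtain ⟨w, i', hw⟩ := T.witness hwit s
    set u := pw T w
    have hu : u ∈ weyl T := prod_mem_weyl T w
    have hus : u (T.S.simple i') = s := by rw [pw_apply, hw]
    set ρ := u * reflPerm T i' * u⁻¹ with hρ
    have hρm : ρ ∈ weyl T := mul_mem (mul_mem hu (reflPerm_mem T i')) (inv_mem hu)
    have hρb : (Pg T ρ).map (Int.cast : ℤ → ZMod r) *ᵥ bZ = bZ := by
      rw [hmapvec]
      funext j
      show ((ev T b (ρ (T.S.simple j)) : ℤ) : ZMod r) = (b j : ZMod r)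
      rw [← sub_eq_zero, ← Int.cast_sub, ZMod.intCast_zmod_eq_zero_iff_dvd, ← ev_simple hG b j]
      obtain ⟨t, ht⟩ := u.surjective (T.S.simple j)
      rw [← ht, show ρ (u t) = u (T.S.refl i' t) by
        simp only [hρ, Equiv.Perm.mul_apply, Equiv.Perm.coe_inv, Equiv.symm_apply_apply]
        rfl, ev_weyl hG hu b (T.S.refl i' t), ev_weyl hG hu b t, ← Finset.sum_sub_distrib]
      simp only [cf_refl hG, sub_mul, sub_sub_cancel_left, ite_mul, zero_mul, Finset.sum_neg_distrib,
        Finset.sum_ite_eq', Finset.mem_univ, if_true, hus]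
      exact dvd_neg.2 (dvd_mul_of_dvd_right hs _)
    have hγρ : (Pg T (γ * ρ)).map (Int.cast : ℤ → ZMod r) *ᵥ bZ = (q : ZMod r) • bZ := by
      rw [Pg_mul hG hγ, show (Pg T ρ * A).map (Int.cast : ℤ → ZMod r) =
        (Pg T ρ).map (Int.cast : ℤ → ZMod r) * A.map (Int.cast : ℤ → ZMod r) from
          map_mul (Int.castRingHom (ZMod r)).mapMatrix _ _, ← Matrix.mulVec_mulVec, heig,
        Matrix.mulVec_smul, hρb]
    have h1 := hcharOf _ (mul_mem hγ hρm) hγρ
    have hdetρ : (Pg T ρ).det = -1 := by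
      rw [hρ, Pg_mul hG (mul_mem hu (reflPerm_mem T i')), Pg_mul hG hu, Matrix.det_mul, Matrix.det_mul,
        det_Pg_refl hG, hrefl, mul_comm (Pg T u⁻¹).det, mul_assoc, ← Matrix.det_mul,
        ← Pg_mul hG (inv_mem hu), inv_mul_cancel, Pg_one hG, Matrix.det_one]
      norm_num
    have h2 : f.eval 0 = (-A).det := by
      rw [← hcp, Matrix.eval_charpoly, map_zero, zero_sub]
    have h3 : f.eval 0 = (-(Pg T ρ * A)).det := by
      rw [← h1, Matrix.eval_charpoly, map_zero, zero_sub, Pg_mul hG hγ]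
    rw [← Matrix.mul_neg, Matrix.det_mul, hdetρ, ← h2] at h3
    exact hf0 (by omega)
  have hreg : ∀ s, chi T t₀ s ≠ 1 := fun s e => by
    rw [hchi, Units.val_eq_one, hζdvd] at e
    exact hreg0 s e
  have hstab : ∀ w, R.nw w * t₀ * (R.nw w)⁻¹ = t₀ → ∀ s, T.S.actw w s = s := by
    intro w hw s
    have h1 := psi_conj T hU w t₁
    have h2 : (⟨R.nw w * t₁.1 * (R.nw w)⁻¹, nw_conj_mem_H _ w t₁.2⟩ : R.H) = t₁ := Subtype.ext hw
    rw [h2] at h1
    have hst : pw T w.reverse ∈ stab T b r := by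
      refine ⟨prod_mem_weyl T _, fun u => ?_⟩
      rw [ev_weyl' hG (γ := pw T w.reverse) (prod_mem_weyl T _),
        show ev T b u = cf T u ⬝ᵥ b from rfl, ← dotProduct_sub]
      refine Finset.dvd_sum fun j _ => dvd_mul_of_dvd_right ?_ _
      have h3 := congrFun h1 j
      rw [hmpow, ← hb j] at h3
      rw [Pi.sub_apply, ← hζdvd, _root_.zpow_sub, ← h3, mul_inv_cancel]
    have h4 := stab_eq_one hG (fun y hy hpos => fix_of_pos T hU F hy hpos) hrW hreg0 hst
    have h5 : T.S.actw w.reverse s = s := by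
      rw [← pw_apply, h4]; rfl
    have h6 := T.S.actw_reverse w s
    rwa [h5] at h6
  have hcent : ∀ {t}, t * t₀ = t₀ * t → t ∈ R.H := fun {t} e =>
    mem_H_of_commute T hU hlong hspan hwit ht₀H hreg hstab e
  -- the twist lies in the coset of `n_v`
  set k := (R.nw v)⁻¹ * n with hk
  have hkH : k ∈ R.H := hcent (by
    have e2 : (R.nw v)⁻¹ * t₀ ^ q * R.nw v = t₀ := by rw [← key]; group
    calc k * t₀ = (R.nw v)⁻¹ * (n * t₀ * n⁻¹) * n := by rw [hk]; group
      _ = (R.nw v)⁻¹ * t₀ ^ q * R.nw v * k := by rw [hnt₀, hk]; group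
      _ = t₀ * k := by rw [e2])
  have hnk : n = R.nw v * k := by rw [hk, mul_inv_cancel_left]
  exact ⟨x, g, v, k, hx, ht₀H, fun t => hcent, hkH, hnk, hcp⟩

set_option maxHeartbeats 4000000 in
include hU hwit hlong hspan in
/-- A self-centralising cyclic torus of order `N / d`, for a Weyl element with characteristic polynomial
`f` forced by an eigenvalue of order `h`, `N = |f(q)|`. -/
theorem exists_self_centralizing_of_charpoly (hD : Stb.Cert D) {F₀ : Type u} [Field F₀] [Fintype F₀]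
    {q h r N d : ℕ} [Fact r.Prime] {f : Polynomial ℤ} (hq : Fintype.card F₀ = q) (hh : h ≠ 0)
    (hrq : orderOf (q : ZMod r) = h) (hrW : ¬ r ∣ Nat.card (weyl T))
    (hdiv : r ∣ Nat.card ↥(D.group F₀))
    (hidx : ∀ (F : Type) [Field F] [Fintype F], Fintype.card F = q ^ h →
      ∃ N, Nat.card ↥(D.group F) = Nat.card ↥(D.diagonalSubgroup F) * N ∧ ¬ r ∣ N)
    (hchar : ∀ γ ∈ weyl T, Polynomial.cyclotomic h ℤ ∣ (Pg T γ).charpoly → (Pg T γ).charpoly = f)
    (hdetC : (cartT T).det ≠ 0) (hrefl : ∀ i, cartT T i i = 2) (hf0 : f.eval 0 ≠ 0)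
    (hf : f ∣ Polynomial.X ^ h - 1) (hN : (f.eval (q : ℤ)).natAbs = N) (hN0 : N ≠ 0)
    (hNdvd : N ∣ q ^ h - 1) (hsq : ∀ p, p.Prime → p ∣ h → ¬ p ^ 2 ∣ N)
    (hinj : ∀ (F : Type) [Field F], Function.Injective (Stb.psi (K := F) hD))
    (hd : ∀ (F : Type) [Field F] [Fintype F], Fintype.card F = q ^ h →
      Nat.card {c : Fin T.tab.l → Fˣ // mpow (cartT T) c = 1 ∧ ∀ j, c j ^ (q - 1) = 1} = d)
    (hco : ∀ (F : Type) [Field F] [Fintype F], Fintype.card F = q ^ h →
      (N / d).Coprime (Nat.card (Model.torusHom (F := F) D).ker)) :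
    ∃ C : Subgroup ↥(D.group F₀), IsCyclic C ∧ Nat.card C = N / d ∧
      Subgroup.centralizer (C : Set ↥(D.group F₀)) = C := by
  classical
  have hr : r.Prime := Fact.out
  have hG : ChevCore.Good D := hU.toCommGood.toGood
  have hC := hU.toCommGood
  obtain ⟨p, hchar₀⟩ := CharP.exists F₀
  haveI : Fact p.Prime := ⟨(CharP.char_is_prime_or_zero F₀ p).resolve_right fun e => by
    subst e
    haveI := CharP.charP_to_charZero F₀
    exact not_finite F₀⟩
  haveI : NeZero h := ⟨hh⟩
  let F := FiniteField.Extension F₀ p h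
  letI : Fintype F := Fintype.ofFinite F
  have hQ : Fintype.card F = q ^ h := by
    rw [← hq, ← Nat.card_eq_fintype_card, ← Nat.card_eq_fintype_card]
    exact FiniteField.natCard_extension F₀ p h
  let i : F₀ →+* F := algebraMap F₀ F
  let σ : F →+* F := (FiniteField.Extension.frob F₀ p h).toRingEquiv.toRingHom
  have hσ : ∀ b, σ b = b ^ q := fun b => by
    rw [← hq, ← Nat.card_eq_fintype_card]
    exact FiniteField.Extension.frob_apply F₀ p h
  have hi : ∀ b, σ b = b ↔ ∃ y, i y = b := by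
    intro b
    constructor
    · intro hb
      have hfix : ∀ g : Gal(F/F₀), g b = b := by
        intro g
        obtain ⟨m, -, rfl⟩ := FiniteField.Extension.exists_frob_pow_eq F₀ p h g
        induction m with
        | zero => rfl
        | succ m ih =>
          rw [pow_succ', AlgEquiv.mul_apply, ih]
          exact hb
      exact IsGalois.mem_range_algebraMap_iff_fixed b |>.2 hfix
    · rintro ⟨y, rfl⟩
      exact (FiniteField.Extension.frob F₀ p h).commutes y
  set ι := mapGroup (D := D) i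
  set τ := mapGroup (D := D) σ
  have hτι : ∀ y, τ (ι y) = ι y := fun y => Model.mat_inj (Matrix.ext fun a b => (hi _).2 ⟨_, rfl⟩)
  set R := rr (F := F) T hU
  have hτx : ∀ a b, τ (R.x a b) = R.x a (σ b) := mapGroup_x T _ σ
  have hτH : ∀ {t}, t ∈ R.H → τ t = t ^ q := by
    intro t ht
    have h1 : (⟨τ t, map_H hτx ht⟩ : R.H) = ⟨t, ht⟩ ^ q := by
      refine psi_injective T hU ?_
      rw [map_pow]
      funext j
      refine Units.ext ?_
      rw [Pi.pow_apply, Units.val_pow_eq_pow_val, val_psi, val_psi]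
      exact hσ _
    exact congrArg Subtype.val h1
  obtain ⟨x, g, v, k, hx, ht₀H, hcent', hkH, hnk, hcp⟩ := exists_regular_twist T hU hwit hlong hspan σ i hσ
    hi hQ hrq hrW hdiv (hidx F hQ) hchar hrefl hf0
  set n := τ g * g⁻¹ with hn
  set t₀ := g * ι x * g⁻¹ with ht₀
  have hcent : ∀ {t}, t * t₀ = t₀ * t → t ∈ R.H := fun {t} => hcent' t
  have hconjH : ∀ {t}, t ∈ R.H → n * t * n⁻¹ = R.nw v * t * (R.nw v)⁻¹ := by
    intro t ht
    have hc : k * t = t * k := H_commute T hU hkH ht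
    rw [hnk]
    calc R.nw v * k * t * (R.nw v * k)⁻¹ = R.nw v * (k * t) * k⁻¹ * (R.nw v)⁻¹ := by group
      _ = _ := by rw [hc]; group
  -- the torus of Steinberg's group
  set Qv := Qw T v
  have hcpQ : Qv.charpoly = f := (charpoly_Qw T hG hdetC v).trans hcp
  set B := (q : ℤ) • (1 : Matrix (Fin T.tab.l) (Fin T.tab.l) ℤ) - Qv with hB
  have hBker : ∀ c : Fin T.tab.l → Fˣ, c ∈ (mpow B).ker ↔ mpow Qv c = c ^ q := by
    intro c
    have h1 : ∀ j, mpow B c j = c j ^ q * (mpow Qv c j)⁻¹ := by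
      intro j
      simp only [mpow_apply, hB, Matrix.sub_apply, Matrix.smul_apply, Matrix.one_apply, smul_eq_mul,
        mul_ite, mul_one, mul_zero, _root_.zpow_sub, Finset.prod_mul_distrib, Finset.prod_inv_distrib]
      congr 1
      rw [Finset.prod_eq_single j]
      · simp
      · intro k _ hk; simp [Ne.symm hk]
      · simp
    rw [MonoidHom.mem_ker]
    constructor
    · intro e
      funext j
      have := congrFun e j
      rw [h1, Pi.one_apply, mul_inv_eq_one] at this
      exact this.symm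
    · intro e
      funext j
      rw [h1, e, Pi.pow_apply, mul_inv_cancel]
      rfl
  obtain ⟨hcycK, hcardK⟩ := cyclic_ker_of_separable (M := Fˣ) hcpQ hf hN hN0
    (by rw [Nat.card_eq_fintype_card, Fintype.card_units, hQ]; exact hNdvd) hsq
  let Θ : (mpow (M := Fˣ) B).ker →* ↥(D.group F) :=
    ((Stb.th hC).comp (psil T hD)).comp (mpow (M := Fˣ) B).ker.subtype
  haveI : IsCyclic Θ.range := by
    haveI := hcycK
    exact isCyclic_of_surjective Θ.rangeRestrict Θ.rangeRestrict_surjective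
  have hΘker : Nat.card Θ.ker = d := by
    rw [← hd F hQ]
    have hiff : ∀ c : (mpow (M := Fˣ) B).ker, c ∈ Θ.ker ↔ mpow (cartT T) c.1 = 1 := by
      intro c
      rw [MonoidHom.mem_ker, ← psi_th_psil T hD hU c.1, ← map_one (psi (F := F) T hU),
        (psi_injective T hU).eq_iff]
      exact ⟨fun e => Subtype.ext e, fun e => congrArg Subtype.val e⟩
    have hq1 : ∀ a : Fˣ, a ^ q = a ^ (q - 1) * a := fun a => by
      rw [← pow_succ, Nat.sub_add_cancel (hq ▸ Fintype.card_pos)]
    refine Nat.card_congr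
      { toFun := fun c => ⟨c.1.1, (hiff c.1).1 c.2, fun j => ?_⟩
        invFun := fun c => ⟨⟨c.1, ?_⟩, (hiff _).2 c.2.1⟩
        left_inv := fun c => rfl
        right_inv := fun c => rfl }
    · have h1 := congrFun ((hBker c.1.1).1 c.1.2) j
      rw [mpow_Qw_of_ker T ((hiff c.1).1 c.2), Pi.pow_apply, hq1] at h1
      exact (mul_eq_right.1 h1.symm)
    · rw [hBker, mpow_Qw_of_ker T c.2.1]
      funext j
      rw [Pi.pow_apply, hq1, c.2.2 j, one_mul]
  have hrcard : Nat.card Θ.range = N / d := by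
    have h1 := Subgroup.card_mul_index Θ.ker
    rw [Subgroup.index_ker, hΘker, hcardK] at h1
    have hd0 : 0 < d := hΘker ▸ Nat.card_pos
    rw [← h1, Nat.mul_div_cancel_left _ hd0]
  -- the centraliser
  set C := Subgroup.centralizer ({x} : Set ↥(D.group F₀)) with hCdef
  have hmemH : ∀ y : C, g * ι y.1 * g⁻¹ ∈ R.H := fun y => hcent (by
    have h1 : y.1 * x = x * y.1 := Subgroup.mem_centralizer_singleton_iff.1 y.2
    calc g * ι y.1 * g⁻¹ * (g * ι x * g⁻¹) = g * ι (y.1 * x) * g⁻¹ := by rw [map_mul]; group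
      _ = _ := by rw [h1, map_mul, ht₀]; group)
  let φ : C →* ↥(D.group F) := ((MulAut.conj g).toMonoidHom.comp ι).comp C.subtype
  have hφinj : Function.Injective φ :=
    ((MulAut.conj g).injective.comp (mapGroup_injective i)).comp Subtype.coe_injective
  obtain ⟨gh, hgh⟩ := Stb.th_surjective (K := F) hC g
  have hthnw : Stb.th hC ((Stb.rel T hD).nw v) = R.nw v := Stb.th_nw T hD hC v
  have hσu : ∀ c : Fin T.tab.l → Fˣ, (fun j => Units.map (σ : F →* F) (c j)) = c ^ q := fun c =>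
    funext fun j => Units.ext (by rw [Pi.pow_apply, Units.val_pow_eq_pow_val]; exact hσ _)
  have hrange : φ.range = Θ.range := by
    apply le_antisymm
    · rintro _ ⟨y, rfl⟩
      obtain ⟨y₀, hy₀⟩ := Stb.th_surjective (K := F₀) hC y.1
      set s₀ := stMap (D := D) i y₀
      have hs₀ : Stb.th hC s₀ = ι y.1 := by rw [th_stMap, hy₀]
      have hs₀fix : stMap σ s₀ = s₀ := by
        rw [stMap_stMap, show σ.comp i = i from RingHom.ext fun a => (hi _).2 ⟨a, rfl⟩]
      have hths : Stb.th hC (gh * s₀ * gh⁻¹) = φ y := by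
        rw [map_mul, map_mul, map_inv, hgh, hs₀]
        rfl
      obtain ⟨c, hc⟩ := exists_psil T hD hU hwit (s := gh * s₀ * gh⁻¹) (by rw [hths]; exact hmemH y)
      set nh := stMap σ gh * gh⁻¹ with hnh
      have hthn : Stb.th hC nh = n := by rw [map_mul, map_inv, th_stMap, hgh]
      obtain ⟨e, he⟩ := exists_psil T hD hU hwit (s := nh * ((Stb.rel T hD).nw v)⁻¹) (by
        rw [map_mul, map_inv, hthn, hthnw, hnk]
        exact nw_conj_mem_H _ v hkH)
      have h1 : stMap σ (psil T hD c) = psil T hD (mpow Qv c) := by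
        rw [← hc, map_mul, map_mul, map_inv, hs₀fix,
          show stMap σ gh * s₀ * (stMap σ gh)⁻¹ = nh * (gh * s₀ * gh⁻¹) * nh⁻¹ by rw [hnh]; group,
          hc, show nh = psil T hD e * (Stb.rel T hD).nw v by rw [← he, inv_mul_cancel_right],
          show psil T hD e * (Stb.rel T hD).nw v * psil T hD c * (psil T hD e * (Stb.rel T hD).nw v)⁻¹ =
            psil T hD e * ((Stb.rel T hD).nw v * psil T hD c * ((Stb.rel T hD).nw v)⁻¹) *
              (psil T hD e)⁻¹ by group, nw_conj_psil, ← map_mul, ← map_inv, ← map_mul,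
          mul_comm e, mul_inv_cancel_right]
      rw [stMap_psil, hσu] at h1
      refine ⟨⟨c, (hBker c).2 (psil_injective T hD (hinj F) h1).symm⟩, ?_⟩
      show Stb.th hC (psil T hD c) = φ y
      rw [← hc, hths]
    · rintro _ ⟨c, rfl⟩
      set t := Θ c with ht
      have htH : t ∈ R.H := th_psil_mem T hD hU c.1
      have htn : n * t * n⁻¹ = τ t := by
        rw [hconjH htH, ← hthnw, ht]
        show Stb.th hC _ * Stb.th hC (psil T hD c.1) * (Stb.th hC _)⁻¹ =
          mapGroup σ (Stb.th hC (psil T hD c.1))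
        rw [← th_stMap, stMap_psil, hσu, ← (hBker _).1 c.2, ← nw_conj_psil, map_mul, map_mul, map_inv]
      have hord : (orderOf (g⁻¹ * t * g)).Coprime (Nat.card (Model.torusHom (F := F) D).ker) := by
        refine Nat.Coprime.coprime_dvd_left ?_ (hco F hQ)
        rw [← hrcard, show g⁻¹ * t * g = (MulAut.conj g⁻¹) t by simp,
          show orderOf ((MulAut.conj g⁻¹) t) = orderOf t from
            orderOf_injective (MulAut.conj g⁻¹).toMonoidHom (MulAut.conj g⁻¹).injective t]
        exact Subgroup.orderOf_dvd_natCard Θ.range ⟨c, rfl⟩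
      obtain ⟨y, hy⟩ := range_mapGroup_of_fixed_coprime T hU hwit hlong hspan σ i hi hord (by
        show τ _ = _
        rw [map_mul, map_mul, map_inv, ← htn, hn]
        group)
      have hyC : y ∈ C := by
        rw [hCdef, Subgroup.mem_centralizer_singleton_iff]
        refine mapGroup_injective i ?_
        have hc : t * t₀ = t₀ * t := H_commute T hU htH ht₀H
        rw [map_mul, map_mul, hy]
        show g⁻¹ * t * g * ι x = ι x * (g⁻¹ * t * g)
        calc g⁻¹ * t * g * ι x = g⁻¹ * (t * t₀) * g := by rw [ht₀]; group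
          _ = _ := by rw [hc, ht₀]; group
      refine ⟨⟨y, hyC⟩, ?_⟩
      show g * mapGroup i y * g⁻¹ = t
      rw [hy]; group
  let e₁ : C ≃* Θ.range := (MonoidHom.ofInjective hφinj).trans (MulEquiv.subgroupCongr hrange)
  haveI : IsCyclic C := isCyclic_of_surjective e₁.symm e₁.symm.surjective
  refine ⟨C, inferInstance, (Nat.card_congr e₁.toEquiv).trans hrcard, ?_⟩
  apply le_antisymm
  · intro z hz
    rw [hCdef, Subgroup.mem_centralizer_singleton_iff]
    exact (Subgroup.mem_centralizer_iff.1 hz x (Subgroup.mem_centralizer_singleton_iff.2 rfl)).symm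
  · intro z hz
    rw [Subgroup.mem_centralizer_iff]
    intro w hw
    letI : CommGroup C := IsCyclic.commGroup
    exact congrArg Subtype.val (mul_comm (⟨w, hw⟩ : C) ⟨z, hz⟩)

end Cfsg.Agent.ChevTori
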