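import Cfsg.Agent.ChevTori.SylowMain
import Cfsg.Agent.ChevTori.Arith

/-!
The numerical side conditions for homocyclic Sylow subgroups (helper56).
-/

set_option autoImplicit false

namespace Cfsg.Agent.ChevTori

open Cfsg.Lie Cfsg.Agent.ChevGroup Cfsg.Agent.ChevCore Polynomial

universe u

theorem factorization_pow_sub_one {r b k : ℕ} [Fact r.Prime] (hb : 2 ≤ b) (hbr : (b : ZMod r) = 1)
    (hk : ¬ r ∣ k) : (b ^ k - 1).factorization r = (b - 1).factorization r := by
  have h := not_dvd_geom hbr hk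
  rw [← geom_sum_mul_of_one_le (by omega : 1 ≤ b) k,
    Nat.factorization_mul (fun e => h (by rw [e]; exact dvd_zero r)) (by omega), Finsupp.add_apply,
    Nat.factorization_eq_zero_of_not_dvd h, zero_add]

theorem factorization_term {r q d k : ℕ} [Fact r.Prime] (hq : 2 ≤ q)
    (hd : orderOf (q : ZMod r) = d) (hk : ¬ r ∣ k) :
    (q ^ k - 1).factorization r = if d ∣ k then (q ^ d - 1).factorization r else 0 := by
  split_ifs with hdk
  · obtain ⟨c, rfl⟩ := hdk
    rw [pow_mul]
    have hd0 : d ≠ 0 := fun e => hk (by rw [e, zero_mul]; exact dvd_zero r)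
    exact factorization_pow_sub_one (hq.trans (Nat.le_self_pow hd0 q)) (cast_pow_eq_one hd)
      (fun h => hk (h.trans (dvd_mul_left c d)))
  · refine Nat.factorization_eq_zero_of_not_dvd fun h => hdk ?_
    rw [← hd]
    exact orderOf_dvd_of_pow_eq_one ((NumberTheory.dvd_pow_sub_one_iff (by omega)).1 h)

theorem factorization_Phi {r q d : ℕ} [Fact r.Prime] (hq : 2 ≤ q) (hd : orderOf (q : ZMod r) = d)
    (hd0 : 0 < d) :
    padicValNat r ((cyclotomic d ℤ).eval (q : ℤ)).natAbs = (q ^ d - 1).factorization r := by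
  classical
  have hr : r.Prime := Fact.out
  have hprod : (∏ k ∈ d.divisors, ((cyclotomic k ℤ).eval (q : ℤ)).natAbs) = q ^ d - 1 := by
    have h1 := congrArg (Polynomial.eval (q : ℤ)) (prod_cyclotomic_eq_X_pow_sub_one hd0 ℤ)
    rw [eval_prod, eval_sub, eval_pow, eval_X, eval_one] at h1
    have h3 : ((q : ℤ) ^ d - 1).natAbs = q ^ d - 1 := by
      rw [show ((q : ℤ) ^ d - 1) = ((q ^ d - 1 : ℕ) : ℤ) by
        rw [Nat.cast_sub (Nat.one_le_pow _ _ (by omega))]; push_cast; ring, Int.natAbs_natCast]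
    rw [← h3, ← h1]
    exact (map_prod Int.natAbsHom _ _).symm
  rw [← Finset.mul_prod_erase _ _ (Nat.mem_divisors_self d hd0.ne')] at hprod
  have hne : ¬ r ∣ ∏ k ∈ d.divisors.erase d, ((cyclotomic k ℤ).eval (q : ℤ)).natAbs := by
    intro h
    obtain ⟨k, hk, hrk⟩ := (hr.prime.dvd_finsetProd_iff _).1 h
    obtain ⟨hne, hk'⟩ := Finset.mem_erase.1 hk
    obtain ⟨hkd, -⟩ := Nat.mem_divisors.1 hk'
    have h2 : r ∣ q ^ k - 1 := hrk.trans (NumberTheory.Phi_dvd k (by omega : 0 < q))
    have h3 : d ∣ k := hd ▸ orderOf_dvd_of_pow_eq_one ((NumberTheory.dvd_pow_sub_one_iff (by omega)).1 h2)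
    exact hne (Nat.dvd_antisymm hkd h3)
  have hQ : q ^ d - 1 ≠ 0 := by
    have := Nat.one_lt_pow hd0.ne' (by omega : 1 < q)
    omega
  conv_rhs => rw [← hprod]
  rw [← hprod] at hQ
  rw [Nat.factorization_mul (left_ne_zero_of_mul hQ) (right_ne_zero_of_mul hQ), Finsupp.add_apply,
    Nat.factorization_eq_zero_of_not_dvd hne, add_zero, Nat.factorization_def _ hr]

theorem factorization_prod_list {r : ℕ} (L : List ℕ) (f : ℕ → ℕ) (h : ∀ k ∈ L, f k ≠ 0) :
    (L.map f).prod.factorization r = (L.map fun k => (f k).factorization r).sum := by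
  induction L with
  | nil => simp
  | cons k L ih =>
    simp only [List.map_cons, List.prod_cons, List.sum_cons]
    rw [Nat.factorization_mul (h k (List.mem_cons_self ..)) (List.prod_ne_zero (fun h0 => by
        obtain ⟨j, hj, hj0⟩ := List.mem_map.1 h0
        exact h j (List.mem_cons_of_mem _ hj) hj0)),
      Finsupp.add_apply, ih fun j hj => h j (List.mem_cons_of_mem _ hj)]

theorem sum_ite_filter (L : List ℕ) (p : ℕ → Bool) (e : ℕ) :
    (L.map fun k => if p k then e else 0).sum = (L.filter p).length * e := by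
  induction L with
  | nil => simp
  | cons k L ih =>
    rw [List.map_cons, List.sum_cons, ih]
    cases hk : p k <;> simp [hk] <;> ring

/-- The `r`-part of the order of the torus. -/
theorem factorization_card_torus {D : ChevalleyDatum} (hG : Good D) {r d₀ : ℕ}
    (hd : ¬ r ∣ d₀) [Fact r.Prime] (B : Matrix (Fin D.rank) (Fin D.rank) ℤ)
    (hB : B * cartanT D = (d₀ : ℤ) • 1) (F : Type u) [Field F] [Fintype F] :
    (Nat.card ↥(D.diagonalSubgroup F)).factorization r =
      D.rank * (Fintype.card F - 1).factorization r := by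
  classical
  have h1 := Subgroup.card_mul_index (ChevCore.tau D F).ker
  rw [Subgroup.index_ker, ← hG.diagonalSubgroup_eq_range, Nat.card_pi, Finset.prod_const,
    Finset.card_univ, Fintype.card_fin, Nat.card_eq_fintype_card (α := Fˣ), Fintype.card_units] at h1
  have hker : ¬ r ∣ Nat.card (ChevCore.tau D F).ker := by
    intro h
    obtain ⟨x, hx⟩ := exists_prime_orderOf_dvd_card' r h
    refine hd (hx ▸ orderOf_dvd_of_pow_eq_one ?_)
    refine Subtype.ext ?_
    have h2 : ChevCore.mpow (cartanT D) x.1 = 1 := by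
      exact MonoidHom.mem_ker.1 (hG.ker_tau (F := F) ▸ x.2 : x.1 ∈ (ChevCore.mpow (cartanT D)).ker)
    have h3 := ChevCore.mpow_mul B (cartanT D) x.1
    rw [h2, map_one, hB] at h3
    funext j
    have h4 := congrFun h3 j
    rw [ChevCore.mpow_apply, Finset.prod_eq_single j (fun k _ hk => by
      simp [Matrix.one_apply_ne (Ne.symm hk)]) (by simp)] at h4
    simpa using h4
  have h3 := congrArg (fun n : ℕ => n.factorization r) h1
  rw [Nat.factorization_mul Nat.card_pos.ne' Nat.card_pos.ne', Finsupp.add_apply,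
    Nat.factorization_eq_zero_of_not_dvd hker, zero_add, Nat.factorization_pow, Finsupp.smul_apply,
    smul_eq_mul] at h3
  exact h3

/-- The combined statement for a type with the given order formula. -/
theorem sylow_of_order {D : ChevalleyDatum} (T : Model D) (hU : UGood D)
    {wit : List (List (Fin T.tab.l) × Fin T.tab.l)} (hwit : T.witB wit = true)
    {w₀ : List (Fin T.tab.l)} (hlong : T.longestB w₀ = true)
    (hspan : Mat.spanB D (T.posList.map Fin.val) = true) {Mx : CoxeterMatrix (Fin T.tab.l)}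
    (hb : braidB T Mx = true) (ds : List ℕ) (hlen : ds.length = D.rank)
    (hMx : Nat.card Mx.Group = ds.prod) (A d₀ : ℕ) (hd₀ : d₀ ∣ ds.prod)
    (B : Matrix (Fin D.rank) (Fin D.rank) ℤ) (hB : B * cartanT D = (d₀ : ℤ) • 1)
    (g : ℕ → ℕ) (hg : ∀ q, 2 ≤ q → g q ≠ 0 ∧ ∀ r : ℕ, r.Prime → r ∣ g q → r ∣ ds.prod)
    (hcard : ∀ (F : Type u) [Field F] [Fintype F] (q : ℕ), Fintype.card F = q →
      g q * Nat.card ↥(D.group F) = q ^ A * (ds.map fun k => q ^ k - 1).prod)
    (hcard' : ∀ (F : Type) [Field F] [Fintype F] (q : ℕ), Fintype.card F = q →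
      g q * Nat.card ↥(D.group F) = q ^ A * (ds.map fun k => q ^ k - 1).prod)
    (h2 : 2 ∣ ds.prod)
    {F₀ : Type u} [Field F₀] [Fintype F₀] {q : ℕ} (hq : Fintype.card F₀ = q)
    (r : ℕ) [Fact r.Prime] (hrq : ¬ r ∣ q) (hrW : ¬ r ∣ ds.prod)
    (hrG : r ∣ Nat.card ↥(D.group F₀)) (P : Sylow r ↥(D.group F₀)) :
    Nonempty (↥(P : Subgroup ↥(D.group F₀)) ≃*
      (Fin (ds.filter (fun e => orderOf (q : ZMod r) ∣ e)).length →
        Multiplicative (ZMod (r ^ padicValNat r
          ((cyclotomic (orderOf (q : ZMod r)) ℤ).eval (q : ℤ)).natAbs)))) := by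
  have hr : r.Prime := Fact.out
  have hq2 : 2 ≤ q := hq ▸ Fintype.one_lt_card
  have hr2 : r ≠ 2 := fun e => hrW (e ▸ h2)
  have hds : ∀ k ∈ ds, ¬ r ∣ k := fun k hk h => hrW (h.trans (List.dvd_prod hk))
  have hds0 : ∀ k ∈ ds, k ≠ 0 := fun k hk e => hds k hk (e ▸ dvd_zero r)
  have hd0 : 0 < orderOf (q : ZMod r) := Nat.pos_of_dvd_of_pos
    (orderOf_dvd_of_pow_eq_one (ZMod.pow_card_sub_one_eq_one fun h0 =>
      hrq ((ZMod.natCast_eq_zero_iff q r).1 h0)))
    (by have := hr.two_le; omega)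
  set d := orderOf (q : ZMod r) with hd
  rw [factorization_Phi hq2 hd.symm hd0]
  have hgq : ∀ Q, 2 ≤ Q → (g Q).factorization r = 0 := fun Q hQ =>
    Nat.factorization_eq_zero_of_not_dvd fun h => hrW ((hg Q hQ).2 r hr h)
  have hval : ∀ Q, 2 ≤ Q → ¬ r ∣ Q → ∀ N, g Q * N = Q ^ A * (ds.map fun k => Q ^ k - 1).prod →
      N.factorization r = (ds.map fun k => (Q ^ k - 1).factorization r).sum := by
    intro Q hQ hrQ N hN
    have hterm : ∀ k ∈ ds, Q ^ k - 1 ≠ 0 := fun k hk => by
      have := Nat.one_lt_pow (hds0 k hk) (show 1 < Q by omega)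
      omega
    have hprod : (ds.map fun k => Q ^ k - 1).prod ≠ 0 := List.prod_ne_zero fun h0 => by
      obtain ⟨j, hj, hj0⟩ := List.mem_map.1 h0
      exact hterm j hj hj0
    have hQA : Q ^ A ≠ 0 := pow_ne_zero _ (by omega)
    have hN0 : N ≠ 0 := fun e => by
      rw [e, mul_zero] at hN
      exact mul_ne_zero hQA hprod hN.symm
    have h := congrArg (fun n : ℕ => n.factorization r) hN
    rw [Nat.factorization_mul (hg Q hQ).1 hN0, Nat.factorization_mul hQA hprod, Finsupp.add_apply,
      Finsupp.add_apply, hgq Q hQ, zero_add,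
      Nat.factorization_eq_zero_of_not_dvd (fun h => hrQ (hr.dvd_of_dvd_pow h)), zero_add,
      factorization_prod_list ds _ hterm] at h
    exact h
  have hG₀ := hval q hq2 hrq _ (hcard F₀ q hq)
  rw [List.map_congr_left (fun k hk => show (q ^ k - 1).factorization r =
      if decide (d ∣ k) = true then (q ^ d - 1).factorization r else 0 by
        simp only [decide_eq_true_eq]
        exact factorization_term hq2 hd.symm (hds k hk)), sum_ite_filter] at hG₀
  have hQ2 : 2 ≤ q ^ d := hq2.trans (Nat.le_self_pow hd0.ne' q)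
  refine sylow_homocyclic T hU hwit hlong hspan hq hd.symm hd0 ?_ hr2 rfl ?_ hG₀ ?_ P
  · exact fun h => hrW (hMx ▸ h.trans (weyl_card_dvd T hb))
  · refine hr.factorization_pos_of_dvd (by omega) ?_
    rw [← ZMod.natCast_eq_zero_iff, Nat.cast_sub (by omega), cast_pow_eq_one hd.symm]
    simp
  · intro F _ _ hF
    have hH : (Nat.card ↥(D.diagonalSubgroup F)).factorization r =
        D.rank * (q ^ d - 1).factorization r := by
      rw [factorization_card_torus hU.toCommGood.toGood (fun h => hrW (h.trans hd₀)) B hB F, hF]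
    refine ⟨?_, T.l_eq.symm ▸ hH⟩
    rw [hH, hval (q ^ d) hQ2 (fun h => hrq (hr.dvd_of_dvd_pow h)) _ (hcard' F _ hF),
      List.map_congr_left (fun k hk => factorization_pow_sub_one hQ2 (cast_pow_eq_one hd.symm) (hds k hk)),
      List.map_const', List.sum_replicate, smul_eq_mul, hlen]

end Cfsg.Agent.ChevTori
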