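import Cfsg.Agent.ChevTori.Centralizer
import Cfsg.Agent.ChevTori.Main
import Cfsg.Agent.ChevTori.Homocyclic

/-!
Sylow subgroups of Chevalley groups for primes prime to the characteristic and the Weyl group
(helper56).
-/

set_option autoImplicit false

namespace Cfsg.Agent.ChevTori

open Cfsg.Lie Cfsg.Agent.ChevGroup Cfsg.Agent.ChevCore Cfsg.Agent.ChevFixed Matrix

universe u v

/-- Roots of elements of order `r` in the `r`-part of a cyclic group. -/
theorem exists_root_cyclic {M : Type*} [CommGroup M] [IsCyclic M] [Finite M] {r e : ℕ} (hr : r.Prime)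
    (he : 1 ≤ e) (hdvd : r ^ e ∣ Nat.card M) {y : M} (hy : y ^ r = 1) :
    ∃ x : M, x ^ r ^ e = 1 ∧ x ^ r ^ (e - 1) = y := by
  obtain ⟨g, hg⟩ := IsCyclic.exists_generator (α := M)
  have hgN : orderOf g = Nat.card M := orderOf_eq_card_of_forall_mem_zpowers hg
  obtain ⟨c, hc⟩ := hdvd
  set ξ := g ^ c with hξdef
  have hξ : ξ ^ r ^ e = 1 := by rw [hξdef, ← pow_mul, mul_comm, ← hc, ← hgN, pow_orderOf_eq_one]
  set ζ := ξ ^ r ^ (e - 1) with hζ
  have hζr : orderOf ζ = r := by
    haveI := Fact.mk hr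
    refine orderOf_eq_prime ?_ ?_
    · rw [hζ, ← pow_mul, ← pow_succ, Nat.sub_add_cancel he, hξ]
    · intro h1
      rw [hζ, hξdef, ← pow_mul, ← orderOf_dvd_iff_pow_eq_one, hgN, hc, mul_comm (r ^ e)] at h1
      have hc0 : 0 < c := Nat.pos_of_ne_zero fun h0 => by
        rw [h0, mul_zero] at hc
        exact Nat.card_pos.ne' hc
      have := (Nat.mul_dvd_mul_iff_left hc0).1 h1
      rw [Nat.pow_dvd_pow_iff_le_right hr.one_lt] at this
      omega
  obtain ⟨k, hk⟩ := Subgroup.mem_zpowers_iff.1 (mem_zpowers_of_pow_eq_one hr hζr hy)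
  refine ⟨ξ ^ k, ?_, ?_⟩
  · rw [← zpow_natCast, ← _root_.zpow_mul, mul_comm, _root_.zpow_mul, zpow_natCast, hξ, _root_.one_zpow]
  · rw [← zpow_natCast, ← _root_.zpow_mul, mul_comm, _root_.zpow_mul, zpow_natCast, ← hk]

variable {D : ChevalleyDatum} (T : Model D) (hU : UGood D)

section act

variable {M : Type*} [CommGroup M]

/-- The value of a character of the root lattice at a root. -/
noncomputable def chiu (c : Fin T.tab.l → M) (s : Fin T.tab.n) : M := ∏ j, c j ^ cf T s j

include hU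

theorem chiu_simple (c : Fin T.tab.l → M) (i : Fin T.tab.l) : chiu T c (T.S.simple i) = c i := by
  rw [chiu, Finset.prod_eq_single i]
  · simp [cf_simple hU.toCommGood.toGood]
  · intro j _ hj; simp [cf_simple hU.toCommGood.toGood, hj]
  · simp

theorem chiu_weyl {γ : Equiv.Perm (Fin T.tab.n)} (hγ : γ ∈ weyl T) (c : Fin T.tab.l → M)
    (s : Fin T.tab.n) : chiu T c (γ s) = chiu T (mpow (Pg T γ) c) s := by
  simp only [chiu, cf_weyl hU.toCommGood.toGood hγ s, mpow_apply, ChevCore.zpow_sum',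
    ChevCore.prod_zpow', ← _root_.zpow_mul]
  rw [Finset.prod_comm]
  refine Finset.prod_congr rfl fun j _ => Finset.prod_congr rfl fun k _ => ?_
  rw [mul_comm]; rfl

theorem chiu_neg (c : Fin T.tab.l → M) (s : Fin T.tab.n) :
    chiu T c (T.S.neg s) = (chiu T c s)⁻¹ := by
  simp only [chiu, cf_neg hU.toCommGood.toGood, _root_.zpow_neg, Finset.prod_inv_distrib]

/-- The action of the Weyl group on the characters. -/
noncomputable def act : ↥(weyl T) →* Monoid.End (Fin T.tab.l → M) where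
  toFun γ := mpow (Pg T γ.1⁻¹)
  map_one' := MonoidHom.ext fun c => by
    show mpow (Pg T (1 : Equiv.Perm (Fin T.tab.n))⁻¹) c = c
    rw [inv_one, Pg_one hU.toCommGood.toGood, mpow_one]
  map_mul' γ δ := MonoidHom.ext fun c => by
    show mpow (Pg T (γ.1 * δ.1)⁻¹) c = mpow (Pg T γ.1⁻¹) (mpow (Pg T δ.1⁻¹) c)
    rw [_root_.mul_inv_rev, Pg_mul hU.toCommGood.toGood (inv_mem δ.2), mpow_mul]

end act

variable {F : Type v} [Field F]

include hU in
theorem chi_eq_chiu (t : ↥(rr (F := F) T hU).H) (s : Fin T.tab.n) :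
    chi T t.1 s = (chiu T (psi T hU t) s : Fˣ) := chi_cf T hU t s

variable {wit : List (List (Fin T.tab.l) × Fin T.tab.l)} (hwit : T.witB wit = true)
  {w₀ : List (Fin T.tab.l)} (hlong : T.longestB w₀ = true)
  (hspan : Mat.spanB D (T.posList.map Fin.val) = true)

include hU in
/-- A diagonal element with fixed parameters is generated by root elements with fixed parameters. -/
theorem torusHom_mem_fixGen (σ : F →+* F) {c : Fin D.rank → Fˣ} (hc : ∀ i, σ (c i : F) = c i) :
    Model.torusHom D c ∈ (fixGen (rr T hU) σ).map (D.group F).subtype := by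
  have hA : TorusFacts D := torusFacts_of_good hU.toCommGood.toGood
  set K := relsOfCommGood hU.toCommGood F
  suffices hs : c ∈ ((fixGen (rr T hU) σ).map (D.group F).subtype).comap (Model.torusHom D) from hs
  rw [← Finset.univ_prod_mulSingle c]
  refine Subgroup.prod_mem _ fun i _ => Subgroup.mem_comap.2 ?_
  let i' : Fin T.tab.l := ⟨i.val, T.l_eq.symm ▸ i.isLt⟩
  refine ⟨hOf T.S.neg (T.xG K) (T.S.simple i') (c i : F), ?_, Units.ext ?_⟩
  · have hmem : ∀ a b, σ b = b → T.xG K a b ∈ fixGen (rr T hU) σ := fun a b hb =>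
      Subgroup.subset_closure ⟨a, b, hb, rfl⟩
    simp only [hOf, nOf]
    refine mul_mem (mul_mem (mul_mem (hmem _ _ (hc i)) (hmem _ _ ?_)) (hmem _ _ (hc i)))
      (mul_mem (mul_mem (hmem _ _ ?_) (hmem _ _ ?_)) (hmem _ _ ?_)) <;> simp [hc i]
  · show Model.mat (hOf T.S.neg (T.xG K) (T.S.simple i') (c i : F)) = _
    rw [T.mat_hOf, T.simple_eq, show i'.val = i.val from rfl,
      K.h_diag _ (by rw [← show (T.S.simple i').val = D.simple i.val from T.simple_eq i']; exact T.lt _) _
        (Units.ne_zero _)]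
    simp only [Model.torusHom, MonoidHom.coe_mk, OneHom.coe_mk]
    congr 1; funext a
    rcases a with j | s
    · rfl
    · simp only [Sum.elim_inr, Model.chi]
      rw [Finset.prod_eq_single i (fun j _ hj => by rw [Pi.mulSingle_eq_of_ne hj]; simp) (by simp),
        Pi.mulSingle_eq_same, Units.val_zpow_eq_zpow_val]
      congr 1
      exact hA.pairing_simple _ _ i.isLt

include hU hwit hlong hspan in
/-- A fixed point of order prime to the kernel of the torus comes from the smaller field. -/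
theorem range_mapGroup_of_fixed_coprime {F₀ : Type u} [Field F₀] [Fintype F] (σ : F →+* F)
    (i : F₀ →+* F) (hi : ∀ b, σ b = b ↔ ∃ y, i y = b) {g : ↥(D.group F)}
    (hco : (orderOf g).Coprime (Nat.card (Model.torusHom (F := F) D).ker))
    (hg : mapGroup σ g = g) : ∃ y, mapGroup i y = g := by
  classical
  have hA : TorusFacts D := torusFacts_of_good hU.toCommGood.toGood
  set K := relsOfCommGood hU.toCommGood F
  set R := rr (F := F) T hU
  have hτ : ∀ a b, mapGroup σ (R.x a b) = R.x a (σ b) := mapGroup_x T K σ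
  set δ := Nat.card (Model.torusHom (F := F) D).ker with hδ
  have hHfix : ∀ h ∈ R.H, mapGroup σ h = h → h ^ δ ∈ fixGen R σ := by
    intro h hh hf
    have hd : (h : GL D.Idx F) ∈ (Model.torusHom (F := F) D).range := by
      rw [← T.diagonalSubgroup_eq hA K, ← T.H_map K]
      exact ⟨h, hh, rfl⟩
    obtain ⟨c, hc⟩ := hd
    have h1 : (fun i => Units.map (σ : F →* F) (c i)) * c⁻¹ ∈ (Model.torusHom (F := F) D).ker := by
      rw [MonoidHom.mem_ker, map_mul, map_inv, ← torusHom_map, hc, mul_inv_eq_one]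
      exact congrArg Subtype.val hf
    have h2 : ((fun i => Units.map (σ : F →* F) (c i)) * c⁻¹) ^ δ = 1 :=
      congrArg Subtype.val (pow_card_eq_one' (x := (⟨_, h1⟩ : (Model.torusHom (F := F) D).ker)))
    obtain ⟨g', hg', he⟩ := torusHom_mem_fixGen T hU σ (c := c ^ δ) fun i => by
      have h3 := congrFun h2 i
      rw [Pi.pow_apply, Pi.mul_apply, Pi.inv_apply, mul_pow, inv_pow, Pi.one_apply, mul_inv_eq_one,
        ← map_pow] at h3
      exact congrArg Units.val h3
    rw [map_pow, hc] at he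
    obtain rfl : g' = h ^ δ := Subtype.ext (he.trans (Subgroup.coe_pow _ _ _).symm)
    exact hg'
  have hred : T.S.Red w₀ := red_of_suffix T.S w₀ fun v i u he => by
    have h := hlong
    simp only [Model.longestB, Bool.and_eq_true, List.all_eq_true, List.mem_range] at h
    have := h.1 v.length (by rw [he]; simp)
    rw [he, List.drop_left] at this
    simpa using this
  have hT : ∀ r t, T.S.pos r → (T.shapeR K).Pres T.S.pos (R.x r t) := fun r t hr =>
    T.pres_posList K hspan r t hr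
  -- write `g` as a fixed generated element times a fixed diagonal element
  obtain ⟨b, hb, v, hv, b', hb', hgb⟩ := R.exists_bruhat (g := g)
    ((T.group_top K hwit).symm ▸ Subgroup.mem_top g)
  obtain ⟨u₀, hu₀, he⟩ := exists_fixed_rep (T.shapeR K) hτ hT v hv g
    (mem_cell.2 ⟨b, hb, QuotientGroup.eq.2 (by
      show (b * R.nw v)⁻¹ * g ∈ R.B
      rw [hgb, inv_mul_cancel_left]
      exact hb')⟩) (by rw [hg])
  set g₀ := u₀ * R.nw v with hg₀
  have hg₀m : g₀ ∈ fixGen R σ := mul_mem (fixU_le_fixGen σ v hu₀) (nw_mem_fixGen σ v)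
  obtain ⟨u, hu, h, hh, huh⟩ := R.mem_B_iff.1 (QuotientGroup.eq.1 he.symm)
  have hfb : mapGroup σ (g₀⁻¹ * g) = g₀⁻¹ * g := by
    rw [map_mul, map_inv, map_fixGen hτ hg₀m, hg]
  rw [← huh, map_mul] at hfb
  have e1 : u⁻¹ * mapGroup σ u = h * (mapGroup σ h)⁻¹ := by
    rw [eq_mul_inv_iff_mul_eq, mul_assoc, hfb, inv_mul_cancel_left]
  have e2 := (T.shapeR K).U_inter_H (mul_mem (inv_mem hu) (map_U hτ hu))
    (e1 ▸ mul_mem hh (inv_mem (map_H hτ hh)))
  have e3 := (inv_mul_eq_one.1 e2).symm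
  rw [e3] at hfb
  have e4 : mapGroup σ h = h := mul_left_cancel hfb
  have hga : g = g₀ * u * h := by
    rw [mul_assoc, huh, mul_inv_cancel_left]
  have ha : g₀ * u ∈ fixGen R σ :=
    mul_mem hg₀m (U_fixed (T.shapeR K) hτ hT hred (fun a ha => T.longest_neg hlong a ha) hu e3)
  -- the diagonal fixed points normalise
  have hnorm : ∀ k ∈ R.H, mapGroup σ k = k → ∀ a ∈ fixGen R σ, k * a * k⁻¹ ∈ fixGen R σ := by
    intro k hk hkf a ha
    induction ha using Subgroup.closure_induction with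
    | mem y hy =>
      obtain ⟨r, t, ht, rfl⟩ := hy
      refine Subgroup.subset_closure ⟨r, chi T k r * t, ?_, conj_x T hU hk r t⟩
      rw [map_mul, ht]
      congr 1
      exact congrFun (congrFun (congrArg Model.mat hkf) (T.coord r)) (T.coord r)
    | one => simp
    | mul a b _ _ ha hb => simpa [mul_assoc] using mul_mem ha hb
    | inv a _ ha => simpa [mul_assoc] using inv_mem ha
  have hfk : ∀ m : ℕ, mapGroup σ (h ^ m) = h ^ m := fun m => by rw [map_pow, e4]
  have hstep : ∀ m : ℕ, ∃ a ∈ fixGen R σ, g ^ m = a * h ^ m := by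
    intro m
    induction m with
    | zero => exact ⟨1, one_mem _, by simp⟩
    | succ m ih =>
      obtain ⟨a, ha', hae⟩ := ih
      refine ⟨a * (h ^ m * (g₀ * u) * (h ^ m)⁻¹),
        mul_mem ha' (hnorm _ (pow_mem hh m) (hfk m) _ ha), ?_⟩
      rw [pow_succ, hae, hga, pow_succ]
      group
  obtain ⟨a, ha', hae⟩ := hstep δ
  have hgδ : g ^ δ ∈ fixGen R σ := hae ▸ mul_mem ha' (hHfix h hh e4)
  obtain ⟨m, hm⟩ := exists_pow_eq_self_of_coprime hco.symm
  have hmem : g ∈ fixGen R σ := hm ▸ pow_mem hgδ m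
  have hle : fixGen R σ ≤ (mapGroup (D := D) i).range := by
    refine (Subgroup.closure_le _).2 ?_
    rintro _ ⟨a, b, hb, rfl⟩
    obtain ⟨y, rfl⟩ := (hi b).1 hb
    refine ⟨⟨⟨D.x _ a.val y, D.x _ a.val (-y), ?_, ?_⟩, Subgroup.subset_closure
      ⟨⟨a.val, T.lt a⟩, y, by simp [ChevalleyDatum.x, T.lt a]⟩⟩, Model.mat_inj (x_map i a.val y)⟩
    all_goals
      apply Matrix.map_injective i.injective
      dsimp only
      rw [Matrix.map_mul, x_map, x_map, map_neg, ← K.x_add _ (T.lt a),
        Matrix.map_one _ (map_zero i) (map_one i)]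
      simp [K.x_zero _ (T.lt a)]
  exact hle hmem

include hU hwit hlong hspan in
/-- A Sylow `r`-subgroup of a Chevalley group over a field with `q` elements, `r` prime to `q` and to
the order of the Weyl group, is homocyclic. -/
theorem sylow_homocyclic {F₀ : Type u} [Field F₀] [Fintype F₀] {q d r e a : ℕ} [Fact r.Prime]
    (hq : Fintype.card F₀ = q) (hd : orderOf (q : ZMod r) = d) (hd0 : 0 < d)
    (hrW : ¬ r ∣ Nat.card (weyl T)) (hr2 : r ≠ 2) (he : (q ^ d - 1).factorization r = e) (he1 : 1 ≤ e)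
    (hG₀ : (Nat.card ↥(D.group F₀)).factorization r = a * e)
    (hG : ∀ (F : Type) [Field F] [Fintype F], Fintype.card F = q ^ d →
      (Nat.card ↥(D.group F)).factorization r = (Nat.card ↥(D.diagonalSubgroup F)).factorization r ∧
      (Nat.card ↥(D.diagonalSubgroup F)).factorization r = T.tab.l * e)
    (P : Sylow r ↥(D.group F₀)) :
    Nonempty (↥(P : Subgroup ↥(D.group F₀)) ≃* (Fin a → Multiplicative (ZMod (r ^ e)))) := by
  classical
  have hr : r.Prime := Fact.out
  obtain ⟨p, hchar⟩ := CharP.exists F₀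
  haveI : Fact p.Prime := ⟨(CharP.char_is_prime_or_zero F₀ p).resolve_right fun e => by
    subst e
    haveI := CharP.charP_to_charZero F₀
    exact not_finite F₀⟩
  haveI : NeZero d := ⟨hd0.ne'⟩
  let F := FiniteField.Extension F₀ p d
  letI : Fintype F := Fintype.ofFinite F
  have hQ : Fintype.card F = q ^ d := by
    rw [← hq, ← Nat.card_eq_fintype_card, ← Nat.card_eq_fintype_card]
    exact FiniteField.natCard_extension F₀ p d
  let i : F₀ →+* F := algebraMap F₀ F
  let σ : F →+* F := (FiniteField.Extension.frob F₀ p d).toRingEquiv.toRingHom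
  have hσ : ∀ b, σ b = b ^ q := fun b => by
    rw [← hq, ← Nat.card_eq_fintype_card]
    exact FiniteField.Extension.frob_apply F₀ p d
  have hi : ∀ b, σ b = b ↔ ∃ y, i y = b := by
    intro b
    constructor
    · intro hb
      have hfix : ∀ g : Gal(F/F₀), g b = b := by
        intro g
        obtain ⟨m, -, rfl⟩ := FiniteField.Extension.exists_frob_pow_eq F₀ p d g
        induction m with
        | zero => rfl
        | succ m ih =>
          rw [pow_succ', AlgEquiv.mul_apply, ih]
          exact hb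
      exact IsGalois.mem_range_algebraMap_iff_fixed b |>.2 hfix
    · rintro ⟨y, rfl⟩
      exact (FiniteField.Extension.frob F₀ p d).commutes y
  set ι := mapGroup (D := D) i
  set τ := mapGroup (D := D) σ
  have hτι : ∀ y, τ (ι y) = ι y := fun y => Model.mat_inj (Matrix.ext fun a b => (hi _).2 ⟨_, rfl⟩)
  set R := rr (F := F) T hU
  have hτx : ∀ a b, τ (R.x a b) = R.x a (σ b) := mapGroup_x T _ σ
  have hτH : ∀ {t}, t ∈ R.H → τ t = t ^ q := by
    intro t ht
    have h1 : (⟨τ t, map_H hτx ht⟩ : R.H) = ⟨t, ht⟩ ^ q := by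
      refine psi_injective T hU ?_
      rw [map_pow]
      funext j
      refine Units.ext ?_
      rw [Pi.pow_apply, Units.val_pow_eq_pow_val, val_psi, val_psi]
      exact hσ _
    exact congrArg Subtype.val h1
  obtain ⟨hfac, hfacH⟩ := hG F hQ
  have hFu : Nat.card Fˣ = q ^ d - 1 := by
    rw [Nat.card_eq_fintype_card, Fintype.card_units, hQ]
  -- conjugate into the torus
  obtain ⟨P₀⟩ := (inferInstance : Nonempty (Sylow r R.H))
  obtain ⟨Q, hQle⟩ := (P₀.2.map R.H.subtype).exists_le_sylow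
  have hQH : (Q : Subgroup ↥(D.group F)) ≤ R.H := by
    have hcard : Nat.card (P₀.1.map R.H.subtype) = Nat.card Q := by
      rw [Subgroup.card_map_of_injective Subtype.coe_injective, Sylow.card_eq_multiplicity,
        Sylow.card_eq_multiplicity, hfac, T.card_H_eq (relsOfCommGood hU.toCommGood F)]
    rw [← Subgroup.eq_of_le_of_card_ge hQle hcard.ge]
    rintro _ ⟨y, -, rfl⟩
    exact y.2
  obtain ⟨S, hS⟩ := ((P.2.map ι)).exists_le_sylow
  obtain ⟨g, hg⟩ := MulAction.exists_smul_eq (↥(D.group F)) S Q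
  have hQmem : ∀ {y}, y ∈ (S : Subgroup ↥(D.group F)) → g * y * g⁻¹ ∈ R.H := fun {y} hy =>
    hQH (hg ▸ ⟨y, hy, rfl⟩)
  let φ : P →* R.H :=
    { toFun := fun y => ⟨g * ι y.1 * g⁻¹, hQmem (hS ⟨y.1, y.2, rfl⟩)⟩
      map_one' := Subtype.ext (by simp)
      map_mul' := fun y z => Subtype.ext (by
        show g * ι (y.1 * z.1) * g⁻¹ = (g * ι y.1 * g⁻¹) * (g * ι z.1 * g⁻¹)
        rw [map_mul]; group) }
  have hφinj : Function.Injective φ := by
    intro y z e
    have h1 : g * ι y.1 * g⁻¹ = g * ι z.1 * g⁻¹ := congrArg Subtype.val e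
    exact Subtype.ext (mapGroup_injective i (mul_left_cancel (mul_right_cancel h1)))
  let Φ : P →* (Fin T.tab.l → Fˣ) := (psi T hU).comp φ
  have hΦinj : Function.Injective Φ := (psi_injective T hU).comp hφinj
  let V : Subgroup (Fin T.tab.l → Fˣ) := (powMonoidHom (r ^ e)).ker
  have hrQ : r ^ e ∣ q ^ d - 1 := he ▸ Nat.ordProj_dvd _ _
  have hQ0 : q ^ d - 1 ≠ 0 := fun h0 => by rw [h0] at he; simp at he; omega
  have hexpP : ∀ y : P, Φ y ^ r ^ e = 1 := by
    intro y
    obtain ⟨k, hk⟩ := P.2 y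
    funext j
    have h1 : Φ y j ^ r ^ k = 1 := by rw [← Pi.pow_apply, ← map_pow, hk, map_one]; rfl
    have h2 : Φ y j ^ (q ^ d - 1) = 1 := by rw [← hFu]; exact pow_card_eq_one'
    have h3 := Nat.dvd_gcd (orderOf_dvd_of_pow_eq_one h1) (orderOf_dvd_of_pow_eq_one h2)
    rw [Pi.pow_apply, Pi.one_apply, ← orderOf_dvd_iff_pow_eq_one]
    obtain ⟨j', -, hj'⟩ := (Nat.dvd_prime_pow hr).1 (Nat.dvd_gcd_iff.1 (h3) |>.1)
    rw [hj']
    have h4 : r ^ j' ∣ q ^ d - 1 := hj' ▸ (Nat.dvd_gcd_iff.1 h3).2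
    exact pow_dvd_pow r (he ▸ (hr.pow_dvd_iff_le_factorization hQ0).1 h4)
  -- the Frobenius twist
  set n := τ g * g⁻¹ with hn
  have hnt : ∀ y : P, n * (φ y).1 * n⁻¹ = (φ y).1 ^ q := by
    intro y
    rw [← hτH (φ y).2]
    show n * (g * ι y.1 * g⁻¹) * n⁻¹ = τ (g * ι y.1 * g⁻¹)
    rw [map_mul, map_mul, map_inv, hτι, hn]
    group
  obtain ⟨b₁, hb₁, v, -, b₂, hb₂, hnd⟩ := R.exists_bruhat (g := n)
    ((T.group_top (relsOfCommGood hU.toCommGood F) hwit).symm ▸ Subgroup.mem_top n)
  have hkey : ∀ y : P, R.nw v * (φ y).1 * (R.nw v)⁻¹ = (φ y).1 ^ q := fun y =>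
    conj_key T hU hlong hspan v (φ y).2 (pow_mem (φ y).2 q) hb₁ hb₂ (by
      rw [← hnd, ← hnt y]; group)
  have hrev : ∀ w : List (Fin T.tab.l), (pw T w)⁻¹ = pw T w.reverse := by
    intro w
    refine inv_eq_of_mul_eq_one_right (Equiv.ext fun s => ?_)
    rw [Equiv.Perm.mul_apply, pw_apply, pw_apply, T.S.actw_reverse]
    rfl
  have hconj : ∀ (w : List (Fin T.tab.l)) (t : R.H),
      psi T hU ⟨R.nw w * t.1 * (R.nw w)⁻¹, nw_conj_mem_H _ w t.2⟩ =
        act T hU (⟨pw T w, prod_mem_weyl T w⟩ : ↥(weyl T)) (psi T hU t) := by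
    intro w t
    rw [psi_conj T hU w t]
    show _ = mpow (Pg T (pw T w)⁻¹) _
    rw [hrev]
  -- the restricted action
  have hVact : ∀ (γ : ↥(weyl T)) (c : Fin T.tab.l → Fˣ), c ∈ V → act T hU γ c ∈ V := by
    intro γ c hc
    have hc' : c ^ r ^ e = 1 := hc
    show (act T hU γ c) ^ r ^ e = 1
    rw [← map_pow, hc', map_one]
  let actV : ↥(weyl T) →* Monoid.End V :=
    { toFun := fun γ =>
        { toFun := fun c => ⟨act T hU γ c.1, hVact γ c.1 c.2⟩
          map_one' := Subtype.ext (map_one _)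
          map_mul' := fun c c' => Subtype.ext (map_mul _ _ _) }
      map_one' := MonoidHom.ext fun c => Subtype.ext (by
        show act T hU 1 c.1 = c.1
        rw [map_one]; rfl)
      map_mul' := fun γ δ => MonoidHom.ext fun c => Subtype.ext (by
        show act T hU (γ * δ) c.1 = act T hU γ (act T hU δ c.1)
        rw [map_mul]; rfl) }
  let Pv : Subgroup V := (Φ.codRestrict V fun y => hexpP y).range
  have hrootV : ∀ y : V, y ^ r = 1 → ∃ x : V, x ^ r ^ (e - 1) = y := by
    intro y hy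
    choose x hx1 hx2 using fun j => exists_root_cyclic (y := y.1 j) hr he1 (hFu ▸ hrQ)
      (congrFun (congrArg Subtype.val hy) j)
    exact ⟨⟨x, funext hx1⟩, Subtype.ext (funext hx2)⟩
  have hsurjV : ∀ c : Fin T.tab.l → Fˣ, c ∈ V → ∃ t : R.H, psi T hU t = c := by
    intro c hc
    have hc' : c ^ r ^ e = 1 := hc
    set I := (psi (F := F) T hU).range with hI
    have hidx : ¬ r ∣ I.index := by
      intro hd'
      have h1 := congrArg (fun n : ℕ => n.factorization r) (Subgroup.card_mul_index I)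
      simp only [Nat.card_pi, Finset.prod_const, Finset.card_univ, Fintype.card_fin] at h1
      rw [Nat.factorization_mul Nat.card_pos.ne' Subgroup.index_ne_zero_of_finite, Finsupp.add_apply,
        hFu, Nat.factorization_pow, Finsupp.smul_apply, he, smul_eq_mul] at h1
      have h3 : Nat.card I = Nat.card ↥(D.diagonalSubgroup F) := by
        rw [hI, ← Nat.card_congr (MonoidHom.ofInjective (psi_injective T hU)).toEquiv,
          ← T.card_H_eq (relsOfCommGood hU.toCommGood F)]
      rw [h3, hfacH] at h1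
      have h2 := hr.factorization_pos_of_dvd Subgroup.index_ne_zero_of_finite hd'
      omega
    have h1 := Subgroup.pow_index_mem I c
    obtain ⟨k, hk⟩ := exists_pow_eq_self_of_coprime (x := c) (n := I.index) (by
      refine Nat.Coprime.coprime_dvd_right (orderOf_dvd_of_pow_eq_one hc') ?_
      exact (Nat.Coprime.pow_left e ((hr.coprime_iff_not_dvd).2 hidx)).symm)
    rw [← hk]
    exact pow_mem h1 k
  have hact : ∀ (γ : ↥(weyl T)) (c : Fin T.tab.l → Fˣ), act T hU γ c = c →
      ∀ s, chiu T c (γ.1 s) = chiu T c s := by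
    intro γ c hc s
    have h1 := chiu_weyl T hU (γ := γ.1⁻¹) (inv_mem γ.2) c (γ.1 s)
    rw [show mpow (Pg T γ.1⁻¹) c = c from hc, Equiv.Perm.coe_inv, Equiv.symm_apply_apply] at h1
    exact h1.symm
  have hv : ∀ y ∈ Pv, actV ⟨pw T v, prod_mem_weyl T v⟩ y = y ^ q := by
    rintro _ ⟨y, rfl⟩
    refine Subtype.ext ?_
    show act T hU _ (Φ y) = Φ y ^ q
    rw [show Φ y = psi T hU (φ y) from rfl, ← hconj v, ← map_pow]
    congr 1
    exact Subtype.ext (hkey y)
  have hmax : ∀ t : V, (∀ γ : ↥(weyl T), (∀ y ∈ Pv, actV γ y = y) → actV γ t = t) →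
      actV ⟨pw T v, prod_mem_weyl T v⟩ t = t ^ q → t ∈ Pv := by
    intro tv hfixt htw
    obtain ⟨t, ht⟩ := hsurjV tv.1 tv.2
    have hvt : R.nw v * t.1 * (R.nw v)⁻¹ = t.1 ^ q := by
      have h1 : psi T hU ⟨R.nw v * t.1 * (R.nw v)⁻¹, nw_conj_mem_H _ v t.2⟩ = psi T hU (t ^ q) := by
        rw [hconj v, map_pow, ht]
        exact congrArg Subtype.val htw
      exact congrArg Subtype.val (psi_injective T hU h1)
    set S' : Set ↥(D.group F) := Set.range fun y : P => (φ y).1
    have hS'H : ∀ y ∈ S', y ∈ R.H := by rintro _ ⟨y, rfl⟩; exact (φ y).2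
    have hdom : ∀ s, (∀ y ∈ S', chi T y s = 1) → chi T t.1 s = 1 := by
      intro s hs
      obtain ⟨w, i', hw⟩ := T.witness hwit s
      set γ := pw T w
      have hγ : γ ∈ weyl T := prod_mem_weyl T w
      have hγs : γ (T.S.simple i') = s := by rw [pw_apply, hw]
      have hρm : γ * reflPerm T i' * γ⁻¹ ∈ weyl T :=
        mul_mem (mul_mem hγ (reflPerm_mem T i')) (inv_mem hγ)
      have hρs : (γ * reflPerm T i' * γ⁻¹) s = T.S.neg s := by
        rw [← hγs, Equiv.Perm.mul_apply, Equiv.Perm.mul_apply, Equiv.Perm.coe_inv,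
          Equiv.symm_apply_apply]
        show γ (T.S.refl i' (T.S.simple i')) = _
        rw [T.S.refl_simple, pw_apply, pw_apply, T.S.actw_neg]
      have hρ : ∀ y ∈ Pv, actV ⟨γ * reflPerm T i' * γ⁻¹, hρm⟩ y = y := by
        rintro _ ⟨y, rfl⟩
        refine Subtype.ext ?_
        show mpow (Pg T (γ * reflPerm T i' * γ⁻¹)⁻¹) (Φ y) = Φ y
        rw [show (γ * reflPerm T i' * γ⁻¹)⁻¹ = γ * reflPerm T i' * γ⁻¹ by
          rw [_root_.mul_inv_rev, _root_.mul_inv_rev, inv_inv, mul_assoc]; rfl]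
        funext j
        rw [← chiu_simple T hU (mpow _ (Φ y)) j, ← chiu_weyl T hU hρm, ← chiu_simple T hU (Φ y) j]
        set c := Φ y
        set u := γ⁻¹ (T.S.simple j)
        have hu : γ u = T.S.simple j := Equiv.apply_symm_apply γ _
        have hci : mpow (Pg T γ) c i' = 1 := by
          rw [← chiu_simple T hU (mpow (Pg T γ) c) i', ← chiu_weyl T hU hγ, hγs]
          refine Units.ext ?_
          rw [show c = psi T hU (φ y) from rfl, ← chi_eq_chiu T hU]
          exact hs _ ⟨y, rfl⟩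
        rw [Equiv.Perm.mul_apply, Equiv.Perm.mul_apply, chiu_weyl T hU hγ]
        show chiu T _ (T.S.refl i' u) = _
        rw [← hu, chiu_weyl T hU hγ c u]
        simp only [chiu, cf_refl hU.toCommGood.toGood, _root_.zpow_sub, Finset.prod_mul_distrib]
        rw [Finset.prod_inv_distrib]
        convert mul_one _
        rw [inv_eq_one]
        exact Finset.prod_eq_one fun k _ => by
          split_ifs with hk
          · rw [hk, hci, _root_.one_zpow]
          · rw [zpow_zero]
      have h1 := hact _ tv.1 (congrArg Subtype.val (hfixt ⟨_, hρm⟩ hρ)) s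
      rw [hρs, chiu_neg T hU] at h1
      have h2 : chiu T tv.1 s ^ 2 = 1 := by
        rw [pow_two]
        nth_rw 1 [← h1]
        exact inv_mul_cancel _
      have h3 : chiu T tv.1 s ^ r ^ e = 1 := by
        have hc : tv.1 ^ r ^ e = 1 := tv.2
        rw [chiu, ← Finset.prod_pow]
        refine Finset.prod_eq_one fun j _ => ?_
        have hcj : tv.1 j ^ r ^ e = 1 := congrFun hc j
        rw [← zpow_natCast, ← _root_.zpow_mul, mul_comm, _root_.zpow_mul, zpow_natCast, hcj,
          _root_.one_zpow]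
      have h4 := Nat.dvd_gcd (orderOf_dvd_of_pow_eq_one h2) (orderOf_dvd_of_pow_eq_one h3)
      rw [Nat.Coprime.gcd_eq_one ((Nat.coprime_two_left).2 ((hr.odd_of_ne_two hr2).pow)),
        Nat.dvd_one, orderOf_eq_one_iff] at h4
      rw [chi_eq_chiu T hU, ht, h4, Units.val_one]
    have hstab : ∀ w, (∀ y ∈ S', R.nw w * y * (R.nw w)⁻¹ = y) → R.nw w * t.1 * (R.nw w)⁻¹ = t.1 := by
      intro w hw
      have h1 := hfixt ⟨pw T w, prod_mem_weyl T w⟩ (by
        rintro _ ⟨y, rfl⟩
        refine Subtype.ext ?_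
        show act T hU _ (Φ y) = Φ y
        rw [show Φ y = psi T hU (φ y) from rfl, ← hconj w]
        congr 1
        exact Subtype.ext (hw _ ⟨y, rfl⟩))
      have h2 : psi T hU ⟨R.nw w * t.1 * (R.nw w)⁻¹, nw_conj_mem_H _ w t.2⟩ = psi T hU t := by
        rw [hconj w, ht]
        exact congrArg Subtype.val h1
      exact congrArg Subtype.val (psi_injective T hU h2)
    have hc : ∀ y ∈ S', ((R.nw v)⁻¹ * n) * y = y * ((R.nw v)⁻¹ * n) := by
      rintro _ ⟨y, rfl⟩
      show (R.nw v)⁻¹ * n * (φ y).1 = (φ y).1 * ((R.nw v)⁻¹ * n)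
      calc (R.nw v)⁻¹ * n * (φ y).1 = (R.nw v)⁻¹ * (n * (φ y).1 * n⁻¹) * n := by group
        _ = _ := by rw [hnt y, ← hkey y]; group
    have hct := commute_of_commute T hU hlong hspan hwit t.2 hS'H hdom hstab hc
    have hnt' : n * t.1 * n⁻¹ = t.1 ^ q := by
      calc n * t.1 * n⁻¹ = R.nw v * ((R.nw v)⁻¹ * n * t.1) * n⁻¹ := by group
        _ = R.nw v * t.1 * (R.nw v)⁻¹ := by rw [hct]; group
        _ = _ := hvt
    have htr : t ^ r ^ e = 1 := psi_injective T hU (by rw [map_pow, map_one, ht]; exact tv.2)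
    obtain ⟨k, -, hk⟩ := (Nat.dvd_prime_pow hr).1 (orderOf_dvd_of_pow_eq_one htr)
    set gt := g⁻¹ * t.1 * g with hgt
    have hord : orderOf gt = r ^ k := by
      rw [← hk, hgt]
      have h1 := orderOf_injective (MulAut.conj g⁻¹).toMonoidHom (MulAut.conj g⁻¹).injective t.1
      simp only [MulEquiv.coe_toMonoidHom, MulAut.conj_apply, inv_inv] at h1
      rw [h1, Subgroup.orderOf_coe]
    obtain ⟨y, hy⟩ := range_mapGroup_of_fixed_coprime T hU hwit hlong hspan σ i hi (g := gt) (by
        rw [hord]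
        refine Nat.Coprime.pow_left k ((hr.coprime_iff_not_dvd).2 fun hdk => ?_)
        have h1 := Subgroup.card_mul_index (Model.torusHom (F := F) D).ker
        rw [Subgroup.index_ker, ← T.diagonalSubgroup_eq (torusFacts_of_good hU.toCommGood.toGood)
          (relsOfCommGood hU.toCommGood F)] at h1
        have h2 := congrArg (fun n : ℕ => n.factorization r) h1
        simp only [Nat.card_pi, Finset.prod_const, Finset.card_univ, Fintype.card_fin] at h2
        rw [Nat.factorization_mul Nat.card_pos.ne' Nat.card_pos.ne', Finsupp.add_apply, hfacH, hFu,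
          Nat.factorization_pow, Finsupp.smul_apply, he, smul_eq_mul, T.l_eq] at h2
        have h3 := hr.factorization_pos_of_dvd Nat.card_pos.ne' hdk
        omega) (by
      show τ _ = _
      rw [hgt, map_mul, map_mul, map_inv, hτH t.2, ← hnt', hn]
      group)
    -- the preimage lies in `P`
    let Y : Subgroup ↥(D.group F₀) :=
      ((Subgroup.zpowers gt) ⊔ (P.1.map ι)).comap ι
    have hY : IsPGroup r Y := by
      have hle : Subgroup.zpowers gt ⊔ P.1.map ι ≤ R.H.map (MulAut.conj g⁻¹).toMonoidHom := by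
        refine sup_le (Subgroup.zpowers_le.2 ⟨t.1, t.2, by simp [hgt]⟩) ?_
        rintro _ ⟨z, hz, rfl⟩
        exact ⟨g * ι z * g⁻¹, hQmem (hS ⟨z, hz, rfl⟩), by simp [mul_assoc]⟩
      have h1 : IsPGroup r ↥(Subgroup.zpowers gt ⊔ P.1.map ι) := by
        refine IsPGroup.to_sup_of_normal_right' ?_ (P.2.map ι) ?_
        · exact IsPGroup.of_card (n := k) (by rw [Nat.card_zpowers, hord])
        · rw [Subgroup.zpowers_le, Subgroup.mem_normalizer_iff]
          intro z
          have hcomm : ∀ z ∈ P.1.map ι, gt * z * gt⁻¹ = z := by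
            intro z hz
            obtain ⟨a', ha', ea⟩ := hle (Subgroup.mem_sup_right hz)
            subst ea
            show gt * (MulAut.conj g⁻¹ a') * gt⁻¹ = MulAut.conj g⁻¹ a'
            simp only [MulAut.conj_apply, inv_inv, hgt]
            calc g⁻¹ * t.1 * g * (g⁻¹ * a' * g) * (g⁻¹ * t.1 * g)⁻¹
                = g⁻¹ * (t.1 * a') * (t.1)⁻¹ * g := by group
              _ = g⁻¹ * (a' * t.1) * (t.1)⁻¹ * g := by rw [H_commute T hU t.2 ha']
              _ = _ := by group
          refine ⟨fun hz => by rw [hcomm z hz]; exact hz, fun hz => ?_⟩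
          have h2 := hcomm _ hz
          have h3 : gt * z * gt⁻¹ = z := by
            calc gt * z * gt⁻¹ = gt⁻¹ * (gt * (gt * z * gt⁻¹) * gt⁻¹) * gt := by group
              _ = gt⁻¹ * (gt * z * gt⁻¹) * gt := by rw [h2]
              _ = z := by group
          rwa [h3] at hz
      exact h1.comap_of_injective ι (mapGroup_injective i)
    have hPY : P.1 ≤ Y := fun z hz => Subgroup.mem_sup_right ⟨z, hz, rfl⟩
    have hyP : y ∈ P.1 := by
      rw [← P.3 hY hPY]
      refine Subgroup.mem_comap.2 ?_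
      rw [show ι y = gt from hy]
      exact Subgroup.mem_sup_left (Subgroup.mem_zpowers _)
    refine ⟨⟨y, hyP⟩, Subtype.ext ?_⟩
    show psi T hU (φ ⟨y, hyP⟩) = tv.1
    rw [← ht]
    congr 1
    refine Subtype.ext ?_
    show g * mapGroup i y * g⁻¹ = t.1
    rw [hy, hgt]; group
  have hrootP : ∀ y : Pv, y ^ r = 1 → ∃ x : Pv, x ^ r ^ (e - 1) = y := by
    intro y hy
    obtain ⟨x, hx, hxy⟩ := exists_root_of_maximal actV hrW (fun x => Subtype.ext x.2) hrootV hd hrQ hd0
      ⟨pw T v, prod_mem_weyl T v⟩ Pv hv hmax y.2 (congrArg Subtype.val hy)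
    exact ⟨⟨x, hx⟩, Subtype.ext hxy⟩
  let ee : P ≃* Pv := MonoidHom.ofInjective (f := Φ.codRestrict V fun y => hexpP y)
    fun a b hab => hΦinj (congrArg Subtype.val hab)
  have hcardP : Nat.card Pv = (r ^ e) ^ a := by
    rw [← Nat.card_congr ee.toEquiv, Sylow.card_eq_multiplicity, hG₀, mul_comm, pow_mul]
  obtain ⟨f⟩ := homocyclic_of_roots hr he1 (fun x : Pv => Subtype.ext (Subtype.ext x.1.2)) hrootP hcardP
  exact ⟨ee.trans f⟩

end Cfsg.Agent.ChevTori
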