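import Cfsg.Agent.ChevTori.TwistE7
import Cfsg.Agent.ChevGroup.Minuscule.All

/-!
The twisted torus of type E7 of order `(q⁴ - q² + 1)(q³ + 1)`: it is cyclic and the centraliser of its image
is the torus, as the root lattice has no short vector killed by it.
-/

set_option autoImplicit false

namespace Cfsg.Agent.ChevTori.E7Tor

open Cfsg.Lie Cfsg.Agent.ChevGroup Cfsg.Agent.ChevCore Cfsg.Agent.ChevFixed Matrix

section pairing

variable {l : ℕ} {M : Type*} [CommGroup M]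

/-- The pairing of an integral vector with a tuple. -/
def pr (w : Fin l → ℤ) (c : Fin l → M) : M := ∏ j, c j ^ w j

theorem pr_sub (w w' : Fin l → ℤ) (c : Fin l → M) : pr (w - w') c = pr w c * (pr w' c)⁻¹ := by
  simp only [pr, Pi.sub_apply, _root_.zpow_sub, Finset.prod_mul_distrib, Finset.prod_inv_distrib]

theorem pr_mpow (w : Fin l → ℤ) (A : Matrix (Fin l) (Fin l) ℤ) (c : Fin l → M) :
    pr w (mpow A c) = pr (w ᵥ* A) c := by
  simp only [pr, mpow_apply, Matrix.vecMul, dotProduct, ChevCore.zpow_sum', ← Finset.prod_zpow]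
  rw [Finset.prod_comm]
  exact Finset.prod_congr rfl fun k _ => Finset.prod_congr rfl fun j _ => by
    rw [← _root_.zpow_mul, mul_comm]

theorem pr_zpow (w b : Fin l → ℤ) (x : M) : pr w (fun j => x ^ b j) = x ^ (w ⬝ᵥ b) := by
  rw [dotProduct, ChevCore.zpow_sum']
  exact Finset.prod_congr rfl fun j _ => by rw [← _root_.zpow_mul, mul_comm]

theorem pr_pow (w : Fin l → ℤ) (c : Fin l → M) (n : ℕ) : pr w (c ^ n) = pr w c ^ n := by
  simp only [pr, Pi.pow_apply, ← Finset.prod_pow]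
  exact Finset.prod_congr rfl fun j _ => by
    rw [← zpow_natCast, ← zpow_natCast, ← _root_.zpow_mul, ← _root_.zpow_mul, mul_comm]

theorem pr_zpow_left (w : Fin l → ℤ) (c : Fin l → M) (n : ℤ) : pr w (c ^ n) = pr w c ^ n := by
  simp only [pr, Pi.pow_apply, ← Finset.prod_zpow]
  exact Finset.prod_congr rfl fun j _ => by rw [← _root_.zpow_mul, ← _root_.zpow_mul, mul_comm]

/-- A character trivial on the kernel of `B` is a combination of the rows of `B`. -/
theorem exists_vecMul_of_kills [IsCyclic M] [Finite M] (B : Matrix (Fin l) (Fin l) ℤ) (hdet : B.det ≠ 0)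
    (hdvd : B.det.natAbs ∣ Nat.card M) (w : Fin l → ℤ)
    (h : ∀ c : Fin l → M, mpow B c = 1 → pr w c = 1) : ∃ z, w = z ᵥ* B := by
  classical
  obtain ⟨g, hg⟩ := IsCyclic.exists_generator (α := M)
  have hNg : orderOf g = Nat.card M := orderOf_eq_card_of_forall_mem_zpowers hg
  obtain ⟨m, hm⟩ : B.det ∣ (Nat.card M : ℤ) := Int.natAbs_dvd.1 (Int.natCast_dvd_natCast.2 hdvd)
  have hm0 : m ≠ 0 := by
    rintro rfl
    rw [mul_zero] at hm
    exact (Nat.card_pos (α := M)).ne' (by exact_mod_cast hm)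
  have hz : ∀ j, B.det ∣ (w ᵥ* B.adjugate) j := by
    intro j
    have h1 := h (fun i => g ^ (m * B.adjugate i j)) (by
      rw [mpow_zpow]
      funext i
      show g ^ (B *ᵥ fun i => m * B.adjugate i j) i = 1
      rw [← orderOf_dvd_iff_zpow_eq_one, hNg, hm]
      have e : (B *ᵥ fun i => m * B.adjugate i j) i = m * (B * B.adjugate) i j := by
        simp only [Matrix.mulVec, dotProduct, Matrix.mul_apply, Finset.mul_sum]
        exact Finset.sum_congr rfl fun k _ => by ring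
      rw [e, Matrix.mul_adjugate, Matrix.smul_apply, Matrix.one_apply, smul_eq_mul]
      split_ifs
      · rw [mul_one, mul_comm]
      · rw [mul_zero, mul_zero]; exact dvd_zero _)
    rw [pr_zpow, ← orderOf_dvd_iff_zpow_eq_one, hNg, hm] at h1
    have e : (w ⬝ᵥ fun i => m * B.adjugate i j) = (w ᵥ* B.adjugate) j * m := by
      simp only [Matrix.vecMul, dotProduct, Finset.sum_mul]
      exact Finset.sum_congr rfl fun k _ => by ring
    rw [e] at h1
    exact Int.dvd_of_mul_dvd_mul_right hm0 h1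
  choose z hz using hz
  refine ⟨z, ?_⟩
  have h2 : w ᵥ* B.adjugate = B.det • z := funext hz
  have h3 := congrArg (fun x => x ᵥ* B) h2
  simp only [Matrix.vecMul_vecMul, Matrix.adjugate_mul, Matrix.vecMul_smul, Matrix.vecMul_one,
    Matrix.smul_vecMul] at h3
  funext j
  exact mul_left_cancel₀ hdet (congrFun h3 j)

theorem card_tors (A : Matrix (Fin l) (Fin l) ℤ) (m : ℕ) :
    Nat.card {c : Fin l → M // mpow A c = 1 ∧ c ^ m = 1} =
      Nat.card (mpow (M := (powMonoidHom m : M →* M).ker) A).ker := by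
  have e : ∀ (c : Fin l → (powMonoidHom m : M →* M).ker) (j : Fin l),
      mpow A (fun i => (c i : M)) j =
        (((mpow (M := (powMonoidHom m : M →* M).ker) A c) j :
          (powMonoidHom m : M →* M).ker) : M) := fun c j => by
    rw [mpow_apply, mpow_apply, SubmonoidClass.coe_finset_prod]
    rfl
  exact Nat.card_congr
    { toFun := fun c => ⟨fun i => ⟨c.1 i, congrFun c.2.2 i⟩, funext fun j => Subtype.ext
        ((e (fun i => ⟨c.1 i, congrFun c.2.2 i⟩) j).symm.trans (congrFun c.2.1 j))⟩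
      invFun := fun c => ⟨fun i => (c.1 i : M), funext fun j =>
        (e c.1 j).trans (congrArg Subtype.val (congrFun c.2 j)), funext fun i => (c.1 i).2⟩
      left_inv := fun c => rfl
      right_inv := fun c => rfl }

end pairing

theorem eval_f (q : ℕ) :
    ((Polynomial.cyclotomic 12 ℤ * (Polynomial.X ^ 3 + 1)).eval (q : ℤ)).natAbs =
      (q ^ 4 - q ^ 2 + 1) * (q ^ 3 + 1) := by
  rw [cyclotomic_twelve]
  simp only [Polynomial.eval_mul, Polynomial.eval_add, Polynomial.eval_sub, Polynomial.eval_pow,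
    Polynomial.eval_X, Polynomial.eval_one, Int.natAbs_mul]
  have h : q ^ 2 ≤ q ^ 4 := by
    rcases Nat.eq_zero_or_pos q with rfl | hq
    · simp
    · exact Nat.pow_le_pow_right hq (by norm_num)
  rw [show ((q : ℤ) ^ 4 - (q : ℤ) ^ 2 + 1) = ((q ^ 4 - q ^ 2 + 1 : ℕ) : ℤ) by push_cast [h]; ring,
    show ((q : ℤ) ^ 3 + 1) = ((q ^ 3 + 1 : ℕ) : ℤ) by push_cast; ring, Int.natAbs_natCast,
    Int.natAbs_natCast]

theorem cast_N {R : Type*} [CommRing R] (q : ℕ) :
    (((q ^ 4 - q ^ 2 + 1) * (q ^ 3 + 1) : ℕ) : R) =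
      ((q : R) ^ 4 - (q : R) ^ 2 + 1) * ((q : R) ^ 3 + 1) := by
  have h : q ^ 2 ≤ q ^ 4 := by
    rcases Nat.eq_zero_or_pos q with rfl | hq
    · simp
    · exact Nat.pow_le_pow_right hq (by norm_num)
  push_cast [h]
  ring

theorem dvd_card (q : ℕ) (hq : 1 ≤ q) : (q ^ 4 - q ^ 2 + 1) * (q ^ 3 + 1) ∣ q ^ 12 - 1 := by
  rw [← Int.natCast_dvd_natCast, cast_N]
  exact ⟨((q : ℤ) ^ 2 + 1) * ((q : ℤ) ^ 3 - 1), by push_cast [Nat.one_le_pow 12 q hq]; ring⟩

theorem dvd_X12 : Polynomial.cyclotomic 12 ℤ * (Polynomial.X ^ 3 + 1) ∣ (Polynomial.X : Polynomial ℤ) ^ 12 - 1 := by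
  rw [cyclotomic_twelve]
  exact ⟨(Polynomial.X ^ 3 - 1) * (Polynomial.X ^ 2 + 1), by ring⟩

theorem quad_mod_four (z : Fin 7 → ℤ) : ∃ w : ℤ,
    (z ᵥ* K7) ⬝ᵥ z = 3 * (z 1 + z 4 + z 6) ^ 2 + 4 * w := by
  refine ⟨1 * z 0 ^ 2 + 2 * (z 0 * z 1) + 3 * (z 0 * z 2) + 4 * (z 0 * z 3) + 3 * (z 0 * z 4) +
    2 * (z 0 * z 5) + 1 * (z 0 * z 6) + 1 * z 1 ^ 2 + 4 * (z 1 * z 2) + 6 * (z 1 * z 3) + 3 * (z 1 * z 4) +
    3 * (z 1 * z 5) + 3 * z 2 ^ 2 + 8 * (z 2 * z 3) + 6 * (z 2 * z 4) + 4 * (z 2 * z 5) + 2 * (z 2 * z 6) +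
    6 * z 3 ^ 2 + 9 * (z 3 * z 4) + 6 * (z 3 * z 5) + 3 * (z 3 * z 6) + 3 * z 4 ^ 2 + 5 * (z 4 * z 5) +
    1 * (z 4 * z 6) + 2 * z 5 ^ 2 + 2 * (z 5 * z 6), ?_⟩
  simp only [Matrix.vecMul, dotProduct, Fin.sum_univ_seven]
  simp [K7]
  ring

theorem bf_even (x : Fin 7 → ℤ) : ∃ w : ℤ, bf mdl x x = 2 * w := by
  refine ⟨x 0 ^ 2 + x 1 ^ 2 + x 2 ^ 2 + x 3 ^ 2 + x 4 ^ 2 + x 5 ^ 2 + x 6 ^ 2 - x 0 * x 2 - x 1 * x 3 -
    x 2 * x 3 - x 3 * x 4 - x 4 * x 5 - x 5 * x 6, ?_⟩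
  rw [show bf mdl x x = (x ᵥ* C7) ⬝ᵥ x from
    congrArg (fun B : Matrix (Fin 7) (Fin 7) ℤ => (x ᵥ* B) ⬝ᵥ x) cartT_eq']
  simp only [Matrix.vecMul, dotProduct, Fin.sum_univ_seven]
  simp [C7]
  ring

/-- Twice the inverse Cartan matrix, in the coordinates of the model. -/
def K : Matrix (Fin mdl.tab.l) (Fin mdl.tab.l) ℤ := K7

theorem cartT_K : cartT mdl * K = (2 : ℤ) • 1 :=
  (congrArg (fun A : Matrix (Fin 7) (Fin 7) ℤ => A * K7) cartT_eq').trans C7_mul_K7

theorem K_cartT : K * cartT mdl = (2 : ℤ) • 1 :=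
  (congrArg (fun A : Matrix (Fin 7) (Fin 7) ℤ => K7 * A) cartT_eq').trans K7_mul_C7

theorem cartT_cancel {A B : Matrix (Fin mdl.tab.l) (Fin mdl.tab.l) ℤ} (h : cartT mdl * A = cartT mdl * B) :
    A = B := by
  have h1 := congrArg (K * ·) h
  simp only [← Matrix.mul_assoc, K_cartT, Matrix.smul_mul, Matrix.one_mul] at h1
  ext i j
  have h2 := congrFun (congrFun h1 i) j
  simp only [Matrix.smul_apply, smul_eq_mul] at h2
  omega

theorem quad_K (z : Fin mdl.tab.l → ℤ) : ∃ u w : ℤ, (z ᵥ* K) ⬝ᵥ z = 3 * u ^ 2 + 4 * w :=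
  ⟨_, quad_mod_four z⟩

theorem norm_arith {q : ℕ} {n w m u w' v : ℤ} (hq : (2 : ℤ) ≤ q) (hn : 0 < n) (hw : 0 < w) (hn2 : n = 2 * m)
    (hm : m = 3 * u ^ 2 + 4 * w') (h : 4 * v = ((q : ℤ) - 1) ^ 2 * n + 8 * (q : ℤ) * w) :
    v ≠ 2 ∧ v ≠ 4 ∧ (¬ 2 ∣ q → v ≠ 8) := by
  have h1 : 1 * n ≤ ((q : ℤ) - 1) ^ 2 * n := mul_le_mul_of_nonneg_right (by nlinarith) hn.le
  have h2 : 8 * (q : ℤ) * 1 ≤ 8 * (q : ℤ) * w := mul_le_mul_of_nonneg_left hw (by omega)
  refine ⟨by omega, by omega, fun hodd hv => ?_⟩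
  obtain rfl | hq5 : q = 3 ∨ 5 ≤ q := by omega
  · push_cast at h
    obtain ⟨t, rfl | rfl⟩ := Int.even_or_odd' u <;> · ring_nf at hm; omega
  · omega

theorem bf_nonneg (x : Fin mdl.tab.l → ℤ) : 0 ≤ bf mdl x x := (bf_pos x).1

theorem bf_eq_zero {x : Fin mdl.tab.l → ℤ} (h : bf mdl x x = 0) : x = 0 := (bf_pos x).2 h

/-- A lattice vector killed by the twisted torus is zero or long. -/
theorem not_short {q : ℕ} (hq : 2 ≤ q) {v : List (Fin mdl.tab.l)}
    (hcp : (Pg mdl (pw mdl v.reverse)).charpoly = Polynomial.cyclotomic 12 ℤ * (Polynomial.X ^ 3 + 1))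
    {e z : Fin mdl.tab.l → ℤ}
    (hz : e ᵥ* cartT mdl = z ᵥ* ((q : ℤ) • (1 : Matrix (Fin mdl.tab.l) (Fin mdl.tab.l) ℤ) - Qw mdl v)) :
    e = 0 ∨ (bf mdl e e ≠ 2 ∧ bf mdl e e ≠ 4 ∧ (¬ 2 ∣ q → bf mdl e e ≠ 8)) := by
  classical
  set γ := pw mdl v.reverse
  have hγ : γ ∈ weyl mdl := prod_mem_weyl mdl _
  set A := Pg mdl γ
  obtain ⟨N, -, hN⟩ := exists_one_sub_Pg (T := mdl) hG7 ((weylS_univ mdl).symm ▸ hγ)
  have hA : A = 1 - cartT mdl * N := by rw [← hN, sub_sub_cancel]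
  have hQ : Qw mdl v = 1 - N * cartT mdl := by
    refine cartT_cancel ?_
    rw [cartT_mul_Qw mdl hG7]
    show A * cartT mdl = _
    rw [hA, Matrix.sub_mul, Matrix.one_mul, Matrix.mul_sub, Matrix.mul_one, Matrix.mul_assoc]
  set e' := z ᵥ* K with he'
  have h1 : (2 : ℤ) • e = (q : ℤ) • e' - e' ᵥ* A := by
    have h2 := congrArg (fun x => x ᵥ* K) hz
    simp only [Matrix.vecMul_vecMul, cartT_K, Matrix.vecMul_smul, Matrix.vecMul_one] at h2
    rw [h2, Matrix.sub_mul, Matrix.vecMul_sub, Matrix.smul_mul, Matrix.one_mul, Matrix.vecMul_smul, he',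
      Matrix.vecMul_vecMul, show Qw mdl v * K = K * A by
        refine cartT_cancel ?_
        rw [← Matrix.mul_assoc, cartT_mul_Qw mdl hG7, Matrix.mul_assoc, cartT_K, ← Matrix.mul_assoc,
          cartT_K, Matrix.mul_smul, Matrix.smul_mul, Matrix.mul_one, Matrix.one_mul]]
  set x := -(z ᵥ* N)
  have hx : e' ᵥ* A - e' = (2 : ℤ) • x := by
    rw [hA, Matrix.vecMul_sub, Matrix.vecMul_one,
      sub_sub_cancel_left, he', Matrix.vecMul_vecMul, ← Matrix.mul_assoc, K_cartT, Matrix.smul_mul,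
      Matrix.one_mul, Matrix.vecMul_smul, smul_neg]
  set n := bf mdl e' e' with hn
  set i := bf mdl (e' ᵥ* A) e' with hi
  have hn2 : n = 2 * ((z ᵥ* K) ⬝ᵥ z) := by
    rw [hn, bf, he', Matrix.vecMul_vecMul, K_cartT, Matrix.vecMul_smul, Matrix.vecMul_one, smul_dotProduct,
      smul_eq_mul, dotProduct_comm]
  have hinv : bf mdl (e' ᵥ* A) (e' ᵥ* A) = n := bf_Pg hG7 symm7 diag7 hγ e' e'
  have hcomm : bf mdl e' (e' ᵥ* A) = i := bf_comm symm7 _ _
  have h4 : 4 * bf mdl e e = ((q : ℤ) ^ 2 + 1) * n - 2 * (q : ℤ) * i := by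
    have h5 : bf mdl ((2 : ℤ) • e) ((2 : ℤ) • e) = 4 * bf mdl e e := by
      rw [bf_smul_left, bf_smul_right]; ring
    rw [← h5, h1, bf_sub_left, bf_sub_right, bf_sub_right, bf_smul_left, bf_smul_left, bf_smul_right,
      bf_smul_right, hinv, hcomm, ← hn, ← hi]
    ring
  obtain ⟨w, hw⟩ := bf_even x
  have hw4 : n - i = 4 * w := by
    have h5 : bf mdl (e' ᵥ* A - e') (e' ᵥ* A - e') = 4 * bf mdl x x := by
      rw [hx, bf_smul_left, bf_smul_right]; ring
    rw [bf_sub_left, bf_sub_right, bf_sub_right, hinv, hcomm, ← hn, ← hi] at h5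
    omega
  by_cases he : e = 0
  · exact Or.inl he
  right
  have he0 : e' ≠ 0 := fun h => he (by
    rw [h, smul_zero, Matrix.zero_vecMul, sub_zero] at h1
    funext j
    have := congrFun h1 j
    simp only [Pi.smul_apply, smul_eq_mul, Pi.zero_apply] at this
    show e j = 0
    omega)
  have hn0 : 0 < n := lt_of_le_of_ne (bf_nonneg e') fun h => he0 (bf_eq_zero h.symm)
  have hw1 : 0 < w := by
    have h0 := bf_nonneg x
    refine lt_of_le_of_ne (by omega) fun h => ?_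
    have hx0 : x = 0 := bf_eq_zero (by omega)
    rw [hx0, smul_zero, sub_eq_zero] at hx
    have hd : (1 - A).det = 0 := Matrix.exists_vecMul_eq_zero_iff.1 ⟨e', he0, by
      rw [Matrix.vecMul_sub, Matrix.vecMul_one, hx, sub_self]⟩
    have he1 := congrArg (Polynomial.eval 1) hcp
    rw [Matrix.eval_charpoly, map_one, hd, cyclotomic_twelve] at he1
    simp at he1
  have hmain : 4 * bf mdl e e = ((q : ℤ) - 1) ^ 2 * n + 8 * (q : ℤ) * w := by
    rw [h4, show i = n - 4 * w by omega]; ring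
  obtain ⟨u, w', hu⟩ := quad_K z
  exact norm_arith (by exact_mod_cast hq) hn0 hw1 hn2 hu hmain

section cyclic

variable {M : Type*} [CommGroup M] [IsCyclic M] [Finite M] {r q : ℕ} [Fact r.Prime]

theorem two_facts : ∀ x : ZMod 2, (x ^ 4 - x ^ 2 + 1) * (x ^ 3 + 1) = 0 → x = 1 := by decide

theorem three_facts : ∀ x : ZMod 3, x ^ 4 - x ^ 2 + 1 ≠ 0 := by decide

theorem q_sq_three {q : ℕ} (h : 3 ∣ q ^ 3 + 1) : ¬ 3 ∣ q ^ 4 - q ^ 2 + 1 := by
  have h2 : q ^ 2 ≤ q ^ 4 := by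
    rcases Nat.eq_zero_or_pos q with rfl | hq
    · simp
    · exact Nat.pow_le_pow_right hq (by norm_num)
  rw [← ZMod.natCast_eq_zero_iff] at h ⊢
  push_cast [h2] at h ⊢
  revert h
  generalize (q : ZMod 3) = x
  revert x
  decide

theorem mult_two :
    (((Polynomial.cyclotomic 12 ℤ * (Polynomial.X ^ 3 + 1))).map (Int.castRingHom (ZMod 2))).rootMultiplicity
      (1 : ZMod 2) ≤ 1 := by
  rw [cyclotomic_twelve, Polynomial.map_mul, Polynomial.map_add, Polynomial.map_add, Polynomial.map_sub]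
  simp only [Polynomial.map_pow, Polynomial.map_X, Polynomial.map_one]
  rw [show ((Polynomial.X : Polynomial (ZMod 2)) ^ 4 - Polynomial.X ^ 2 + 1) * (Polynomial.X ^ 3 + 1) =
    (Polynomial.X + 1) * ((Polynomial.X ^ 2 - Polynomial.X + 1) * (Polynomial.X ^ 4 - Polynomial.X ^ 2 + 1)) by
      ring]
  have hne : ((Polynomial.X : Polynomial (ZMod 2)) + 1) *
      ((Polynomial.X ^ 2 - Polynomial.X + 1) * (Polynomial.X ^ 4 - Polynomial.X ^ 2 + 1)) ≠ 0 := by
    intro h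
    have := congrArg (Polynomial.eval 0) h
    simp at this
  rw [Polynomial.rootMultiplicity_mul hne,
    show (Polynomial.X : Polynomial (ZMod 2)) + 1 = Polynomial.X - Polynomial.C 1 by
      rw [map_one]
      exact (CharTwo.sub_eq_add _ _).symm,
    Polynomial.rootMultiplicity_X_sub_C_self,
    Polynomial.rootMultiplicity_eq_zero (by simp [Polynomial.IsRoot])]

set_option maxHeartbeats 1000000 in
/-- The twisted torus is cyclic. -/
theorem torus_cyclic (hq : 2 ≤ q) {b : Fin mdl.tab.l → ℤ} (hE : Eig r q b) {v : List (Fin mdl.tab.l)}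
    (hγ : IsEig r q b (pw mdl v.reverse))
    (hcp : (Pg mdl (pw mdl v.reverse)).charpoly = Polynomial.cyclotomic 12 ℤ * (Polynomial.X ^ 3 + 1))
    {i : Fin mdl.tab.l} (hi : (r : ℤ) ∣ b i) (hM : Nat.card M = q ^ 12 - 1) :
    IsCyclic (mpow (M := M) ((q : ℤ) • (1 : Matrix (Fin mdl.tab.l) (Fin mdl.tab.l) ℤ) - Qw mdl v)).ker ∧
      Nat.card (mpow (M := M) ((q : ℤ) • (1 : Matrix (Fin mdl.tab.l) (Fin mdl.tab.l) ℤ) - Qw mdl v)).ker =
        (q ^ 4 - q ^ 2 + 1) * (q ^ 3 + 1) := by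
  classical
  set N := (q ^ 4 - q ^ 2 + 1) * (q ^ 3 + 1) with hNdef
  set P := Qw mdl v with hPdef
  have hdet7 : (cartT mdl).det ≠ 0 := fun h => det_C7_ne ((congrArg Matrix.det cartT_eq').symm.trans h)
  have hP : P.charpoly = Polynomial.cyclotomic 12 ℤ * (Polynomial.X ^ 3 + 1) :=
    (charpoly_Qw mdl hG7 hdet7 v).trans hcp
  set B := (q : ℤ) • (1 : Matrix (Fin mdl.tab.l) (Fin mdl.tab.l) ℤ) - P with hB
  have hdetB : B.det.natAbs = N := by
    rw [hNdef, ← eval_f, ← hP, Matrix.eval_charpoly, hB, Matrix.smul_one_eq_diagonal]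
    rfl
  have hN0 : N ≠ 0 := Nat.mul_ne_zero (Nat.succ_ne_zero _) (Nat.succ_ne_zero _)
  have hdvd : N ∣ Nat.card M := hM ▸ dvd_card q (by omega)
  have hcard := card_ker_of_det_dvd (M := M) B (fun e => by rw [e] at hdetB; simp at hdetB)
    (hdetB ▸ hdvd)
  rw [hdetB] at hcard
  refine ⟨isCyclic_of_prime_torsion fun p hp => ?_, hcard⟩
  haveI := Fact.mk hp
  by_cases hpD : p ∣ N
  swap
  · have hbot : (powMonoidHom p : (mpow (M := M) B).ker →* _).ker = ⊥ :=
      (Subgroup.eq_bot_iff_forall _).2 fun x hx => by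
        rcases (Nat.dvd_prime hp).1 (orderOf_dvd_of_pow_eq_one (show x ^ p = 1 from hx)) with h2 | h2
        · exact orderOf_eq_one_iff.1 h2
        · exact absurd (hcard ▸ h2 ▸ orderOf_dvd_natCard x) hpD
    rw [hbot]
    simp [hp.one_le]
  by_cases hp3 : p = 3
  swap
  · refine card_torsion_le_of_multiplicity P q hp (hpD.trans hdvd) ?_
    rw [hP]
    by_cases hp2 : p = 2
    · subst hp2
      have h1 : (q : ZMod 2) = 1 := by
        have h := (ZMod.natCast_eq_zero_iff N 2).2 hpD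
        rw [hNdef, cast_N] at h
        exact two_facts _ h
      rw [h1]
      exact mult_two
    · have hne : NeZero ((12 : ℕ) : ZMod p) := ⟨fun e => by
        have h12 : p ∣ 2 ^ 2 * 3 := (CharP.cast_eq_zero_iff (ZMod p) p 12).1 e
        rcases hp.dvd_mul.1 h12 with h | h
        · exact hp2 ((Nat.prime_dvd_prime_iff_eq hp Nat.prime_two).1 (hp.dvd_of_dvd_pow h))
        · exact hp3 ((Nat.prime_dvd_prime_iff_eq hp Nat.prime_three).1 h)⟩
      refine Polynomial.rootMultiplicity_le_one_of_separable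
        ((Polynomial.separable_X_pow_sub_C (1 : ZMod p) (n := 12) hne.ne one_ne_zero).of_dvd ?_) _
      have h5 := Polynomial.map_dvd (Int.castRingHom (ZMod p)) dvd_X12
      rwa [Polynomial.map_sub, Polynomial.map_pow, Polynomial.map_X, Polynomial.map_one,
        ← map_one Polynomial.C] at h5
  subst hp3
  -- the 3-part is generated by an explicit element
  have h3 : 3 ∣ q ^ 3 + 1 := by
    rcases hp.dvd_mul.1 hpD with h | h
    · exfalso
      have h2 : q ^ 2 ≤ q ^ 4 := Nat.pow_le_pow_right (by omega) (by norm_num)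
      rw [← ZMod.natCast_eq_zero_iff] at h
      push_cast [h2] at h
      exact three_facts _ h
    · exact h
  have hcop : ¬ 3 ∣ q ^ 4 - q ^ 2 + 1 := q_sq_three h3
  set a := (q ^ 3 + 1).factorization 3 with hadef
  have ha : 3 ^ a ∣ q ^ 3 + 1 := Nat.ordProj_dvd _ _
  have haN : N.factorization 3 = a := by
    rw [hNdef, Nat.factorization_mul (Nat.succ_ne_zero _) (Nat.succ_ne_zero _), Finsupp.add_apply,
      Nat.factorization_eq_zero_of_not_dvd hcop, zero_add]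
  obtain ⟨y, hy⟩ : ∃ y : M, orderOf y = 3 ^ a := by
    obtain ⟨g, hg⟩ := IsCyclic.exists_ofOrder_eq_natCard (α := M)
    refine ⟨g ^ (orderOf g / 3 ^ a), orderOf_pow_orderOf_div (orderOf_pos g).ne' ?_⟩
    rw [hg]
    exact (ha.trans (dvd_mul_left _ _)).trans hdvd
  set A := Pg mdl (pw mdl v.reverse)
  set u := cf mdl (mdl.S.simple i) with hu
  have hub : (r : ℤ) ∣ ev mdl b (mdl.S.simple i) := by rw [ev_simple hG7]; exact hi
  have hu3 : u ᵥ* A ^ 3 = -u := by
    have h := hγ.cube hE hub (ε := -1) (Or.inr rfl) (by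
      rw [hcp, map_neg, map_one, sub_neg_eq_add])
    rw [neg_one_smul] at h
    exact h
  have o1 : bf mdl (u ᵥ* A) u = 0 := hγ.orth hE hub
  have hinv := fun x y => bf_Pg hG7 symm7 diag7 hγ.1 x y
  have o2 : bf mdl (u ᵥ* A ^ 2) u = 0 := by
    rw [← hinv (u ᵥ* A ^ 2) u, Matrix.vecMul_vecMul, ← pow_succ, hu3, bf_neg_left, bf_comm symm7, o1,
      neg_zero]
  have hu2 : bf mdl u u = 2 := bf_root hG7 symm7 diag7 (mdl.witness TypeE7.wit_ok) _
  have hCQ : ∀ m : ℕ, cartT mdl * P ^ m = A ^ m * cartT mdl := by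
    intro m
    induction m with
    | zero => simp
    | succ m ih =>
      rw [pow_succ, ← Matrix.mul_assoc, ih, Matrix.mul_assoc, hPdef, cartT_mul_Qw mdl hG7,
        ← Matrix.mul_assoc, ← pow_succ]
  have hP3 : P *ᵥ P *ᵥ P *ᵥ u = -u := by
    have e1 : (A ^ 3)ᵀ *ᵥ u = -u := by rw [Matrix.mulVec_transpose, hu3]
    have e2 : A ^ 3 * cartT mdl * (A ^ 3)ᵀ = cartT mdl := by
      rw [← Pg_pow hG7 hγ.1]
      exact Pg_invariant hG7 symm7 diag7 (pow_mem hγ.1 3)
    have e3 : (A ^ 3 * cartT mdl) *ᵥ u = -(cartT mdl *ᵥ u) := by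
      have h := congrArg (· *ᵥ u) e2
      simp only [← Matrix.mulVec_mulVec, e1, Matrix.mulVec_neg] at h
      rw [← Matrix.mulVec_mulVec]
      exact neg_eq_iff_eq_neg.1 h
    rw [← hCQ, ← Matrix.mulVec_mulVec, ← Matrix.mulVec_neg] at e3
    have e4 := congrArg (K *ᵥ ·) e3
    simp only [Matrix.mulVec_mulVec, K_cartT, ← Matrix.mul_assoc, Matrix.smul_mul, Matrix.one_mul,
      Matrix.smul_mulVec, Matrix.one_mulVec] at e4
    funext j
    have e5 := congrFun e4 j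
    simp only [Pi.smul_apply, smul_eq_mul] at e5
    have e6 : P *ᵥ P *ᵥ P *ᵥ u = P ^ 3 *ᵥ u := by
      rw [Matrix.mulVec_mulVec, Matrix.mulVec_mulVec, pow_succ, pow_two]
    rw [e6]
    omega
  set d := (q : ℤ) ^ 2 • u + (q : ℤ) • (P *ᵥ u) + P *ᵥ P *ᵥ u with hd
  set c : Fin mdl.tab.l → M := fun j => y ^ d j with hc
  have hcker : mpow B c = 1 := by
    rw [hc, mpow_zpow]
    funext j
    show y ^ (B *ᵥ d) j = 1
    rw [← orderOf_dvd_iff_zpow_eq_one, hy]
    have e : B *ᵥ d = ((q : ℤ) ^ 3 + 1) • u := by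
      rw [hB, Matrix.sub_mulVec, Matrix.smul_mulVec, Matrix.one_mulVec, hd, Matrix.mulVec_add,
        Matrix.mulVec_add, Matrix.mulVec_smul, Matrix.mulVec_smul, hP3]
      funext m
      simp only [Pi.sub_apply, Pi.add_apply, Pi.smul_apply, smul_eq_mul, Pi.neg_apply]
      ring
    rw [e, Pi.smul_apply, smul_eq_mul]
    exact dvd_mul_of_dvd_left (by exact_mod_cast ha) _
  let ck : (mpow (M := M) B).ker := ⟨c, hcker⟩
  have hpsi : pr u (mpow (cartT mdl) c) = y ^ (2 * q ^ 2) := by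
    suffices key : u ⬝ᵥ (cartT mdl *ᵥ d) = ((2 * q ^ 2 : ℕ) : ℤ) by
      rw [hc, mpow_zpow, pr_zpow, key, zpow_natCast]
    have hk : ∀ m : ℕ, u ⬝ᵥ (cartT mdl *ᵥ (P ^ m *ᵥ u)) = bf mdl (u ᵥ* A ^ m) u := fun m => by
      rw [Matrix.mulVec_mulVec, hCQ, Matrix.dotProduct_mulVec, bf, ← Matrix.vecMul_vecMul]
    have h0 := hk 0
    have h1 := hk 1
    have h2 := hk 2
    rw [pow_zero, Matrix.one_mulVec, pow_zero, Matrix.vecMul_one, hu2] at h0
    rw [pow_one, pow_one, o1] at h1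
    rw [pow_two, ← Matrix.mulVec_mulVec, o2] at h2
    rw [hd, Matrix.mulVec_add, Matrix.mulVec_add, Matrix.mulVec_smul, Matrix.mulVec_smul, dotProduct_add,
      dotProduct_add, dotProduct_smul, dotProduct_smul, h0, h1, h2]
    simp only [smul_eq_mul]
    push_cast
    ring
  have hord : 3 ^ a ∣ orderOf ck := by
    have h1 : c ^ orderOf ck = 1 := congrArg Subtype.val (pow_orderOf_eq_one ck)
    have h2 : (y ^ (2 * q ^ 2)) ^ orderOf ck = 1 := by
      rw [← hpsi, ← pr_pow, ← map_pow, h1, map_one]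
      simp [pr]
    rw [← pow_mul] at h2
    have h4 : Nat.Coprime (3 ^ a) (2 * q ^ 2) := by
      refine Nat.Coprime.pow_left _ (Nat.Coprime.mul_right (by norm_num) (Nat.Coprime.pow_right _ ?_))
      refine (Nat.prime_three.coprime_iff_not_dvd).2 fun hq3 => ?_
      have := Nat.dvd_sub h3 (dvd_pow hq3 (by norm_num : (3 : ℕ) ≠ 0))
      simp at this
    exact h4.dvd_of_dvd_mul_left (hy ▸ orderOf_dvd_of_pow_eq_one h2)
  have hckord : orderOf ck = 3 ^ a := by
    refine Nat.dvd_antisymm (orderOf_dvd_of_pow_eq_one (Subtype.ext (funext fun j => ?_))) hord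
    show (y ^ d j) ^ 3 ^ a = 1
    rw [← zpow_natCast, ← _root_.zpow_mul, mul_comm, _root_.zpow_mul, zpow_natCast, ← hy,
      pow_orderOf_eq_one, _root_.one_zpow]
  set Kp := (powMonoidHom 3 : (mpow (M := M) B).ker →* _).ker with hKp
  have hG3 : IsPGroup 3 Kp := fun x => ⟨1, Subtype.ext (by rw [pow_one]; exact x.2)⟩
  have hZ : IsPGroup 3 (Subgroup.zpowers ck) :=
    IsPGroup.of_card (n := a) (by rw [Nat.card_zpowers, hckord])
  have hsup := hG3.to_sup_of_normal_right hZ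
  obtain ⟨k, hk⟩ := IsPGroup.iff_card.1 hsup
  have hka : k ≤ a := by
    rw [← haN]
    exact (Nat.prime_three.pow_dvd_iff_le_factorization hN0).1
      (hk ▸ hcard ▸ Subgroup.card_subgroup_dvd_card _)
  have hle : Kp ≤ Subgroup.zpowers ck := by
    have heq := Subgroup.eq_of_le_of_card_ge (le_sup_right : Subgroup.zpowers ck ≤ Kp ⊔ Subgroup.zpowers ck)
      (by rw [hk, Nat.card_zpowers, hckord]; exact Nat.pow_le_pow_right (by norm_num) hka)
    rw [heq]
    exact le_sup_left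
  have h9 : Nat.card Kp ≤ Nat.card (powMonoidHom 3 : Subgroup.zpowers ck →* _).ker :=
    Nat.card_le_card_of_injective (fun x => ⟨⟨x.1, hle x.2⟩, Subtype.ext x.2⟩) fun x x' e =>
      Subtype.ext (congrArg (fun z => z.1.1) e)
  have h10 := IsCyclic.card_powMonoidHom_ker (G := Subgroup.zpowers ck) 3
  rw [h10] at h9
  exact h9.trans (Nat.le_of_dvd (by norm_num) (Nat.gcd_dvd_right _ _))

end cyclic

theorem ker_iff {l : ℕ} {M : Type*} [CommGroup M] (P : Matrix (Fin l) (Fin l) ℤ) (q : ℕ) (c : Fin l → M) :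
    mpow ((q : ℤ) • (1 : Matrix (Fin l) (Fin l) ℤ) - P) c = 1 ↔ mpow P c = c ^ q := by
  have e : mpow ((q : ℤ) • (1 : Matrix (Fin l) (Fin l) ℤ) - P) c = c ^ q * (mpow P c)⁻¹ := by
    funext j
    simp only [mpow_apply, Matrix.sub_apply, _root_.zpow_sub, Finset.prod_mul_distrib, Finset.prod_inv_distrib,
      Pi.mul_apply, Pi.inv_apply, Pi.pow_apply]
    congr 1
    rw [Finset.prod_eq_single j]
    · simp
    · intro m _ hm; simp [Matrix.one_apply_ne hm.symm]
    · simp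
  rw [e, mul_inv_eq_one]
  exact eq_comm

universe w

set_option maxRecDepth 20000 in
set_option maxHeartbeats 4000000 in
/-- A cyclic self-centralising subgroup of order `(q⁴ - q² + 1)(q³ + 1) / (2, q - 1)`. -/
theorem exists_torus {F₀ : Type w} [Field F₀] [Fintype F₀] {F : Type} [Field F] [Fintype F] {q r : ℕ}
    [Fact r.Prime] (hq : Fintype.card F₀ = q) (hrq : orderOf (q : ZMod r) = 12) (h13 : 12 < r)
    (hdiv : r ∣ q ^ 12 - 1) (hW : ¬ r ∣ Nat.card (weyl mdl)) (σ : F →+* F) (i : F₀ →+* F)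
    (hσ : ∀ b, σ b = b ^ q) (hi : ∀ b, σ b = b ↔ ∃ y, i y = b) (hQ : Fintype.card F = q ^ 12) :
    ∃ C : Subgroup ↥(chevE7.group F₀), IsCyclic C ∧
      Nat.card C = (q ^ 4 - q ^ 2 + 1) * (q ^ 3 + 1) / Nat.gcd 2 (q - 1) ∧
      Subgroup.centralizer (C : Set ↥(chevE7.group F₀)) = C := by
  classical
  have hr : r.Prime := Fact.out
  have hq2 : 2 ≤ q := hq ▸ Fintype.one_lt_card
  have hD : Stb.Cert chevE7 := Stb.certE7
  have hinj : Function.Injective (Stb.psi (K := F) hD) :=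
    Minu.psi_injective _ Minu.tableE7 Minu.weightE7 Minu.spanE7
  obtain ⟨g, v, k, hk, hn, ζ, bh, γ, hζ, hQc, hE, hγ, hcp, hγ2, hcp2, i₀, hi₀⟩ :=
    exists_switched hq hrq h13 hdiv hW σ i hσ hi hQ
  set N := (q ^ 4 - q ^ 2 + 1) * (q ^ 3 + 1) with hNdef
  set B := (q : ℤ) • (1 : Matrix (Fin mdl.tab.l) (Fin mdl.tab.l) ℤ) - Qw mdl v with hB
  have hcardM : Nat.card Fˣ = q ^ 12 - 1 := by
    rw [Nat.card_eq_fintype_card, Fintype.card_units, hQ]
  obtain ⟨hcyc, hcard⟩ := torus_cyclic (M := Fˣ) hq2 hE hγ2 hcp2 hi₀ hcardM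
  obtain ⟨c₁', hc₁'⟩ := hcyc.exists_generator
  set c₁ := (c₁' : Fin mdl.tab.l → Fˣ)
  have hc₁ : mpow (Qw mdl v) c₁ = c₁ ^ q := (ker_iff _ q c₁).1 c₁'.2
  have hgen : ∀ c, mpow (Qw mdl v) c = c ^ q → c ∈ Subgroup.zpowers c₁ := fun c hc => by
    obtain ⟨m, hm⟩ := Subgroup.mem_zpowers_iff.1 (hc₁' ⟨c, (ker_iff _ q c).2 hc⟩)
    exact ⟨m, congrArg Subtype.val hm⟩
  set t := Stb.th uGoodE7.toCommGood (psil mdl hD c₁) with ht
  have htH : t ∈ (rr mdl uGoodE7).H := th_psil_mem mdl hD uGoodE7 c₁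
  have hψ : psi mdl uGoodE7 ⟨t, htH⟩ = mpow (cartT mdl) c₁ := psi_th_psil mdl hD uGoodE7 c₁
  set ψ := mpow (cartT mdl) c₁ with hψdef
  set b := cartT mdl *ᵥ bh with hb
  -- vectors killed by the generator
  have hkill : ∀ e, pr e ψ = 1 → ∃ z, e ᵥ* cartT mdl = z ᵥ* B := by
    intro e he
    have hdetB : B.det.natAbs = N := by
      rw [hNdef, ← eval_f, ← hcp2, ← charpoly_Qw mdl hG7 (fun h => det_C7_ne
        ((congrArg Matrix.det cartT_eq').symm.trans h)) v, Matrix.eval_charpoly, hB,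
        Matrix.smul_one_eq_diagonal]
      rfl
    have hN0 : N ≠ 0 := Nat.mul_ne_zero (Nat.succ_ne_zero _) (Nat.succ_ne_zero _)
    refine exists_vecMul_of_kills (M := Fˣ) B (fun h => by rw [h] at hdetB; simp at hdetB)
      (by rw [hdetB, hcardM]; exact dvd_card q (by omega)) _ fun c hc => ?_
    obtain ⟨m, rfl⟩ := Subgroup.mem_zpowers_iff.1 (hgen c ((ker_iff _ q c).1 hc))
    rw [pr_zpow_left, ← pr_mpow, ← hψdef, he, _root_.one_zpow]
  have hkillb : ∀ e, pr e ψ = 1 → (r : ℤ) ∣ e ⬝ᵥ b := by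
    intro e he
    obtain ⟨m, hm⟩ := Subgroup.mem_zpowers_iff.1 (hgen _ hQc)
    rw [← hζ, orderOf_dvd_iff_zpow_eq_one, ← pr_zpow, hb, ← mpow_zpow, ← hm, map_zpow, pr_zpow_left,
      ← hψdef, he, _root_.one_zpow]
  have hchi : ∀ s, chi mdl t s = ((pr (cf mdl s) ψ : Fˣ) : F) := fun s => by
    rw [show t = (⟨t, htH⟩ : (rr mdl uGoodE7).H).1 from rfl, chi_cf mdl uGoodE7, hψ]
    rfl
  -- roots, twice roots and differences of orthogonal roots
  have hroot2 : ∀ s, bf mdl (cf mdl s) (cf mdl s) = 2 :=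
    bf_root hG7 symm7 diag7 (mdl.witness TypeE7.wit_ok)
  have hreg : ∀ s, pr (cf mdl s) ψ ≠ 1 := fun s he => by
    obtain ⟨z, hz⟩ := hkill _ he
    rcases not_short hq2 hcp2 hz with h | h
    · have := hroot2 s
      rw [h] at this
      simp [bf] at this
    · exact h.1 (hroot2 s)
  have hno8 : ∀ s, pr (cf mdl s) ψ ^ 2 ≠ 1 := fun s he => by
    by_cases hodd : 2 ∣ q
    · apply hreg s
      haveI : CharP F 2 := by
        have hn2 : 2 ∣ Fintype.card F := hQ ▸ dvd_pow hodd (by norm_num)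
        obtain ⟨p, hp⟩ := CharP.exists F
        haveI := hp
        have hpp : p.Prime := (CharP.char_is_prime_or_zero F p).resolve_right fun e => by
          subst e
          haveI := CharP.charP_to_charZero F
          exact not_finite F
        obtain ⟨m, -, hm⟩ := FiniteField.card F p
        rw [hm] at hn2
        rwa [(Nat.prime_dvd_prime_iff_eq Nat.prime_two hpp).1 (Nat.prime_two.dvd_of_dvd_pow hn2)]
      refine Units.ext ?_
      have h1 := congrArg Units.val he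
      rw [Units.val_pow_eq_pow_val, Units.val_one] at h1
      rw [Units.val_one]
      exact sq_eq_one_iff.1 h1 |>.elim id fun h => h.trans (CharTwo.neg_eq 1)
    · obtain ⟨z, hz⟩ := hkill ((2 : ℤ) • cf mdl s) (by
        rw [← he]
        simp only [pr, Pi.smul_apply, smul_eq_mul, ← Finset.prod_pow]
        exact Finset.prod_congr rfl fun j _ => by
          rw [← zpow_natCast, ← _root_.zpow_mul, mul_comm]; norm_num)
      have h8 : bf mdl ((2 : ℤ) • cf mdl s) ((2 : ℤ) • cf mdl s) = 8 := by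
        rw [bf_smul_left, bf_smul_right, hroot2]; norm_num
      rcases not_short hq2 hcp2 hz with h | h
      · rw [h] at h8
        simp [bf] at h8
      · exact h.2.2 hodd h8
  have hstab : ∀ w, (rr mdl uGoodE7).nw w * t * ((rr mdl uGoodE7).nw w)⁻¹ = t →
      ∀ s, mdl.S.actw w s = s := by
    intro w hw s
    set W := pw mdl w.reverse
    have hWm : W ∈ weyl mdl := prod_mem_weyl mdl _
    have h1 : mpow (Pg mdl W) ψ = ψ := by
      have h := psi_conj mdl uGoodE7 w ⟨t, htH⟩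
      rw [hψ] at h
      rw [← h, ← hψ]
      exact congrArg _ (Subtype.ext hw)
    have hfixψ : ∀ u, pr (cf mdl (W u) - cf mdl u) ψ = 1 := fun u => by
      rw [pr_sub, cf_perm hG7 hWm, ← pr_mpow, h1, mul_inv_cancel]
    have hst : W ∈ stab mdl b r := by
      refine ⟨hWm, fun u => ?_⟩
      have h2 := hkillb _ (hfixψ u)
      rwa [sub_dotProduct] at h2
    have hW1 : W = 1 := by
      refine eq_one_of_fix_zeros mdl hG7 fix7 (avg mdl b r) hWm (fun u => ev_avg_stab hG7 b r hst u)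
        fun u hu => ?_
      have hu0 : (r : ℤ) ∣ ev mdl b u := by
        have h2 := ev_avg_dvd hG7 b r u
        rw [hu, zero_sub, dvd_neg] at h2
        rcases Int.Prime.dvd_mul' hr h2 with h3 | h3
        · exact absurd ((Int.natCast_dvd_natCast.1 h3).trans (Subgroup.card_dvd_of_le (stab_le b r))) hW
        · exact h3
      have hu1 : (r : ℤ) ∣ ev mdl b (W u) := by
        have h2 := dvd_add (hst.2 u) hu0
        rwa [sub_add_cancel] at h2
      set x := cf mdl (W u)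
      set y := cf mdl u
      obtain ⟨n1, n2⟩ := hγ.no_pair hE hcp hu1 hu0
      have hxy : bf mdl (x - y) (x - y) = 4 - 2 * bf mdl x y := by
        rw [bf_sub_left, bf_sub_right, bf_sub_right, hroot2, hroot2, bf_comm symm7 y x]; ring
      have hxy' : bf mdl (x + y) (x + y) = 4 + 2 * bf mdl x y := by
        rw [show x + y = x - (-1 : ℤ) • y by simp, bf_sub_left, bf_sub_right, bf_sub_right,
          bf_smul_left, bf_smul_left, bf_smul_right, bf_smul_right, hroot2, hroot2, bf_comm symm7 y x]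
        ring
      have hpos1 := bf_nonneg (x - y)
      have hpos2 := bf_nonneg (x + y)
      rw [hxy] at hpos1
      rw [hxy'] at hpos2
      have n1' : bf mdl x y ≠ 1 := n1
      have n2' : bf mdl x y ≠ -1 := n2
      rcases (show bf mdl x y = 2 ∨ bf mdl x y = -2 ∨ bf mdl x y = 0 by omega) with h2 | h2 | h2
      · exact cf_inj (sub_eq_zero.1 (bf_eq_zero (by rw [hxy, h2]; norm_num)))
      · exfalso
        apply hno8 u
        have h3 : x = -y := eq_neg_of_add_eq_zero_left (bf_eq_zero (by rw [hxy', h2]; norm_num))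
        have h4 := hfixψ u
        rw [show cf mdl (W u) - cf mdl u = -((2 : ℤ) • y) by
          show x - y = _
          rw [h3]; module] at h4
        simp only [pr, Pi.neg_apply, Pi.smul_apply, smul_eq_mul, _root_.zpow_neg, Finset.prod_inv_distrib,
          inv_eq_one] at h4
        rw [← h4]
        show pr y ψ ^ 2 = _
        simp only [pr, ← Finset.prod_pow]
        exact Finset.prod_congr rfl fun j _ => by
          rw [← zpow_natCast, ← _root_.zpow_mul, mul_comm]; norm_num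
      · exfalso
        obtain ⟨z, hz⟩ := hkill _ (hfixψ u)
        have h4 : bf mdl (x - y) (x - y) = 4 := by rw [hxy, h2]; norm_num
        rcases not_short hq2 hcp2 hz with h | h
        · change x - y = 0 at h
          rw [h] at h4
          simp [bf] at h4
        · exact h.2.1 h4
    have h5 : mdl.S.actw w.reverse s = s := by
      rw [← pw_apply]
      show W s = s
      rw [hW1]; rfl
    have h6 := mdl.S.actw_reverse w s
    rwa [h5] at h6
  obtain ⟨C, hC1, hC2, hC3⟩ := exists_centralizer_of_twist mdl uGoodE7 TypeE7.wit_ok TypeE7.longest_ok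
    TypeE7.pos_span hD hinj σ i hσ hi g v hk hn c₁ hc₁ hgen
    (fun y hy => mem_H_of_commute mdl uGoodE7 TypeE7.longest_ok TypeE7.pos_span TypeE7.wit_ok htH
      (fun s e => hreg s (Units.val_eq_one.1 ((hchi s).symm.trans e))) hstab hy)
  refine ⟨C, hC1, hC2.trans ?_, hC3⟩
  rw [← ht]
  -- the order of the image
  let Z := (mpow (M := Fˣ) B).ker
  let f : Z →* ↥(chevE7.group F) :=
    ((Stb.th uGoodE7.toCommGood).comp (psil mdl hD)).comp Z.subtype
  have hrange : f.range = Subgroup.zpowers t := by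
    apply le_antisymm
    · rintro _ ⟨c, rfl⟩
      obtain ⟨m, hm⟩ := Subgroup.mem_zpowers_iff.1 (hc₁' c)
      exact ⟨m, by rw [← hm, map_zpow]; rfl⟩
    · rw [Subgroup.zpowers_le]
      exact ⟨c₁', rfl⟩
  have hker : Nat.card f.ker = Nat.gcd 2 (q - 1) := by
    let e : f.ker ≃ {c : Fin mdl.tab.l → Fˣ // mpow (cartT mdl) c = 1 ∧ c ^ (q - 1) = 1} :=
      { toFun := fun c => ⟨(c.1.1 : Fin mdl.tab.l → Fˣ), by
          have h1 : mpow (cartT mdl) c.1.1 = 1 := by
            rw [← psi_th_psil mdl hD uGoodE7, ← map_one (psi (F := F) mdl uGoodE7)]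
            exact congrArg _ (Subtype.ext c.2)
          refine ⟨h1, ?_⟩
          have h2 := (ker_iff _ q c.1.1).1 c.1.2
          rw [mpow_Qw_of_ker mdl h1] at h2
          have h3 : c.1.1 ^ (q - 1) * c.1.1 = 1 * c.1.1 := by
            rw [← pow_succ, Nat.sub_add_cancel (by omega), ← h2, one_mul]
          exact mul_right_cancel h3⟩
        invFun := fun c => ⟨⟨c.1, (ker_iff _ q c.1).2 (by
            rw [mpow_Qw_of_ker mdl c.2.1]
            have h5 : c.1 ^ q = c.1 ^ (q - 1) * c.1 := by rw [← pow_succ, Nat.sub_add_cancel (by omega)]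
            rw [h5, c.2.2, one_mul])⟩, by
          show Stb.th uGoodE7.toCommGood (psil mdl hD c.1) = 1
          have h1 : (⟨_, th_psil_mem mdl hD uGoodE7 c.1⟩ : (rr (F := F) mdl uGoodE7).H) = 1 :=
            psi_injective mdl uGoodE7 (by rw [psi_th_psil, c.2.1, map_one])
          exact congrArg Subtype.val h1⟩
        left_inv := fun c => rfl
        right_inv := fun c => rfl }
    rw [Nat.card_congr e, card_tors]
    let Mq : Subgroup Fˣ := (powMonoidHom (q - 1)).ker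
    have hMq : Nat.card Mq = q - 1 := by
      rw [IsCyclic.card_powMonoidHom_ker, hcardM]
      exact Nat.gcd_eq_right (by simpa using Nat.sub_dvd_pow_sub_pow q 1 12)
    have hsm := card_ker_mpow (M := Mq) (A := C7)
      (U := (!![-1, 0, 0, 0, 0, 0, 0; 0, -1, 0, 0, 0, 0, 0; 1, -2, 0, -1, 0, 0, 0; 2, -3, 0, -2, -1, 0, 0; 3, -4, 0, -3, -2, -1, 0; -2, 1, -1, 0, 0, 0, 0; -4, -1, -4, -4, -3, -2, -1] : Matrix (Fin 7) (Fin 7) ℤ))
      (U' := (!![-1, 0, 0, 0, 0, 0, 0; 0, -1, 0, 0, 0, 0, 0; 2, -1, 0, 0, 0, -1, 0; -1, 2, -1, 0, 0, 0, 0; 0, -1, 2, -1, 0, 0, 0; 0, 0, -1, 2, -1, 0, 0; 0, 0, 0, -1, 2, 4, -1] : Matrix (Fin 7) (Fin 7) ℤ))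
      (V := (!![0, 0, 0, 0, 0, 1, -2; 0, 0, 0, 0, 0, 2, -3; 1, 0, 0, 0, 0, 2, -4; 0, 1, 0, 0, 0, 4, -6; 0, 0, 1, 0, 0, 4, -5; 0, 0, 0, 1, 0, 4, -4; 0, 0, 0, 0, 1, 4, -3] : Matrix (Fin 7) (Fin 7) ℤ))
      (V' := (!![-2, 0, 1, 0, 0, 0, 0; 0, -2, 0, 1, 0, 0, 0; 2, -3, 0, 0, 1, 0, 0; 4, -4, 0, 0, 0, 1, 0; 6, -5, 0, 0, 0, 0, 1; -3, 2, 0, 0, 0, 0, 0; -2, 1, 0, 0, 0, 0, 0] : Matrix (Fin 7) (Fin 7) ℤ))
      (d := ![1, 1, 1, 1, 1, 1, 2]) (by decide +kernel) (by decide +kernel) (by decide +kernel) (by decide +kernel)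
    rw [hMq] at hsm
    refine Eq.trans ?_ (hsm.trans ?_)
    swap
    · simp [Fin.prod_univ_succ, Nat.gcd_comm]
    exact congrArg (fun A : Matrix (Fin 7) (Fin 7) ℤ => Nat.card (mpow (M := Mq) A).ker) cartT_eq'
  have h := Subgroup.card_mul_index f.ker
  rw [Subgroup.index_ker, hrange, Nat.card_zpowers, hker, hcard] at h
  rw [hNdef, ← h, Nat.mul_div_cancel_left _ (Nat.gcd_pos_of_pos_left _ two_pos)]

end Cfsg.Agent.ChevTori.E7Tor
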