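import Cfsg.Agent.ChevTori.SylowMain
import Cfsg.Agent.ChevTori.StTorus

/-!
Twisted tori read through Steinberg's group: fixed points that lift to fixed points come from the smaller
field, and a torus containing an element whose centraliser is the split torus gives a self-centralising
cyclic subgroup.
-/

set_option autoImplicit false

namespace Cfsg.Agent.ChevTori

open Cfsg.Lie Cfsg.Agent.ChevGroup Cfsg.Agent.ChevCore Cfsg.Agent.ChevFixed Matrix

universe u

variable {D : ChevalleyDatum} (T : Model D) (hU : UGood D)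

theorem stMap_fixed_of_comp {K₀ K : Type*} [Field K₀] [Field K] (σ : K →+* K) (i : K₀ →+* K)
    (hσi : σ.comp i = i) (g : D.SteinbergGroup K₀) : stMap σ (stMap i g) = stMap i g := by
  have h : (stMap σ).comp (stMap (D := D) i) = stMap i := by
    refine PresentedGroup.ext fun p => ?_
    obtain ⟨⟨r, hr⟩, t⟩ := p
    have he : (PresentedGroup.of (rels := D.steinbergRels K₀) (⟨r, hr⟩, t)) = Stb.xb D K₀ r t := by
      simp [PresentedGroup.of, Stb.xb, ChevalleyDatum.stGen, ChevalleyDatum.stX, hr]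
    rw [he, MonoidHom.comp_apply, stMap_xb, stMap_xb, ← RingHom.comp_apply, hσi]
  exact DFunLike.congr_fun h g

variable {wit : List (List (Fin T.tab.l) × Fin T.tab.l)} (hwit : T.witB wit = true)
  {w₀ : List (Fin T.tab.l)} (hlong : T.longestB w₀ = true)
  (hspan : Mat.spanB D (T.posList.map Fin.val) = true) (hD : Stb.Cert D)
  {F₀ : Type u} [Field F₀] {F : Type} [Field F] [Fintype F]

include hwit hlong hspan in
/-- A fixed point of Steinberg's group maps into the group over the smaller field. -/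
theorem range_mapGroup_of_lift_fixed (hinj : Function.Injective (Stb.psi (K := F) hD)) (σ : F →+* F)
    (i : F₀ →+* F) (hi : ∀ b, σ b = b ↔ ∃ y, i y = b) {s : D.SteinbergGroup F} (hs : stMap σ s = s) :
    ∃ y, mapGroup i y = Stb.th hU.toCommGood s := by
  classical
  have hC := hU.toCommGood
  set K := relsOfCommGood hU.toCommGood F
  set R := rr (F := F) T hU
  have hσi : σ.comp i = i := RingHom.ext fun a => (hi _).2 ⟨a, rfl⟩
  have hτ : ∀ a b, mapGroup σ (R.x a b) = R.x a (σ b) := mapGroup_x T K σ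
  set g := Stb.th hC s with hgdef
  have hg : mapGroup σ g = g := by rw [hgdef, ← th_stMap hC σ s, hs]
  have hred : T.S.Red w₀ := red_of_suffix T.S w₀ fun v i u he => by
    have h := hlong
    simp only [Model.longestB, Bool.and_eq_true, List.all_eq_true, List.mem_range] at h
    have := h.1 v.length (by rw [he]; simp)
    rw [he, List.drop_left] at this
    simpa using this
  have hT : ∀ r t, T.S.pos r → (T.shapeR K).Pres T.S.pos (R.x r t) := fun r t hr =>
    T.pres_posList K hspan r t hr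
  have hle : fixGen R σ ≤ (mapGroup (D := D) i).range := by
    refine (Subgroup.closure_le _).2 ?_
    rintro _ ⟨a, b, hb, rfl⟩
    obtain ⟨y, rfl⟩ := (hi b).1 hb
    obtain ⟨z, hz⟩ : ∃ z : ↥(D.group F₀), z = Stb.th hC (Stb.xb D F₀ a.val y) := ⟨_, rfl⟩
    refine ⟨z, ?_⟩
    rw [hz, ← th_stMap, stMap_xb]
    exact Stb.th_x T hD hC a (i y)
  -- write `g` as a fixed generated element times a fixed diagonal element
  obtain ⟨b, hb, v, hv, b', hb', hgb⟩ := R.exists_bruhat (g := g)
    ((T.group_top K hwit).symm ▸ Subgroup.mem_top g)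
  obtain ⟨u₀, hu₀, he⟩ := exists_fixed_rep (T.shapeR K) hτ hT v hv g
    (mem_cell.2 ⟨b, hb, QuotientGroup.eq.2 (by
      show (b * R.nw v)⁻¹ * g ∈ R.B
      rw [hgb, inv_mul_cancel_left]
      exact hb')⟩) (by rw [hg])
  set g₀ := u₀ * R.nw v with hg₀
  have hg₀m : g₀ ∈ fixGen R σ := mul_mem (fixU_le_fixGen σ v hu₀) (nw_mem_fixGen σ v)
  obtain ⟨u, hu, h, hh, huh⟩ := R.mem_B_iff.1 (QuotientGroup.eq.1 he.symm)
  have hfb : mapGroup σ (g₀⁻¹ * g) = g₀⁻¹ * g := by
    rw [map_mul, map_inv, map_fixGen hτ hg₀m, hg]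
  rw [← huh, map_mul] at hfb
  have e1 : u⁻¹ * mapGroup σ u = h * (mapGroup σ h)⁻¹ := by
    rw [eq_mul_inv_iff_mul_eq, mul_assoc, hfb, inv_mul_cancel_left]
  have e2 := (T.shapeR K).U_inter_H (mul_mem (inv_mem hu) (map_U hτ hu))
    (e1 ▸ mul_mem hh (inv_mem (map_H hτ hh)))
  have e3 := (inv_mul_eq_one.1 e2).symm
  have ha : g₀ * u ∈ fixGen R σ :=
    mul_mem hg₀m (U_fixed (T.shapeR K) hτ hT hred (fun a ha => T.longest_neg hlong a ha) hu e3)
  -- the diagonal factor lifts to a fixed point of the torus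
  obtain ⟨y₁, hy₁⟩ := hle ha
  obtain ⟨z, hz⟩ := Stb.th_surjective (K := F₀) hC y₁
  set s' := (stMap (D := D) i z)⁻¹ * s with hs'def
  have hs' : stMap σ s' = s' := by rw [map_mul, map_inv, hs, stMap_fixed_of_comp σ i hσi]
  have hths' : Stb.th hC s' = h := by
    rw [map_mul, map_inv, th_stMap, hz, hy₁, ← hgdef, _root_.mul_inv_rev, mul_assoc, ← huh,
      inv_mul_cancel_left]
  obtain ⟨c, hc⟩ := exists_psil T hD hU hwit (s := s') (hths' ▸ hh)
  have hfix : ∀ j, σ (c j : F) = c j := fun j => by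
    have h1 := hs'
    rw [hc, stMap_psil] at h1
    exact congrArg Units.val (congrFun (psil_injective T hD hinj h1) j)
  choose y hy using fun j => (hi _).1 (hfix j)
  let c₀ : Fin T.tab.l → F₀ˣ := fun j => Units.mk0 (y j) (by
    intro e
    have := hy j
    rw [e, map_zero] at this
    exact (c j).ne_zero this.symm)
  have hcc : (fun j => Units.map (i : F₀ →* F) (c₀ j)) = c := funext fun j => Units.ext (hy j)
  refine ⟨y₁ * Stb.th hC (psil T hD c₀), ?_⟩
  rw [map_mul, hy₁, ← th_stMap, stMap_psil, hcc, ← hc, hths', mul_assoc, huh, mul_inv_cancel_left]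

include hU hwit hlong hspan in
/-- A self-centralising cyclic subgroup from a cyclic twisted torus with an element whose centraliser is
the split torus. -/
theorem exists_centralizer_of_twist (hinj : Function.Injective (Stb.psi (K := F) hD)) (σ : F →+* F)
    (i : F₀ →+* F) {q : ℕ} (hσ : ∀ b, σ b = b ^ q) (hi : ∀ b, σ b = b ↔ ∃ y, i y = b)
    (g : ↥(D.group F)) (v : List (Fin T.tab.l)) {k : ↥(D.group F)} (hk : k ∈ (rr T hU).H)
    (hn : mapGroup σ g * g⁻¹ = (rr T hU).nw v * k) (c₁ : Fin T.tab.l → Fˣ)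
    (hc₁ : mpow (Qw T v) c₁ = c₁ ^ q)
    (hgen : ∀ c, mpow (Qw T v) c = c ^ q → c ∈ Subgroup.zpowers c₁)
    (hcent : ∀ t, t * Stb.th hU.toCommGood (psil T hD c₁) = Stb.th hU.toCommGood (psil T hD c₁) * t →
      t ∈ (rr T hU).H) :
    ∃ C : Subgroup ↥(D.group F₀), IsCyclic C ∧
      Nat.card C = orderOf (Stb.th hU.toCommGood (psil T hD c₁)) ∧
      Subgroup.centralizer (C : Set ↥(D.group F₀)) = C := by
  classical
  have hC := hU.toCommGood
  set R := rr (F := F) T hU
  set ι := mapGroup (D := D) i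
  have hσi : σ.comp i = i := RingHom.ext fun a => (hi _).2 ⟨a, rfl⟩
  have hσu : ∀ c : Fin T.tab.l → Fˣ, (fun j => Units.map (σ : F →* F) (c j)) = c ^ q := fun c =>
    funext fun j => Units.ext (by rw [Pi.pow_apply, Units.val_pow_eq_pow_val]; exact hσ _)
  obtain ⟨gh, hgh⟩ := Stb.th_surjective (K := F) hC g
  have hthnw : Stb.th hC ((Stb.rel T hD).nw v) = R.nw v := Stb.th_nw T hD hC v
  set nh := stMap σ gh * gh⁻¹ with hnh
  have hthn : Stb.th hC nh = R.nw v * k := by rw [map_mul, map_inv, th_stMap, hgh, hn]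
  obtain ⟨e, he⟩ := exists_psil T hD hU hwit (s := nh * ((Stb.rel T hD).nw v)⁻¹) (by
    rw [map_mul, map_inv, hthn, hthnw]
    exact nw_conj_mem_H _ v hk)
  have hconj : ∀ c, nh * psil T hD c * nh⁻¹ = psil T hD (mpow (Qw T v) c) := by
    intro c
    rw [show nh = psil T hD e * (Stb.rel T hD).nw v by rw [← he, inv_mul_cancel_right],
      show psil T hD e * (Stb.rel T hD).nw v * psil T hD c * (psil T hD e * (Stb.rel T hD).nw v)⁻¹ =
        psil T hD e * ((Stb.rel T hD).nw v * psil T hD c * ((Stb.rel T hD).nw v)⁻¹) *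
          (psil T hD e)⁻¹ by group, nw_conj_psil, ← map_mul, ← map_inv, ← map_mul,
      mul_comm e, mul_inv_cancel_right]
  set t₁ := Stb.th hC (psil T hD c₁) with ht₁
  have hlift : ∀ c, mpow (Qw T v) c = c ^ q →
      ∃ y, ι y = g⁻¹ * Stb.th hC (psil T hD c) * g := by
    intro c hc
    obtain ⟨y, hy⟩ := range_mapGroup_of_lift_fixed T hU hwit hlong hspan hD hinj σ i hi
      (s := gh⁻¹ * psil T hD c * gh) (by
        rw [map_mul, map_mul, map_inv, stMap_psil, hσu, ← hc, ← hconj, hnh]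
        group)
    exact ⟨y, hy.trans (by rw [map_mul, map_mul, map_inv, hgh])⟩
  obtain ⟨x, hx⟩ := hlift c₁ hc₁
  set C := Subgroup.centralizer ({x} : Set ↥(D.group F₀)) with hCdef
  let φ : C →* ↥(D.group F) := ((MulAut.conj g).toMonoidHom.comp ι).comp C.subtype
  have hφinj : Function.Injective φ :=
    ((MulAut.conj g).injective.comp (mapGroup_injective i)).comp Subtype.coe_injective
  have hφ : ∀ y : C, φ y = g * ι y.1 * g⁻¹ := fun y => rfl
  have hrange : φ.range = Subgroup.zpowers t₁ := by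
    apply le_antisymm
    · rintro _ ⟨y, rfl⟩
      have hH : φ y ∈ R.H := hcent _ (by
        have h1 : y.1 * x = x * y.1 := Subgroup.mem_centralizer_singleton_iff.1 y.2
        have h2 : t₁ = g * ι x * g⁻¹ := by rw [hx, ← ht₁]; group
        rw [h2, hφ]
        calc g * ι y.1 * g⁻¹ * (g * ι x * g⁻¹) = g * ι (y.1 * x) * g⁻¹ := by rw [map_mul]; group
          _ = _ := by rw [h1, map_mul]; group)
      obtain ⟨y₀, hy₀⟩ := Stb.th_surjective (K := F₀) hC y.1
      set s₀ := stMap (D := D) i y₀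
      have hths : Stb.th hC (gh * s₀ * gh⁻¹) = φ y := by
        rw [map_mul, map_mul, map_inv, hgh, th_stMap, hy₀]
        rfl
      obtain ⟨c, hc⟩ := exists_psil T hD hU hwit (s := gh * s₀ * gh⁻¹) (by rw [hths]; exact hH)
      have h1 : stMap σ (psil T hD c) = psil T hD (mpow (Qw T v) c) := by
        rw [← hconj, ← hc, map_mul, map_mul, map_inv, show stMap σ s₀ = s₀ from stMap_fixed_of_comp σ i hσi y₀, hnh]
        group
      rw [stMap_psil, hσu] at h1
      obtain ⟨m, hm⟩ := Subgroup.mem_zpowers_iff.1 (hgen c (psil_injective T hD hinj h1).symm)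
      exact ⟨m, by rw [← hths, hc, ← hm, map_zpow, map_zpow]⟩
    · rw [Subgroup.zpowers_le]
      refine ⟨⟨x, Subgroup.mem_centralizer_singleton_iff.2 rfl⟩, ?_⟩
      rw [hφ]
      show g * ι x * g⁻¹ = t₁
      rw [hx, ← ht₁]; group
  let e₁ : C ≃* Subgroup.zpowers t₁ := (MonoidHom.ofInjective hφinj).trans (MulEquiv.subgroupCongr hrange)
  haveI : IsCyclic C := isCyclic_of_surjective e₁.symm e₁.symm.surjective
  refine ⟨C, inferInstance, (Nat.card_congr e₁.toEquiv).trans (Nat.card_zpowers t₁), ?_⟩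
  apply le_antisymm
  · intro z hz
    rw [hCdef, Subgroup.mem_centralizer_singleton_iff]
    exact (Subgroup.mem_centralizer_iff.1 hz x (Subgroup.mem_centralizer_singleton_iff.2 rfl)).symm
  · intro z hz
    rw [Subgroup.mem_centralizer_iff]
    intro w hw
    letI : CommGroup C := IsCyclic.commGroup
    exact congrArg Subtype.val (mul_comm (⟨w, hw⟩ : C) ⟨z, hz⟩)

end Cfsg.Agent.ChevTori
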