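import Cfsg.Agent.ChevTori.CharpolyE7
import Cfsg.Agent.ChevTori.InvPair

/-!
The roots vanishing on an eigenvector of order 12 modulo a prime, for type E7: they are pairwise orthogonal
and the Weyl element permutes the orthogonal orbit of each cyclically.
-/

set_option autoImplicit false

namespace Cfsg.Agent.ChevTori.E7Tor

open Cfsg.Lie Cfsg.Agent.ChevGroup Polynomial Matrix

/-- An eigenvector modulo `r` for an eigenvalue of order 12. -/
structure Eig (r q : ℕ) (b : Fin mdl.tab.l → ℤ) : Prop where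
  hrq : orderOf (q : ZMod r) = 12
  hW : ¬ r ∣ Nat.card (weyl mdl)
  hb : ∃ j, ¬ (r : ℤ) ∣ b j

/-- A Weyl element with that eigenvector. -/
def IsEig (r q : ℕ) (b : Fin mdl.tab.l → ℤ) (γ : Equiv.Perm (Fin mdl.tab.n)) : Prop :=
  γ ∈ weyl mdl ∧ ∀ j, (r : ℤ) ∣ (Pg mdl γ *ᵥ b) j - (q : ℤ) * b j

variable {r q : ℕ} [hr : Fact r.Prime] {b : Fin mdl.tab.l → ℤ} (hE : Eig r q b)

theorem cast_mulVec (B : Matrix (Fin mdl.tab.l) (Fin mdl.tab.l) ℤ) (c : Fin mdl.tab.l → ℤ) :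
    B.map (Int.cast : ℤ → ZMod r) *ᵥ (fun j => (c j : ZMod r)) = fun j => ((B *ᵥ c) j : ZMod r) := by
  funext j
  simp [Matrix.mulVec, dotProduct]

theorem IsEig.cast {γ : Equiv.Perm (Fin mdl.tab.n)} (h : IsEig r q b γ) :
    (Pg mdl γ).map (Int.cast : ℤ → ZMod r) *ᵥ (fun j => (b j : ZMod r)) =
      (q : ZMod r) • fun j => (b j : ZMod r) := by
  rw [cast_mulVec]
  funext j
  have h1 := (ZMod.intCast_zmod_eq_zero_iff_dvd _ r).2 (h.2 j)
  rw [Int.cast_sub, sub_eq_zero, Int.cast_mul, Int.cast_natCast] at h1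
  rw [h1]
  rfl

theorem IsEig.dvd_ev {γ : Equiv.Perm (Fin mdl.tab.n)} (h : IsEig r q b γ) (s : Fin mdl.tab.n) :
    (r : ℤ) ∣ ev mdl b (γ s) - (q : ℤ) * ev mdl b s := by
  rw [ev_weyl' hG7 h.1, ev, Finset.mul_sum, dotProduct, ← Finset.sum_sub_distrib]
  refine Finset.dvd_sum fun j _ => ?_
  have e := dvd_mul_of_dvd_right (h.2 j) (cf mdl s j)
  rwa [mul_sub, mul_left_comm] at e

theorem IsEig.zero_perm {γ : Equiv.Perm (Fin mdl.tab.n)} (h : IsEig r q b γ) {s : Fin mdl.tab.n}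
    (hs : (r : ℤ) ∣ ev mdl b s) : (r : ℤ) ∣ ev mdl b (γ s) := by
  have h1 := dvd_add (h.dvd_ev s) (dvd_mul_of_dvd_right hs (q : ℤ))
  rwa [sub_add_cancel] at h1

include hE

theorem IsEig.cases {γ : Equiv.Perm (Fin mdl.tab.n)} (h : IsEig r q b γ) :
    (Pg mdl γ).charpoly = cyclotomic 12 ℤ * (X ^ 3 - 1) ∨
      (Pg mdl γ).charpoly = cyclotomic 12 ℤ * (X ^ 3 + 1) := by
  obtain ⟨j, hj⟩ := hE.hb
  refine charpoly_cases h.1 (cyclotomic_dvd_charpoly (M := orderOf γ) ?_ ?_ hE.hrq ?_ h.cast)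
  · rw [← Pg_pow hG7 h.1, pow_orderOf_eq_one, Pg_one hG7]
  · exact fun hd => hE.hW (hd.trans (by
      rw [← Subgroup.orderOf_mk γ h.1]
      exact orderOf_dvd_natCard _))
  · exact fun e => hj ((ZMod.intCast_zmod_eq_zero_iff_dvd _ r).1 (congrFun e j))

theorem IsEig.trace_eq_zero {γ : Equiv.Perm (Fin mdl.tab.n)} (h : IsEig r q b γ) :
    (Pg mdl γ).trace = 0 := by
  haveI : Nonempty (Fin mdl.tab.l) := ⟨(0 : Fin 7)⟩
  rw [Matrix.trace_eq_neg_charpoly_coeff, Fintype.card_fin, show mdl.tab.l - 1 = 6 from rfl]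
  rcases h.cases hE with e | e <;> rw [e, cyclotomic_twelve]
  · rw [show ((X : ℤ[X]) ^ 4 - X ^ 2 + 1) * (X ^ 3 - 1) =
      X ^ 7 - X ^ 5 + X ^ 3 - X ^ 4 + X ^ 2 - 1 by ring]
    simp [coeff_X_pow, coeff_one]
  · rw [show ((X : ℤ[X]) ^ 4 - X ^ 2 + 1) * (X ^ 3 + 1) =
      X ^ 7 - X ^ 5 + X ^ 3 + X ^ 4 - X ^ 2 + 1 by ring]
    simp [coeff_X_pow, coeff_one]

omit hE in
/-- Composing with the reflection of a vanishing root. -/
theorem IsEig.exists_switch {γ : Equiv.Perm (Fin mdl.tab.n)} (h : IsEig r q b γ) {t : Fin mdl.tab.n}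
    (ht : (r : ℤ) ∣ ev mdl b t) :
    ∃ δ : Equiv.Perm (Fin mdl.tab.n), IsEig r q b δ ∧
      Pg mdl δ = (1 - Matrix.vecMulVec (cartT mdl *ᵥ cf mdl t) (cf mdl t)) * Pg mdl γ ∧
      (Pg mdl δ).det = -(Pg mdl γ).det := by
  obtain ⟨ρ, hρ, hPρ, hdet⟩ := exists_reflection hG7 symm7 diag7 (mdl.witness TypeE7.wit_ok) t
  have e : Pg mdl (γ * ρ) = Pg mdl ρ * Pg mdl γ := Pg_mul hG7 h.1
  refine ⟨γ * ρ, ⟨mul_mem h.1 hρ, fun j => ?_⟩, by rw [e, hPρ], by rw [e, Matrix.det_mul, hdet, neg_one_mul]⟩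
  have e2 : (Pg mdl (γ * ρ) *ᵥ b) j - (q : ℤ) * b j =
      ((Pg mdl γ *ᵥ b) j - (q : ℤ) * b j) -
        (cartT mdl *ᵥ cf mdl t) j * (cf mdl t ⬝ᵥ (Pg mdl γ *ᵥ b)) := by
    rw [e, ← Matrix.mulVec_mulVec, hPρ, Matrix.sub_mulVec, Matrix.one_mulVec, Matrix.vecMulVec_mulVec,
      Pi.sub_apply, Pi.smul_apply]
    simp only [MulOpposite.smul_eq_mul_unop, MulOpposite.unop_op]
    ring
  rw [e2]
  refine dvd_sub (h.2 j) (dvd_mul_of_dvd_right ?_ _)
  rw [← ev_weyl' hG7 h.1]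
  exact h.zero_perm ht

theorem IsEig.orth {γ : Equiv.Perm (Fin mdl.tab.n)} (h : IsEig r q b γ) {t : Fin mdl.tab.n}
    (ht : (r : ℤ) ∣ ev mdl b t) : bf mdl (cf mdl t ᵥ* Pg mdl γ) (cf mdl t) = 0 := by
  obtain ⟨δ, hδ, hP, -⟩ := h.exists_switch ht
  have h1 := hδ.trace_eq_zero hE
  rw [hP, Matrix.sub_mul, Matrix.one_mul, Matrix.trace_sub, h.trace_eq_zero hE, zero_sub, neg_eq_zero,
    Matrix.vecMulVec_mul, Matrix.trace_vecMulVec] at h1
  rw [bf, ← Matrix.dotProduct_mulVec, dotProduct_comm, h1]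

/-- A vanishing root is killed by the cubic factor. -/
theorem IsEig.cube {γ : Equiv.Perm (Fin mdl.tab.n)} (h : IsEig r q b γ) {s : Fin mdl.tab.n}
    (hs : (r : ℤ) ∣ ev mdl b s) {ε : ℤ} (hε : ε = 1 ∨ ε = -1)
    (hcp : (Pg mdl γ).charpoly = cyclotomic 12 ℤ * (X ^ 3 - C ε)) :
    cf mdl s ᵥ* Pg mdl γ ^ 3 = ε • cf mdl s := by
  classical
  set A := Pg mdl γ with hA
  set u := cf mdl s
  have hwit := mdl.witness TypeE7.wit_ok
  have horb : ∀ i : ℕ, u ⬝ᵥ ((A ^ i) *ᵥ avg mdl b r) = 0 := by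
    intro i
    rw [hA, ← Pg_pow hG7 h.1 i, ← ev_weyl' hG7 (pow_mem h.1 i)]
    refine ev_avg_eq_zero hG7 hwit ?_
    induction i with
    | zero => simpa using hs
    | succ i ih => rw [pow_succ', Equiv.Perm.mul_apply]; exact h.zero_perm ih
  have hpoly : ∀ g : ℤ[X], u ⬝ᵥ (aeval A g *ᵥ avg mdl b r) = 0 := by
    intro g
    induction g using Polynomial.induction_on' with
    | add g g' hg hg' => rw [map_add, Matrix.add_mulVec, dotProduct_add, hg, hg', add_zero]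
    | monomial n c =>
      rw [aeval_monomial, ← Algebra.smul_def, Matrix.smul_mulVec, dotProduct_smul, horb n, smul_zero]
  set f : ℤ[X] := X ^ 3 - C ε with hf
  set a := aeval A f *ᵥ avg mdl b r with ha
  have hka : aeval A (cyclotomic 12 ℤ) *ᵥ a = 0 := by
    rw [ha, Matrix.mulVec_mulVec, ← map_mul, ← hcp, hA, Matrix.aeval_self_charpoly, Matrix.zero_mulVec]
  have ha0 : a ≠ 0 := by
    intro e
    obtain ⟨j, hj⟩ := hE.hb
    set bZ : Fin mdl.tab.l → ZMod r := fun k => (b k : ZMod r) with hbZ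
    set N : ZMod r := (Nat.card (stab mdl b r) : ZMod r)
    have havg : (fun k => (avg mdl b r k : ZMod r)) = N • bZ := by
      funext k
      have h1 := (ZMod.intCast_zmod_eq_zero_iff_dvd _ r).2 (ev_avg_dvd hG7 b r (mdl.S.simple k))
      rw [Int.cast_sub, sub_eq_zero, Int.cast_mul, Int.cast_natCast, ev_simple hG7, ev_simple hG7] at h1
      rw [h1]
      rfl
    have h1 := aeval_mulVec_eigen h.cast (f.map (Int.castRingHom (ZMod r)))
    have h2 : aeval ((Pg mdl γ).map (Int.cast : ℤ → ZMod r)) (f.map (Int.castRingHom (ZMod r))) =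
        (Int.castRingHom (ZMod r)).mapMatrix (aeval A f) := by
      rw [hA, show (Pg mdl γ).map (Int.cast : ℤ → ZMod r) =
        (Int.castRingHom (ZMod r)).mapMatrix (Pg mdl γ) from rfl, aeval_def, eval₂_map, aeval_def]
      conv_rhs => rw [Polynomial.hom_eval₂]
      congr 1
      exact RingHom.ext_int _ _
    rw [h2] at h1
    have h3 : (fun k => (a k : ZMod r)) = N • (f.map (Int.castRingHom (ZMod r))).eval (q : ZMod r) • bZ := by
      rw [ha, ← cast_mulVec, havg, Matrix.mulVec_smul]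
      congr 1
    rw [e] at h3
    have h4 := congrFun h3 j
    simp only [Pi.zero_apply, Int.cast_zero, Pi.smul_apply, smul_eq_mul] at h4
    rcases mul_eq_zero.1 h4.symm with h5 | h5
    · exact hE.hW (((ZMod.natCast_eq_zero_iff _ r).1 h5).trans (Subgroup.card_dvd_of_le (stab_le b r)))
    rcases mul_eq_zero.1 h5 with h6 | h6
    · rw [hf, Polynomial.map_sub, Polynomial.map_pow, map_X, map_C, eval_sub, eval_pow, eval_X, eval_C,
        sub_eq_zero] at h6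
      have h7 : (q : ZMod r) ^ 6 = 1 := by
        rw [show 6 = 3 * 2 from rfl, pow_mul, h6]
        rcases hε with rfl | rfl <;> simp
      have h8 := orderOf_dvd_of_pow_eq_one h7
      rw [hE.hrq] at h8
      norm_num at h8
    · exact hj ((ZMod.intCast_zmod_eq_zero_iff_dvd _ r).1 h6)
  set w := u ᵥ* aeval A f with hw
  have hwk : w ᵥ* aeval A (cyclotomic 12 ℤ) = 0 := by
    rw [hw, Matrix.vecMul_vecMul, ← map_mul, mul_comm, ← hcp, hA, Matrix.aeval_self_charpoly,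
      Matrix.vecMul_zero]
  have hwz : ∀ i : ℕ, w ⬝ᵥ ((A ^ i) *ᵥ a) = 0 := by
    intro i
    have h1 := hpoly (f * X ^ i * f)
    rw [map_mul, map_mul, map_pow, aeval_X, ← Matrix.mulVec_mulVec, ← Matrix.mulVec_mulVec,
      Matrix.dotProduct_mulVec] at h1
    exact h1
  have hw0 := eq_zero_of_pair (A := A) (h := 12) (by norm_num)
    (show mdl.tab.l < 2 * Nat.totient 12 by decide) ha0 hka hwk hwz
  rw [hw, hf, map_sub, map_pow, aeval_X, aeval_C, Matrix.vecMul_sub, sub_eq_zero,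
    Algebra.algebraMap_eq_smul_one, Matrix.vecMul_smul, Matrix.vecMul_one] at hw0
  exact hw0

/-- Vanishing roots with inner product `±1` do not occur. -/
theorem IsEig.no_pair {γ : Equiv.Perm (Fin mdl.tab.n)} (h : IsEig r q b γ)
    (hcp : (Pg mdl γ).charpoly = cyclotomic 12 ℤ * (X ^ 3 - C 1)) {s t : Fin mdl.tab.n}
    (hs : (r : ℤ) ∣ ev mdl b s) (ht : (r : ℤ) ∣ ev mdl b t) :
    bf mdl (cf mdl s) (cf mdl t) ≠ 1 ∧ bf mdl (cf mdl s) (cf mdl t) ≠ -1 := by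
  set A := Pg mdl γ with hA
  set u := cf mdl s
  set v := cf mdl t
  set σ := bf mdl u v with hσdef
  obtain ⟨δ, hδ, hP, hdet⟩ := h.exists_switch ht
  have hinv := fun x y => bf_Pg hG7 symm7 diag7 h.1 x y
  have hcomm := fun x y => bf_comm symm7 (T := mdl) x y
  suffices hkey : σ = 0 ∨ σ = 2 ∨ σ = -2 by rcases hkey with e | e | e <;> omega
  have hu3 : u ᵥ* A ^ 3 = u := (h.cube hE hs (Or.inl rfl) hcp).trans (one_smul _ _)
  have hv3 : v ᵥ* A ^ 3 = v := (h.cube hE ht (Or.inl rfl) hcp).trans (one_smul _ _)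
  have hcpδ : (Pg mdl δ).charpoly = cyclotomic 12 ℤ * (X ^ 3 - C (-1)) := by
    rcases hδ.cases hE with e | e
    · exfalso
      have h1 := congrArg (Polynomial.eval 0) e
      have h2 := congrArg (Polynomial.eval 0) hcp
      rw [Matrix.eval_charpoly, map_zero, zero_sub, Matrix.det_neg, hdet] at h1
      rw [Matrix.eval_charpoly, map_zero, zero_sub, Matrix.det_neg] at h2
      simp [cyclotomic_twelve] at h1 h2
      rw [h1] at h2
      norm_num at h2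
    · rw [e, map_neg, map_one, sub_neg_eq_add]
  have hB : ∀ x : Fin mdl.tab.l → ℤ,
      x ᵥ* Pg mdl δ = x ᵥ* A - bf mdl x v • (v ᵥ* A) := by
    intro x
    rw [hP, ← Matrix.vecMul_vecMul, Matrix.vecMul_sub, Matrix.vecMul_one, Matrix.vecMul_vecMulVec,
      Matrix.sub_vecMul, Matrix.smul_vecMul, bf, ← Matrix.dotProduct_mulVec]
  have hBu := hδ.cube hE hs (Or.inr rfl) hcpδ
  have o1 : bf mdl (v ᵥ* A) v = 0 := h.orth hE ht
  have ou : bf mdl (u ᵥ* A) u = 0 := h.orth hE hs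
  have oδ : bf mdl (u ᵥ* A - σ • (v ᵥ* A)) u = 0 := by rw [← hB]; exact hδ.orth hE hs
  have o2 : σ * bf mdl (v ᵥ* A) u = 0 := by
    rw [bf_sub_left, bf_smul_left, ou, zero_sub, neg_eq_zero] at oδ
    exact oδ
  obtain ⟨δ', hδ', hP', -⟩ := h.exists_switch hs
  have o3 : σ * bf mdl (u ᵥ* A) v = 0 := by
    have h1 := hδ'.orth hE ht
    rw [hP', ← Matrix.vecMul_vecMul, Matrix.vecMul_sub, Matrix.vecMul_one, Matrix.vecMul_vecMulVec,
      Matrix.sub_vecMul, Matrix.smul_vecMul, bf_sub_left, bf_smul_left, o1, zero_sub, neg_eq_zero] at h1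
    rwa [show cf mdl t ⬝ᵥ (cartT mdl *ᵥ cf mdl s) = σ by
      rw [hσdef, hcomm, bf, ← Matrix.dotProduct_mulVec]] at h1
  by_cases hσ0 : σ = 0
  · exact Or.inl hσ0
  have p1 : bf mdl (u ᵥ* A) v = 0 := (mul_eq_zero.1 o3).resolve_left hσ0
  have p1' : bf mdl (v ᵥ* A) u = 0 := (mul_eq_zero.1 o2).resolve_left hσ0
  have p2 : bf mdl (u ᵥ* A ^ 2) v = 0 := by
    rw [← hinv (u ᵥ* A ^ 2) v, Matrix.vecMul_vecMul, ← pow_succ, hu3, hcomm, p1']
  have p3 : bf mdl (v ᵥ* A ^ 2) v = 0 := by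
    rw [← hinv (v ᵥ* A ^ 2) v, Matrix.vecMul_vecMul, ← pow_succ, hv3, hcomm, o1]
  have e1 : u ᵥ* Pg mdl δ = u ᵥ* A - σ • (v ᵥ* A) := hB u
  have e2 : (u ᵥ* Pg mdl δ) ᵥ* Pg mdl δ = u ᵥ* A ^ 2 - σ • (v ᵥ* A ^ 2) := by
    rw [e1, hB, bf_sub_left, bf_smul_left, p1, o1, mul_zero, sub_zero, zero_smul, sub_zero,
      Matrix.sub_vecMul, Matrix.smul_vecMul, Matrix.vecMul_vecMul, Matrix.vecMul_vecMul, pow_two]
  rw [pow_succ, pow_two, ← Matrix.vecMul_vecMul, ← Matrix.vecMul_vecMul, e2, hB, bf_sub_left,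
    bf_smul_left, p2, p3, mul_zero, sub_zero, zero_smul, sub_zero, Matrix.sub_vecMul, Matrix.smul_vecMul,
    Matrix.vecMul_vecMul, Matrix.vecMul_vecMul, ← pow_succ, hu3, hv3] at hBu
  have hvv : bf mdl v v = 2 := bf_root hG7 symm7 diag7 (mdl.witness TypeE7.wit_ok) t
  have huu : bf mdl u u = 2 := bf_root hG7 symm7 diag7 (mdl.witness TypeE7.wit_ok) s
  have h1 := congrArg (fun x => bf mdl x u) hBu
  simp only [bf_sub_left, bf_smul_left, huu] at h1
  rw [hcomm v u, ← hσdef, show bf mdl (cf mdl s) u = 2 from huu] at h1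
  right
  have h2 : (σ - 2) * (σ + 2) = 0 := by linear_combination -h1
  rcases mul_eq_zero.1 h2 with h3 | h3 <;> omega

end Cfsg.Agent.ChevTori.E7Tor
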