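import Cfsg.Agent.ChevTori.TwistWord
import Cfsg.Agent.ChevTori.Emb
import Cfsg.Agent.ChevTori.TwistTorus
import Cfsg.Agent.ChevTori.LangSwitch
import Cfsg.Agent.ChevTori.ZRootsE7
import Cfsg.Agent.ChevTori.CharpolyE6
import Cfsg.Agent.ChevTori.Arith
import Cfsg.Agent.KnownSimple.Steinberg.EmbE6E7
import Cfsg.Agent.KnownSimple.Steinberg.SLE6
import Cfsg.Agent.KnownSimple.Steinberg.SLE7
import Cfsg.Agent.ChevGroup.Mat.OrderE6
import Cfsg.Agent.ChevGroup.Steinberg.All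
import Cfsg.Agent.Lib.ChevCore.TorusCard
import Cfsg.Agent.WeylGroup.E6

/-!
The Frobenius twist of type E7 with characteristic polynomial `Φ₁₂ (X³ + 1)`: from a regular twist of type E6,
switched by a fundamental reflection.
-/

set_option autoImplicit false

namespace Cfsg.Agent.ChevTori.E7Tor

open Cfsg.Lie Cfsg.Agent.ChevGroup Cfsg.Agent.ChevCore Cfsg.Agent.ChevFixed Polynomial Matrix
open Cfsg.Agent.KnownSimple.Steinberg (iotaK packE6E7 embE6E7 sldE6 sldE7)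

universe u

theorem pow_of_mpow_eq_one {l : ℕ} {M : Type*} [CommGroup M] {A B : Matrix (Fin l) (Fin l) ℤ} {k : ℕ}
    (h : B * A = (k : ℤ) • 1) {c : Fin l → M} (hc : mpow A c = 1) : c ^ k = 1 := by
  funext j
  have h1 : mpow (B * A) c j = 1 := by rw [mpow_mul, hc, map_one, Pi.one_apply]
  rw [h, mpow_apply, Finset.prod_eq_single j] at h1
  · simpa using h1
  · intro m _ hm; simp [Matrix.one_apply_ne hm.symm]
  · simp

theorem ker_cartT {M : Type*} [CommGroup M] {c : Fin mdl.tab.l → M} (hc : mpow (cartT mdl) c = 1) :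
    c ^ 2 = 1 := by
  refine pow_of_mpow_eq_one (B := (K7 : Matrix (Fin mdl.tab.l) (Fin mdl.tab.l) ℤ)) ?_ hc
  exact (congrArg (fun A : Matrix (Fin 7) (Fin 7) ℤ => K7 * A) cartT_eq').trans K7_mul_C7

theorem ker_cartT6 {M : Type*} [CommGroup M] {c : Fin E6Tor.mdl.tab.l → M}
    (hc : mpow (cartT E6Tor.mdl) c = 1) : c ^ 3 = 1 := by
  refine pow_of_mpow_eq_one (B := Matrix.adjugate (cartT E6Tor.mdl)) ?_ hc
  rw [Matrix.adjugate_mul]
  have h : (cartT E6Tor.mdl).det = ((3 : ℕ) : ℤ) :=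
    ((congrArg Matrix.det (Matrix.ext E6Tor.cartT_eq)).trans E6Tor.det_C6).trans (by norm_num)
  rw [h]

set_option maxRecDepth 20000 in
theorem iota_simple : ∀ i : Fin 6, iotaK packE6E7 (chevE6.simple i.val) = chevE7.simple i.val := by
  decide +kernel

theorem rank_le : E6Tor.mdl.tab.l ≤ mdl.tab.l := show (6 : ℕ) ≤ 7 by omega

/-- The inclusion of the fundamental roots. -/
def e67 (j : Fin E6Tor.mdl.tab.l) : Fin mdl.tab.l := Fin.castLE rank_le j

theorem iota_e67 (j : Fin E6Tor.mdl.tab.l) :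
    iotaK packE6E7 (chevE6.simple j.val) = chevE7.simple (e67 j).val :=
  iota_simple j

/-- Extension of coordinates by one. -/
def extc (M : Type*) [CommGroup M] : (Fin E6Tor.mdl.tab.l → M) →* (Fin mdl.tab.l → M) where
  toFun c i := if h : i.val < E6Tor.mdl.tab.l then c ⟨i.val, h⟩ else 1
  map_one' := by funext i; split_ifs <;> simp_all
  map_mul' c c' := by funext i; simp only [Pi.mul_apply]; split_ifs <;> simp

theorem extc_apply {M : Type*} [CommGroup M] (c : Fin E6Tor.mdl.tab.l → M) (j : Fin E6Tor.mdl.tab.l) :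
    extc M c (e67 j) = c j :=
  dif_pos (show (e67 j).val < E6Tor.mdl.tab.l from j.isLt)

theorem extc_single {M : Type*} [CommGroup M] (j : Fin E6Tor.mdl.tab.l) (c : M) :
    extc M (Pi.mulSingle j c) = Pi.mulSingle (e67 j) c := by
  funext i
  by_cases h : i.val < E6Tor.mdl.tab.l
  · have e : i = e67 ⟨i.val, h⟩ := Fin.ext rfl
    rw [e, extc_apply]
    by_cases hj : (⟨i.val, h⟩ : Fin E6Tor.mdl.tab.l) = j
    · rw [hj, Pi.mulSingle_eq_same, Pi.mulSingle_eq_same]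
    · rw [Pi.mulSingle_eq_of_ne hj, Pi.mulSingle_eq_of_ne]
      exact fun e' => hj (Fin.ext (congrArg Fin.val e' :))
  · rw [Pi.mulSingle_eq_of_ne]
    · exact dif_neg h
    · exact fun e' => h (e' ▸ j.isLt)

variable {F₀ : Type u} [Field F₀] [Fintype F₀] {F : Type} [Field F] [Fintype F] {q r : ℕ}

theorem weyl6_not_dvd [Fact r.Prime] (h13 : 12 < r) : ¬ r ∣ Nat.card (weyl E6Tor.mdl) := fun h => by
  have hr : r.Prime := Fact.out
  have h1 : r ∣ 51840 := WeylGroup.card_e6 ▸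
    h.trans (ChevTori.weyl_card_dvd E6Tor.mdl (Mx := CoxeterMatrix.E₆) (by decide +kernel))
  have h2 : r ∣ 2 ^ 7 * (3 ^ 4 * 5) := by norm_num; exact h1
  rcases hr.dvd_mul.1 h2 with h3 | h3
  · have := Nat.le_of_dvd two_pos (hr.dvd_of_dvd_pow h3); omega
  rcases hr.dvd_mul.1 h3 with h4 | h4
  · have := Nat.le_of_dvd three_pos (hr.dvd_of_dvd_pow h4); omega
  · have := Nat.le_of_dvd (by norm_num) h4; omega

set_option maxRecDepth 20000 in
set_option maxHeartbeats 1000000 in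
/-- The twist of an E6 torus inside E7, with an element of order `r`. -/
theorem exists_base (hq : Fintype.card F₀ = q) [Fact r.Prime] (hrq : orderOf (q : ZMod r) = 12)
    (h13 : 12 < r) (hdiv : r ∣ q ^ 12 - 1) (σ : F →+* F) (i : F₀ →+* F) (hσ : ∀ b, σ b = b ^ q)
    (hi : ∀ b, σ b = b ↔ ∃ y, i y = b) (hQ : Fintype.card F = q ^ 12) :
    ∃ (g : ↥(chevE7.group F)) (v : List (Fin mdl.tab.l)), (∀ j ∈ v, (j : Fin 7).val ≠ 6) ∧
      ∃ k ∈ (rr mdl uGoodE7).H, mapGroup σ g * g⁻¹ = (rr mdl uGoodE7).nw v * k ∧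
        ∃ t : ↥(rr (F := F) mdl uGoodE7).H, t ^ r = 1 ∧ t ≠ 1 ∧
          (rr mdl uGoodE7).nw v * t.1 * ((rr mdl uGoodE7).nw v)⁻¹ = t.1 ^ q := by
  classical
  have hr : r.Prime := Fact.out
  have hq2 : 2 ≤ q := hq ▸ Fintype.one_lt_card
  have hC6 : CommGood chevE6 := uGoodE6.toCommGood
  have hA6 := torusFacts_of_good hC6.toGood
  have hC7 : CommGood chevE7 := uGoodE7.toCommGood
  have hgr : ∀ m : ℕ, ¬ r ∣ Nat.gcd 3 m := fun m h => by
    have h1 := Nat.le_of_dvd three_pos (h.trans (Nat.gcd_dvd_left 3 m))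
    omega
  have hdiv6 : r ∣ Nat.card ↥(chevE6.group F₀) := by
    have h : r ∣ Nat.gcd 3 (q - 1) * Nat.card ↥(chevE6.group F₀) := by
      rw [TypeE6.card_group hA6 (relsOfCommGood hC6 F₀) hq]
      exact dvd_mul_of_dvd_right hdiv _
    exact (hr.dvd_mul.1 h).resolve_left (hgr _)
  have hidx : ∃ N, Nat.card ↥(chevE6.group F) = Nat.card ↥(chevE6.diagonalSubgroup F) * N ∧ ¬ r ∣ N := by
    obtain ⟨M, hM, hrM⟩ := ChevTori.index_of_degrees (r := r) (Q := q ^ 12) (a := 36) (l := 6)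
      (G := Nat.gcd 3 (q ^ 12 - 1) * Nat.card ↥(chevE6.group F))
      (H := Nat.gcd 3 (q ^ 12 - 1) * Nat.card ↥(chevE6.diagonalSubgroup F))
      (ChevTori.cast_pow_eq_one hrq) (Nat.one_le_pow _ _ (by omega)) [2, 5, 6, 8, 9, 12] rfl
      (fun d hd => Nat.not_dvd_of_pos_of_lt (by
        simp only [List.mem_cons, List.not_mem_nil, or_false] at hd; omega) (by
        simp only [List.mem_cons, List.not_mem_nil, or_false] at hd; omega))
      (by rw [← hQ, card_diagonalE6]; rfl)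
      (by
        rw [TypeE6.card_group hA6 (relsOfCommGood hC6 F) hQ]
        simp [List.prod_cons, mul_assoc])
    refine ⟨M, ?_, hrM⟩
    rw [mul_assoc] at hM
    exact Nat.eq_of_mul_eq_mul_left (Nat.gcd_pos_of_pos_left _ three_pos) hM
  obtain ⟨x, g, v, k, hx, hxH, -, hk, hn, -⟩ := exists_regular_twist E6Tor.mdl uGoodE6 TypeE6.wit_ok
    TypeE6.longest_ok TypeE6.pos_span (F₀ := F₀) (q := q) (h := 12) (r := r)
    (f := cyclotomic 12 ℤ * cyclotomic 3 ℤ) σ i hσ hi hQ hrq (weyl6_not_dvd h13) hdiv6 hidx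
    (fun γ hγ h => E6Tor.charpoly_eq hγ h)
    (fun j => (E6Tor.cartT_eq j j).trans (by revert j; decide))
    (by rw [E6Tor.cyclotomic_twelve, cyclotomic_three]; simp)
  have hD6 : Stb.Cert chevE6 := Stb.certE6
  have hD7 : Stb.Cert chevE7 := Stb.certE7
  obtain ⟨gh, hgh⟩ := Stb.th_surjective (K := F) hC6 g
  obtain ⟨xh, hxh⟩ := Stb.th_surjective (K := F₀) hC6 x
  set s₀ := stMap (D := chevE6) i xh
  set s := gh * s₀ * gh⁻¹ with hs
  have hths : Stb.th hC6 s = g * mapGroup i x * g⁻¹ := by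
    rw [hs, map_mul, map_mul, map_inv, hgh, th_stMap, hxh]
  obtain ⟨c, hc⟩ := exists_psil E6Tor.mdl hD6 uGoodE6 TypeE6.wit_ok (s := s) (hths ▸ hxH)
  have hord : orderOf (Stb.th hC6 (psil E6Tor.mdl hD6 c)) = r := by
    rw [← hc, hths]
    have h1 : orderOf (mapGroup i x) = r := by rw [orderOf_injective _ (mapGroup_injective i), hx]
    rw [← h1]
    exact orderOf_injective (MulAut.conj g).toMonoidHom (MulAut.conj g).injective (mapGroup i x)
  have hcr : (c ^ 3) ^ r = 1 := by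
    rw [← pow_mul, mul_comm, pow_mul]
    refine ker_cartT6 ?_
    rw [← psi_th_psil E6Tor.mdl hD6 uGoodE6, ← map_one (psi (F := F) E6Tor.mdl uGoodE6)]
    congr 1
    refine Subtype.ext ?_
    show Stb.th hC6 (psil E6Tor.mdl hD6 (c ^ r)) = 1
    rw [map_pow, map_pow, ← hord, pow_orderOf_eq_one]
  have hc3 : c ^ 3 ≠ 1 := fun e => by
    have h1 : orderOf (Stb.th hC6 (psil E6Tor.mdl hD6 c)) ∣ 3 :=
      orderOf_dvd_of_pow_eq_one (by rw [← map_pow, ← map_pow, e, map_one, map_one])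
    have h2 := Nat.le_of_dvd three_pos (hord ▸ h1)
    omega
  -- the twist in Steinberg's group
  set nh := stMap σ gh * gh⁻¹ with hnh
  have hthn : Stb.th hC6 nh = (rr E6Tor.mdl uGoodE6).nw v * k := by
    rw [map_mul, map_inv, th_stMap, hgh, hn]
  obtain ⟨e, he⟩ := exists_psil E6Tor.mdl hD6 uGoodE6 TypeE6.wit_ok
    (s := nh * ((Stb.rel E6Tor.mdl hD6).nw v)⁻¹) (by
      rw [map_mul, map_inv, hthn, show Stb.th hC6 ((Stb.rel E6Tor.mdl hD6).nw v) =
        (rr E6Tor.mdl uGoodE6).nw v from Stb.th_nw _ hD6 hC6 v]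
      exact nw_conj_mem_H _ v hk)
  have hσi : σ.comp i = i := RingHom.ext fun a => (hi _).2 ⟨a, rfl⟩
  have hfix : stMap σ (psil E6Tor.mdl hD6 (c ^ 3)) = nh * psil E6Tor.mdl hD6 (c ^ 3) * nh⁻¹ := by
    rw [map_pow, ← hc, map_pow, ← conj_pow, hs, map_mul, map_mul, map_inv,
      show stMap σ s₀ = s₀ from stMap_fixed_of_comp σ i hσi xh, hnh]
    congr 1
    group
  -- transfer
  set Ψ := embHom sldE6 sldE7 embE6E7 hC7 F with hΨ
  have hps : ∀ d, Ψ (psil E6Tor.mdl hD6 d) = Stb.th hC7 (psil mdl hD7 (extc Fˣ d)) := fun d =>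
    embHom_psil sldE6 sldE7 embE6E7 hC7 E6Tor.mdl mdl hD6 hD7 e67 iota_e67 (extc Fˣ)
      extc_single d
  set v' := v.map e67 with hv'
  have hnw : Ψ ((Stb.rel E6Tor.mdl hD6).nw v) = (rr mdl uGoodE7).nw v' := by
    rw [hΨ, embHom_nw sldE6 sldE7 embE6E7 hC7 E6Tor.mdl mdl hD6 hD7 e67 iota_e67]
    exact Stb.th_nw mdl hD7 hC7 _
  set R := rr (F := F) mdl uGoodE7
  set h₇ := Stb.th hC7 (psil mdl hD7 (extc Fˣ e))
  have hh₇ : h₇ ∈ R.H := th_psil_mem mdl hD7 uGoodE7 _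
  have hn₇ : mapGroup σ (Ψ gh) * (Ψ gh)⁻¹ = h₇ * R.nw v' := by
    rw [← embHom_stMap, ← map_inv, ← map_mul, ← hnh,
      show nh = psil E6Tor.mdl hD6 e * (Stb.rel E6Tor.mdl hD6).nw v by rw [← he, inv_mul_cancel_right],
      map_mul, hps, hnw]
  refine ⟨Ψ gh, v', fun j hj => ?_, (R.nw v')⁻¹ * h₇ * R.nw v', R.nw_inv_conj_mem_H _ hh₇, ?_, ?_⟩
  · obtain ⟨j₀, -, rfl⟩ := List.mem_map.1 hj
    exact Nat.ne_of_lt (show j₀.val < 6 from j₀.isLt)
  · rw [hn₇]; group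
  set t₁ := Stb.th hC7 (psil mdl hD7 (extc Fˣ (c ^ 3))) with ht₁
  have ht₁H : t₁ ∈ R.H := th_psil_mem mdl hD7 uGoodE7 _
  refine ⟨⟨t₁, ht₁H⟩, Subtype.ext ?_, fun e1 => hc3 ?_, ?_⟩
  · show t₁ ^ r = 1
    rw [ht₁, ← map_pow, ← map_pow, ← map_pow, hcr, map_one, map_one, map_one]
  · have h1 : mpow (cartT mdl) (extc Fˣ (c ^ 3)) = 1 := by
      rw [← psi_th_psil mdl hD7 uGoodE7, ← map_one (psi (F := F) mdl uGoodE7)]
      exact congrArg _ e1
    have h2 := ker_cartT h1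
    have h3 : (c ^ 3) ^ 2 = 1 := funext fun j => by
      have := congrFun h2 (e67 j)
      rwa [Pi.pow_apply, extc_apply, ← Pi.pow_apply] at this
    have h4 : (c ^ 3) ^ Nat.gcd 2 r = 1 := pow_gcd_eq_one.2 ⟨h3, hcr⟩
    rwa [(Nat.coprime_primes Nat.prime_two hr).2 (by omega), pow_one] at h4
  · show R.nw v' * t₁ * (R.nw v')⁻¹ = t₁ ^ q
    have h1 := congrArg Ψ hfix
    rw [embHom_stMap, map_mul, map_mul, map_inv, hps, ← ht₁, mapGroup_H mdl uGoodE7 σ hσ ht₁H,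
      show nh = psil E6Tor.mdl hD6 e * (Stb.rel E6Tor.mdl hD6).nw v by rw [← he, inv_mul_cancel_right],
      map_mul, hps, hnw] at h1
    have hm : R.nw v' * t₁ * (R.nw v')⁻¹ ∈ R.H := nw_conj_mem_H _ v' ht₁H
    rw [h1]
    show _ = h₇ * R.nw v' * t₁ * (h₇ * R.nw v')⁻¹
    rw [show h₇ * R.nw v' * t₁ * (h₇ * R.nw v')⁻¹ = h₇ * (R.nw v' * t₁ * (R.nw v')⁻¹) * h₇⁻¹ by group,
      H_commute mdl uGoodE7 hh₇ hm, mul_inv_cancel_right]

omit [Fintype F] in
theorem isEig_of_coords {ζ : Fˣ} (hζ : orderOf ζ = r) {v : List (Fin mdl.tab.l)} {bh : Fin mdl.tab.l → ℤ}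
    (h : mpow (Qw mdl v) (fun j => ζ ^ bh j) = (fun j => ζ ^ bh j) ^ q) :
    IsEig r q (cartT mdl *ᵥ bh) (pw mdl v.reverse) := by
  refine ⟨prod_mem_weyl mdl _, fun j => ?_⟩
  rw [Matrix.mulVec_mulVec, ← cartT_mul_Qw mdl hG7, ← Matrix.mulVec_mulVec]
  have h1 : ∀ m, (r : ℤ) ∣ (Qw mdl v *ᵥ bh) m - (q : ℤ) * bh m := by
    intro m
    rw [← hζ, orderOf_dvd_iff_zpow_eq_one, _root_.zpow_sub]
    rw [mpow_zpow] at h
    have h2 : ζ ^ (Qw mdl v *ᵥ bh) m = (ζ ^ bh m) ^ q := congrFun h m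
    rw [mul_inv_eq_one, h2, ← zpow_natCast, ← _root_.zpow_mul, mul_comm]
  rw [show (q : ℤ) * (cartT mdl *ᵥ bh) j = (cartT mdl *ᵥ ((q : ℤ) • bh)) j by rw [Matrix.mulVec_smul, Pi.smul_apply, smul_eq_mul],
    ← Pi.sub_apply, ← Matrix.mulVec_sub]
  simp only [Matrix.mulVec, dotProduct, Pi.sub_apply, Pi.smul_apply, smul_eq_mul]
  simp only [Matrix.mulVec, dotProduct] at h1
  exact Finset.dvd_sum fun m _ => dvd_mul_of_dvd_right (h1 m) _

set_option maxRecDepth 20000 in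
theorem commTerms_nil : ∀ i < 7, ∀ s < 126, chevE7.cartan i s = 0 →
    chevE7.commTerms (chevE7.simple i) s = [] ∧ chevE7.commTerms (chevE7.neg (chevE7.simple i)) s = [] ∧
      s ≠ chevE7.simple i ∧ s ≠ chevE7.neg (chevE7.simple i) ∧
      s ≠ chevE7.neg (chevE7.neg (chevE7.simple i)) := by
  decide +kernel

set_option maxRecDepth 20000 in
theorem neg_simple_facts : ∀ i < 7, eta chevE7 i (chevE7.neg (chevE7.simple i)) = -1 ∧
    chevE7.reflectRoot i (chevE7.neg (chevE7.simple i)) = chevE7.simple i ∧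
    chevE7.pairing (chevE7.simple i) (chevE7.simple i) = 2 := by
  decide +kernel

set_option maxRecDepth 20000 in
theorem roots_nodup :
    ((List.range 126).map fun s => List.ofFn fun j : Fin 7 => coef chevE7 s j.val).Nodup := by
  decide +kernel

theorem cf_inj {s t : Fin mdl.tab.n} (h : cf mdl s = cf mdl t) : s = t := by
  refine Fin.ext (List.inj_on_of_nodup_map roots_nodup (List.mem_range.2 s.isLt)
    (List.mem_range.2 t.isLt) ?_)
  exact congrArg List.ofFn (funext fun j => congrFun h j)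

omit [Fintype F] in
theorem simple_identity (i : Fin mdl.tab.l) {c : F} (hc : c ≠ 0) :
    (rr mdl uGoodE7).x (mdl.S.simple i) c * (rr mdl uGoodE7).x (mdl.S.neg (mdl.S.simple i)) (-c⁻¹) *
        (rr mdl uGoodE7).x (mdl.S.simple i) c =
      (rr mdl uGoodE7).x (mdl.S.neg (mdl.S.simple i)) (-c⁻¹) * (rr mdl uGoodE7).x (mdl.S.simple i) c *
        (rr mdl uGoodE7).x (mdl.S.neg (mdl.S.simple i)) (-c⁻¹) := by
  have hG := hG7
  have hl : i.val < chevE7.rank := mdl.lt_l i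
  have hs := hG.neg_lt (hG.simple_lt hl)
  obtain ⟨he, hr', hp⟩ := neg_simple_facts i.val i.isLt
  have hn := Stb.nb_conj Stb.certE7 hl hs hc (-c⁻¹)
  rw [hr', Stb.ncoef, hr', hp, he] at hn
  have e : c ^ (2 : ℤ) * ((-1 : ℤ) : F) * -c⁻¹ = c := by
    rw [zpow_two]; field_simp; simp
  rw [e, Stb.nb, mul_inv_eq_iff_eq_mul] at hn
  set a := Stb.xb chevE7 F (chevE7.simple i.val) c
  set b := Stb.xb chevE7 F (chevE7.neg (chevE7.simple i.val)) (-c⁻¹)
  have h1 : a * b * a = b * a * b := by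
    apply mul_left_cancel (a := a)
    calc a * (a * b * a) = a * b * a * b := hn.symm
      _ = a * (b * a * b) := by group
  have h2 := congrArg (Stb.th uGoodE7.toCommGood) h1
  have hx : ∀ (s : Fin mdl.tab.n) (t : F),
      Stb.th uGoodE7.toCommGood (Stb.xb chevE7 F s.val t) = (rr mdl uGoodE7).x s t :=
    fun s t => Stb.th_x mdl Stb.certE7 uGoodE7.toCommGood s t
  simp only [map_mul, a, b] at h2
  rw [← mdl.simple_eq i, hx, ← mdl.neg_eq, hx] at h2
  exact h2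

omit [Fintype F] in
theorem commute_orth (i : Fin mdl.tab.l) {t : Fin mdl.tab.n}
    (h : bf mdl (cf mdl t) (cf mdl (mdl.S.simple i)) = 0) {s : Fin mdl.tab.n}
    (hs : s = mdl.S.simple i ∨ s = mdl.S.neg (mdl.S.simple i)) (a b : F) :
    Commute ((rr mdl uGoodE7).x s a) ((rr mdl uGoodE7).x t b) := by
  have h' : (cf mdl t ᵥ* cartT mdl) i = 0 := by
    rw [← h, bf, dotProduct]
    symm
    rw [Finset.sum_eq_single i]
    · rw [cf_simple hG7, if_pos rfl, mul_one]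
    · intro j _ hj; rw [cf_simple hG7, if_neg hj, mul_zero]
    · simp
  have hcar : chevE7.cartan i.val t.val = 0 := (cartan_cf hG7 i t).trans h'
  obtain ⟨e1, e2, n1, n2, n3⟩ := commTerms_nil i.val i.isLt t.val t.isLt hcar
  rcases hs with rfl | rfl
  · exact commute_x mdl uGoodE7 Stb.certE7 (by rw [mdl.simple_eq]; exact e1) (by rw [mdl.simple_eq]; exact n1)
      (by rw [mdl.simple_eq]; exact n2) a b
  · exact commute_x mdl uGoodE7 Stb.certE7 (by rw [mdl.neg_eq, mdl.simple_eq]; exact e2)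
      (by rw [mdl.neg_eq, mdl.simple_eq]; exact n2) (by rw [mdl.neg_eq, mdl.simple_eq]; exact n3) a b

theorem det_one_sub_of_fixed {γ : Equiv.Perm (Fin mdl.tab.n)} (hγ : γ ∈ weylS mdl {j | j.val ≠ 6}) :
    (1 - Pg mdl γ).det = 0 := by
  refine Matrix.det_eq_zero_of_column_eq_zero (⟨6, show (6 : ℕ) < 7 by omega⟩ : Fin mdl.tab.l) fun j => ?_
  rw [Matrix.sub_apply, Pg_col hG7 hγ j (fun h => h rfl), Matrix.one_apply, sub_self]

set_option maxRecDepth 20000 in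
set_option maxHeartbeats 1000000 in
/-- The switched twist. -/
theorem exists_switched (hq : Fintype.card F₀ = q) [Fact r.Prime] (hrq : orderOf (q : ZMod r) = 12)
    (h13 : 12 < r) (hdiv : r ∣ q ^ 12 - 1) (hW : ¬ r ∣ Nat.card (weyl mdl)) (σ : F →+* F) (i : F₀ →+* F)
    (hσ : ∀ b, σ b = b ^ q) (hi : ∀ b, σ b = b ↔ ∃ y, i y = b) (hQ : Fintype.card F = q ^ 12) :
    ∃ (g : ↥(chevE7.group F)) (v : List (Fin mdl.tab.l)), ∃ k ∈ (rr mdl uGoodE7).H,
      mapGroup σ g * g⁻¹ = (rr mdl uGoodE7).nw v * k ∧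
        ∃ (ζ : Fˣ) (bh : Fin mdl.tab.l → ℤ) (γ : Equiv.Perm (Fin mdl.tab.n)), orderOf ζ = r ∧
          mpow (Qw mdl v) (fun j => ζ ^ bh j) = (fun j => ζ ^ bh j) ^ q ∧
          Eig r q (cartT mdl *ᵥ bh) ∧ IsEig r q (cartT mdl *ᵥ bh) γ ∧
          (Pg mdl γ).charpoly = cyclotomic 12 ℤ * (Polynomial.X ^ 3 - C 1) ∧
          IsEig r q (cartT mdl *ᵥ bh) (pw mdl v.reverse) ∧
          (Pg mdl (pw mdl v.reverse)).charpoly = cyclotomic 12 ℤ * (Polynomial.X ^ 3 + 1) ∧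
          ∃ j, (r : ℤ) ∣ (cartT mdl *ᵥ bh) j := by
  classical
  have hr : r.Prime := Fact.out
  have hq2 : 2 ≤ q := hq ▸ Fintype.one_lt_card
  set R := rr (F := F) mdl uGoodE7
  obtain ⟨g, v, hv6, k, hk, hn, t, htr, ht1, htv⟩ := exists_base hq hrq h13 hdiv σ i hσ hi hQ
  obtain ⟨ζ, bh, hζ, hQv, hpsi, hb⟩ := exists_coords mdl uGoodE7 Stb.certE7 TypeE7.wit_ok
    (fun c => ker_cartT) hr (by omega) v t htr ht1 htv
  set b := cartT mdl *ᵥ bh
  set γ₀ := pw mdl v.reverse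
  have hE : Eig r q b := ⟨hrq, hW, hb⟩
  have hγ₀ : IsEig r q b γ₀ := isEig_of_coords hζ hQv
  have hγ₀S : γ₀ ∈ weylS mdl {j | j.val ≠ 6} := by
    refine Subgroup.list_prod_mem _ fun x hx => ?_
    obtain ⟨j, hj, rfl⟩ := List.mem_map.1 hx
    exact reflPerm_mem_weylS mdl (hv6 j (List.mem_reverse.1 hj))
  have hfix := det_one_sub_of_fixed hγ₀S
  have hcp₀ : (Pg mdl γ₀).charpoly = cyclotomic 12 ℤ * (Polynomial.X ^ 3 - C 1) := by
    rcases hγ₀.cases hE with e | e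
    · rw [e, map_one]
    · exfalso
      have h1 := congrArg (Polynomial.eval 1) e
      rw [Matrix.eval_charpoly, map_one, hfix, cyclotomic_twelve] at h1
      simp at h1
  -- a vanishing root
  obtain ⟨s, hs⟩ : ∃ s, (r : ℤ) ∣ ev mdl b s := by
    by_contra hno
    push Not at hno
    set δ := pw mdl TypeE7.w0 * γ₀ ^ 6
    have h6 : ∀ m u, (r : ℤ) ∣ ev mdl b ((γ₀ ^ m) u) - (q : ℤ) ^ m * ev mdl b u := by
      intro m
      induction m with
      | zero => intro u; simp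
      | succ m ih =>
        intro u
        have h1 := dvd_add (hγ₀.dvd_ev ((γ₀ ^ m) u)) (dvd_mul_of_dvd_right (ih u) (q : ℤ))
        rw [pow_succ', Equiv.Perm.mul_apply]
        rwa [mul_sub, sub_add_sub_cancel, ← mul_assoc, ← pow_succ'] at h1
    have hq6 : (r : ℤ) ∣ (q : ℤ) ^ 6 + 1 := by
      rw [← ZMod.intCast_zmod_eq_zero_iff_dvd]
      push_cast
      have h1 : ((q : ZMod r) ^ 6 - 1) * ((q : ZMod r) ^ 6 + 1) = 0 := by
        have h2 := pow_orderOf_eq_one (q : ZMod r)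
        rw [hrq] at h2
        linear_combination h2
      refine (mul_eq_zero.1 h1).resolve_left fun h2 => ?_
      have h3 := Nat.le_of_dvd (by norm_num) (orderOf_dvd_of_pow_eq_one (sub_eq_zero.1 h2))
      omega
    have hδ : δ ∈ stab mdl b r := by
      refine ⟨mul_mem (prod_mem_weyl mdl _) (pow_mem hγ₀.1 6), fun u => ?_⟩
      rw [Equiv.Perm.mul_apply, ev_weyl' hG7 (γ := pw mdl TypeE7.w0) (prod_mem_weyl mdl _), Pg_w0,
        Matrix.neg_mulVec, Matrix.one_mulVec, dotProduct_neg]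
      show (r : ℤ) ∣ -ev mdl b ((γ₀ ^ 6) u) - ev mdl b u
      have h1 := dvd_add (h6 6 u) (dvd_mul_of_dvd_left hq6 (ev mdl b u))
      rw [add_mul, one_mul] at h1
      have h2 := dvd_neg.2 h1
      generalize hA : ev mdl b ((γ₀ ^ 6) u) = A at h2 ⊢
      generalize hB : ev mdl b u = B at h2 ⊢
      rwa [show -A - B = -(A - (q : ℤ) ^ 6 * B + ((q : ℤ) ^ 6 * B + B)) by ring]
    have hδ1 := stab_eq_one hG7 fix7 hW hno hδ
    have hA6 : Pg mdl γ₀ ^ 6 = -1 := by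
      have h1 := congrArg (Pg mdl) hδ1
      rw [Pg_mul hG7 (show pw mdl TypeE7.w0 ∈ weyl mdl from prod_mem_weyl mdl _), Pg_one hG7, Pg_w0,
        Matrix.mul_neg, Matrix.mul_one, Pg_pow hG7 hγ₀.1] at h1
      rw [← h1, neg_neg]
    obtain ⟨x, hx0, hx⟩ := Matrix.exists_mulVec_eq_zero_iff.2 hfix
    rw [Matrix.sub_mulVec, Matrix.one_mulVec, sub_eq_zero] at hx
    have hxm : ∀ m : ℕ, Pg mdl γ₀ ^ m *ᵥ x = x := by
      intro m
      induction m with
      | zero => rw [pow_zero, Matrix.one_mulVec]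
      | succ m ih => rw [pow_succ, ← Matrix.mulVec_mulVec, ← hx, ih]
    have h2 := hxm 6
    rw [hA6, Matrix.neg_mulVec, Matrix.one_mulVec] at h2
    exact hx0 (funext fun j => by have h3 := congrFun h2 j; rw [Pi.neg_apply] at h3; show x j = 0; omega)
  -- conjugate it to a fundamental root
  obtain ⟨u, i₀, hu⟩ := mdl.witness TypeE7.wit_ok s
  set w := u.reverse with hw
  obtain ⟨k', hk', hn'⟩ := twist_conj mdl uGoodE7 σ g v w hk hn
  set v' := w ++ v ++ w.reverse with hv'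
  set t' : R.H := ⟨R.nw w * t.1 * (R.nw w)⁻¹, nw_conj_mem_H _ w t.2⟩ with ht'def
  have ht'r : t' ^ r = 1 := Subtype.ext (by
    show (R.nw w * t.1 * (R.nw w)⁻¹) ^ r = 1
    rw [conj_pow, show t.1 ^ r = 1 from congrArg Subtype.val htr, mul_one, mul_inv_cancel])
  have ht'1 : t' ≠ 1 := fun e => ht1 (Subtype.ext (by
    have h1 : R.nw w * t.1 * (R.nw w)⁻¹ = 1 := congrArg Subtype.val e
    show t.1 = 1
    rw [show t.1 = (R.nw w)⁻¹ * (R.nw w * t.1 * (R.nw w)⁻¹) * R.nw w by group, h1]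
    group))
  have ht'v : R.nw v' * t'.1 * (R.nw v')⁻¹ = t'.1 ^ q := by
    have hτw : mapGroup σ (R.nw w) = R.nw w := map_nw (R := R) (σ := σ) (mapGroup_x mdl _ σ) w
    have h1 : mapGroup σ (R.nw w * g) * (R.nw w * g)⁻¹ = R.nw w * (R.nw v * k) * (R.nw w)⁻¹ := by
      rw [← hn, map_mul, hτw]; group
    have hc : k' * t'.1 * k'⁻¹ = t'.1 := by
      rw [H_commute mdl uGoodE7 hk' t'.2, mul_inv_cancel_right]
    calc R.nw v' * t'.1 * (R.nw v')⁻¹ = R.nw v' * k' * t'.1 * (R.nw v' * k')⁻¹ := by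
          rw [show R.nw v' * k' * t'.1 * (R.nw v' * k')⁻¹ =
            R.nw v' * (k' * t'.1 * k'⁻¹) * (R.nw v')⁻¹ by group, hc]
      _ = R.nw w * (R.nw v * (k * t.1 * k⁻¹) * (R.nw v)⁻¹) * (R.nw w)⁻¹ := by
          rw [← hn', h1]
          show _ * (R.nw w * t.1 * (R.nw w)⁻¹) * _ = _
          group
      _ = R.nw w * t.1 ^ q * (R.nw w)⁻¹ := by
          rw [H_commute mdl uGoodE7 hk t.2, mul_inv_cancel_right, htv]
      _ = t'.1 ^ q := conj_pow.symm
  obtain ⟨ζ', bh', hζ', hQv', hpsi', hb'⟩ := exists_coords mdl uGoodE7 Stb.certE7 TypeE7.wit_ok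
    (fun c => ker_cartT) hr (by omega) v' t' ht'r ht'1 ht'v
  set b' := cartT mdl *ᵥ bh'
  set γ := pw mdl v'.reverse with hγdef
  have hE' : Eig r q b' := ⟨hrq, hW, hb'⟩
  have hγ : IsEig r q b' γ := isEig_of_coords hζ' hQv'
  have hcp : (Pg mdl γ).charpoly = cyclotomic 12 ℤ * (Polynomial.X ^ 3 - C 1) := by
    have e : γ = (pw mdl w) * γ₀ * (pw mdl w)⁻¹ := by
      rw [hγdef, hv', List.reverse_append, List.reverse_append, List.reverse_reverse, pw_append, pw_append]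
      simp only [γ₀, pw_reverse, mul_assoc]
    rw [← hcp₀, e]
    have h1 := charpoly_Pg_conj hG7 hγ₀.1 (inv_mem (show pw mdl w ∈ weyl mdl from prod_mem_weyl mdl _))
    rwa [inv_inv] at h1
  have hbi : (r : ℤ) ∣ b' i₀ := by
    have h1 : psi mdl uGoodE7 t' = mpow (Pg mdl (pw mdl w.reverse)) (psi mdl uGoodE7 t) := psi_conj _ _ w t
    have h2 : psi mdl uGoodE7 t' ^ 2 = mpow (Pg mdl (pw mdl w.reverse)) (psi mdl uGoodE7 t ^ 2) := by
      rw [h1, map_pow]
    rw [hpsi', hpsi, mpow_zpow, mpow_zpow, mpow_zpow] at h2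
    rw [← hζ', orderOf_dvd_iff_zpow_eq_one]
    refine (congrFun h2 i₀).trans (orderOf_dvd_iff_zpow_eq_one.1 ?_)
    rw [hζ, hw, List.reverse_reverse]
    have h3 : (Pg mdl (pw mdl u) *ᵥ b) i₀ = ev mdl b s := by
      rw [← hu, ← pw_apply mdl u]
      rfl
    exact h3 ▸ hs
  -- the orbit of the fundamental root
  set α := mdl.S.simple i₀ with hα
  have hαb : (r : ℤ) ∣ ev mdl b' α := by rw [ev_simple hG7]; exact hbi
  set r₁ := γ α with hr₁
  set r₂ := γ r₁ with hr₂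
  have h3 : γ r₂ = α := by
    refine cf_inj ?_
    rw [hr₂, hr₁, cf_perm hG7 hγ.1, cf_perm hG7 hγ.1, cf_perm hG7 hγ.1, Matrix.vecMul_vecMul,
      Matrix.vecMul_vecMul, ← mul_assoc, ← pow_two, ← pow_succ]
    exact (hγ.cube hE' hαb (Or.inl rfl) hcp).trans (one_smul _ _)
  have o1 : bf mdl (cf mdl r₁) (cf mdl α) = 0 := by
    rw [hr₁, cf_perm hG7 hγ.1]
    exact hγ.orth hE' hαb
  have o2 : bf mdl (cf mdl r₂) (cf mdl α) = 0 := by
    rw [← bf_Pg hG7 symm7 diag7 hγ.1, ← cf_perm hG7 hγ.1, ← cf_perm hG7 hγ.1, h3, ← hr₁,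
      bf_comm symm7]
    exact o1
  have hact : ∀ x : Fin mdl.tab.n, mdl.S.actw v' (γ x) = x := fun x => by
    rw [← pw_apply, hγdef, pw_reverse, Equiv.Perm.coe_inv, Equiv.apply_symm_apply]
  have hneg : ∀ x : Fin mdl.tab.n, bf mdl (cf mdl x) (cf mdl α) = 0 →
      bf mdl (cf mdl (mdl.S.neg x)) (cf mdl α) = 0 := fun x hx => by
    rw [show cf mdl (mdl.S.neg x) = -cf mdl x from funext fun j => cf_neg hG7 x j, bf_neg_left, hx,
      neg_zero]
  obtain ⟨g', k'', hk'', hn''⟩ := exists_switch_twist mdl uGoodE7 Stb.certE7 σ hq2 hσ hQ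
    (R.nw w * g) v' hk' hn' i₀ (r₁ := r₁) (r₂ := r₂) (hact α) (hact r₁)
    (by rw [← hα, ← h3, hact r₂]) (fun x y hx hy a c => by
      refine commute_orth i₀ ?_ hx a c
      rcases hy with rfl | rfl | rfl | rfl
      exacts [o1, hneg _ o1, o2, hneg _ o2])
    (fun c hc => simple_identity i₀ hc)
  -- the new eigenvector
  have hQ2 : mpow (Qw mdl (v' ++ [i₀])) (fun j => ζ' ^ bh' j) = (fun j => ζ' ^ bh' j) ^ q := by
    rw [Qw_append, mpow_mul]
    refine (congrArg (mpow (Qw mdl v')) ?_).trans hQv'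
    rw [Qw, Qw, Matrix.mul_one, mpow_zpow]
    funext j
    simp only [Matrix.sub_mulVec, Matrix.one_mulVec, ← Matrix.mulVec_mulVec, Matrix.mulVec_diagonal,
      Pi.sub_apply]
    rw [_root_.zpow_sub, mul_eq_left, inv_eq_one, ← orderOf_dvd_iff_zpow_eq_one, hζ']
    by_cases hj : j = i₀
    · subst hj
      rw [Pi.single_eq_same, one_mul]
      exact hbi
    · rw [Pi.single_eq_of_ne hj, zero_mul]
      exact dvd_zero _
  have hγ2 := isEig_of_coords hζ' hQ2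
  refine ⟨g', v' ++ [i₀], k'', hk'', hn'', ζ', bh', γ, hζ', hQ2, hE', hγ, hcp, hγ2, ?_, i₀, hbi⟩
  rcases hγ2.cases hE' with e | e
  swap
  · exact e
  exfalso
  have h1 : (Pg mdl (pw mdl (v' ++ [i₀]).reverse)).det = -(Pg mdl γ).det := by
    rw [List.reverse_append, pw_append, Pg_mul hG7 (show pw mdl [i₀].reverse ∈ weyl mdl from
      prod_mem_weyl mdl _), Matrix.det_mul, ← hγdef,
      show pw mdl [i₀].reverse = reflPerm mdl i₀ by simp [pw], det_Pg_refl hG7, diag7]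
    ring
  have e1 := congrArg (Polynomial.eval 0) e
  have e2 := congrArg (Polynomial.eval 0) hcp
  rw [Matrix.eval_charpoly, map_zero, zero_sub, Matrix.det_neg, h1, mul_neg] at e1
  rw [Matrix.eval_charpoly, map_zero, zero_sub, Matrix.det_neg] at e2
  rw [e2, map_one, cyclotomic_twelve] at e1
  simp at e1

end Cfsg.Agent.ChevTori.E7Tor
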