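import Cfsg.Agent.ChevTori.SelfCent
import Cfsg.Agent.ChevTori.RootForm

/-!
Words describing Frobenius twists: conjugation of the twist, coordinates of an eigen element of odd prime
order, and triviality of Weyl elements fixing a dominant vector and its zeros.
-/

set_option autoImplicit false

namespace Cfsg.Agent.ChevTori

open Cfsg.Lie Cfsg.Agent.ChevGroup Cfsg.Agent.ChevCore Cfsg.Agent.ChevFixed Matrix

variable {D : ChevalleyDatum} (T : Model D)

theorem Qw_append : ∀ v w : List (Fin T.tab.l), Qw T (v ++ w) = Qw T v * Qw T w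
  | [], w => by simp [Qw]
  | i :: v, w => by rw [List.cons_append, Qw, Qw, Qw_append v w, Matrix.mul_assoc]

theorem pw_append (v w : List (Fin T.tab.l)) : pw T (v ++ w) = pw T v * pw T w := by
  rw [pw, List.map_append, List.prod_append]; rfl

theorem pw_reverse (v : List (Fin T.tab.l)) : pw T v.reverse = (pw T v)⁻¹ := by
  refine eq_inv_of_mul_eq_one_right (Equiv.ext fun s => ?_)
  rw [Equiv.Perm.mul_apply, pw_apply, pw_apply, T.S.actw_reverse]
  rfl

theorem mpow_zpow {M : Type*} [CommGroup M] {l : ℕ} (A : Matrix (Fin l) (Fin l) ℤ) (x : M)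
    (b : Fin l → ℤ) : mpow A (fun j => x ^ b j) = fun j => x ^ (A *ᵥ b) j := by
  funext j
  simp only [mpow_apply, Matrix.mulVec, dotProduct]
  rw [ChevCore.zpow_sum']
  exact Finset.prod_congr rfl fun k _ => by rw [← _root_.zpow_mul, mul_comm]

variable (hU : UGood D) {F : Type} [Field F]

theorem nw_mul_reverse_mem : ∀ u : List (Fin T.tab.l),
    (rr (F := F) T hU).nw u * (rr T hU).nw u.reverse ∈ (rr T hU).H
  | [] => by simp
  | i :: u => by
    set R := rr (F := F) T hU
    have hn : R.n i * R.n i ∈ R.H := by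
      have h1 : (R.n i)⁻¹ = R.hr (T.S.simple i) (-1) * R.n i := by
        show (R.nr (T.S.simple i) 1)⁻¹ = R.hr (T.S.simple i) (-1) * R.nr (T.S.simple i) 1
        rw [R.nr_inv, R.nr_eq (T.S.simple i) (-1)]
      have h2 : R.n i * R.n i = (R.hr (T.S.simple i) (-1))⁻¹ := by
        refine (inv_eq_of_mul_eq_one_right ?_).symm
        rw [← mul_assoc, ← h1, inv_mul_cancel]
      rw [h2]
      exact inv_mem (R.hr_mem_H (neg_ne_zero.2 one_ne_zero))
    have e1 : R.nw [i] = R.n i := by simp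
    have h := nw_conj_mem_H R [i] (nw_mul_reverse_mem u)
    rw [e1] at h
    have := mul_mem h hn
    rw [List.reverse_cons, R.nw_cons, R.nw_append, e1]
    convert this using 1
    simp only [R]
    group

/-- Conjugating the conjugator of a twist by a monomial element. -/
theorem twist_conj (σ : F →+* F) (g : ↥(D.group F)) (v u : List (Fin T.tab.l)) {k : ↥(D.group F)}
    (hk : k ∈ (rr T hU).H) (hn : mapGroup σ g * g⁻¹ = (rr T hU).nw v * k) :
    ∃ k' ∈ (rr T hU).H, mapGroup σ ((rr T hU).nw u * g) * ((rr T hU).nw u * g)⁻¹ =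
      (rr T hU).nw (u ++ v ++ u.reverse) * k' := by
  set R := rr (F := F) T hU
  have hτ : mapGroup σ (R.nw u) = R.nw u := map_nw (R := R) (σ := σ) (mapGroup_x T _ σ) u
  refine ⟨(R.nw u.reverse)⁻¹ * k * R.nw u.reverse * (R.nw u * R.nw u.reverse)⁻¹,
    mul_mem (R.nw_inv_conj_mem_H _ hk) (inv_mem (nw_mul_reverse_mem T hU u)), ?_⟩
  calc mapGroup σ (R.nw u * g) * (R.nw u * g)⁻¹ = R.nw u * (mapGroup σ g * g⁻¹) * (R.nw u)⁻¹ := by
        rw [map_mul, hτ]; group
    _ = _ := by rw [hn, R.nw_append, R.nw_append]; group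

/-- Commuting root subgroups. -/
theorem commute_x (hD : Stb.Cert D) {r s : Fin T.tab.n} (he : D.commTerms r.val s.val = [])
    (h1 : s.val ≠ r.val) (h2 : s.val ≠ D.neg r.val) (a b : F) :
    Commute ((rr T hU).x r a) ((rr T hU).x s b) := by
  have h := Stb.xb_comm (K := F) (T.lt r) (T.lt s) h1 h2 a b
  rw [show D.commWord F r.val s.val a b = [] by simp [ChevalleyDatum.commWord, he]] at h
  have h3 := congrArg (Stb.th hU.toCommGood) h
  have hx : ∀ (t : Fin T.tab.n) (c : F), Stb.th hU.toCommGood (Stb.xb D F t.val c) = (rr T hU).x t c :=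
    fun t c => Stb.th_x T hD hU.toCommGood t c
  simp only [map_mul, map_inv, hx, Stb.wordB, List.map_nil, List.prod_nil, map_one] at h3
  show _ * _ = _ * _
  exact inv_mul_eq_one.1 (by rw [← h3]; group)

variable [Fintype F]

/-- Coordinates in Steinberg's torus of an eigen element of odd prime order. -/
theorem exists_coords (hD : Stb.Cert D) {wit : List (List (Fin T.tab.l) × Fin T.tab.l)}
    (hwit : T.witB wit = true)
    (hker : ∀ c : Fin T.tab.l → Fˣ, mpow (cartT T) c = 1 → c ^ 2 = 1) {r q : ℕ} (hr : r.Prime)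
    (hr2 : r ≠ 2) (v : List (Fin T.tab.l)) (t : ↥(rr (F := F) T hU).H) (htr : t ^ r = 1) (ht : t ≠ 1)
    (hv : (rr T hU).nw v * t.1 * ((rr T hU).nw v)⁻¹ = t.1 ^ q) :
    ∃ (ζ : Fˣ) (bh : Fin T.tab.l → ℤ), orderOf ζ = r ∧
      mpow (Qw T v) (fun j => ζ ^ bh j) = (fun j => ζ ^ bh j) ^ q ∧
      psi T hU t ^ 2 = mpow (cartT T) (fun j => ζ ^ bh j) ∧
      ∃ j, ¬ (r : ℤ) ∣ (cartT T *ᵥ bh) j := by
  classical
  have hG : ChevCore.Good D := hU.toCommGood.toGood
  haveI := Fact.mk hr
  obtain ⟨gh, hgh⟩ := Stb.th_surjective (K := F) hU.toCommGood t.1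
  obtain ⟨c, hc⟩ := exists_psil T hD hU hwit (s := gh) (hgh ▸ t.2)
  have hpsi : psi T hU t = mpow (cartT T) c := by
    rw [← psi_th_psil T hD hU]
    congr 1
    exact Subtype.ext (show t.1 = Stb.th _ (psil T hD c) by rw [← hc, hgh])
  obtain ⟨c₀, hc₀⟩ : ∃ x, x = c ^ 2 := ⟨_, rfl⟩
  have hc₀C : mpow (cartT T) c₀ = psi T hU t ^ 2 := by rw [hc₀, map_pow, ← hpsi]
  have hc₀r : c₀ ^ r = 1 := by
    rw [hc₀, ← pow_mul, mul_comm, pow_mul]
    exact hker _ (by rw [map_pow, ← hpsi, ← map_pow, htr, map_one])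
  have hne : psi T hU t ^ 2 ≠ 1 := by
    intro e
    rw [← map_pow] at e
    have e2 : t ^ 2 = 1 := psi_injective T hU (by rw [e, map_one])
    have h2 := orderOf_dvd_of_pow_eq_one e2
    rw [orderOf_eq_prime htr ht] at h2
    exact hr2 ((Nat.prime_dvd_prime_iff_eq hr Nat.prime_two).1 h2)
  have hQ : mpow (Qw T v) c₀ = c₀ ^ q := by
    set d := mpow (Qw T v) c₀ * (c₀ ^ q)⁻¹
    have h1 : mpow (cartT T) d = 1 := by
      have e : psi T hU ⟨(rr T hU).nw v * t.1 * ((rr T hU).nw v)⁻¹, nw_conj_mem_H _ v t.2⟩ =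
          psi T hU t ^ q := by
        rw [← map_pow]
        exact congrArg _ (Subtype.ext hv)
      rw [psi_conj] at e
      rw [map_mul, map_inv, map_pow, ← mpow_mul, cartT_mul_Qw T hG, mpow_mul, hc₀C, map_pow, e,
        ← pow_mul, ← pow_mul, mul_comm q 2, mul_inv_cancel]
    have h2 : d ^ r = 1 := by
      rw [mul_pow, inv_pow, ← map_pow, hc₀r, map_one, one_mul, ← pow_mul, mul_comm, pow_mul, hc₀r,
        one_pow, inv_one]
    have h3 : d ^ Nat.gcd 2 r = 1 := pow_gcd_eq_one.2 ⟨hker d h1, h2⟩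
    rw [(Nat.coprime_primes Nat.prime_two hr).2 hr2.symm, pow_one] at h3
    exact mul_inv_eq_one.1 h3
  obtain ⟨j₀, hj₀⟩ : ∃ j, c₀ j ≠ 1 := by
    by_contra hall
    push Not at hall
    exact hne (by rw [← hc₀C, show c₀ = 1 from funext hall, map_one])
  set ζ := c₀ j₀
  have hζ : orderOf ζ = r := orderOf_eq_prime (congrFun hc₀r j₀) hj₀
  choose bh hbh using fun j => Subgroup.mem_zpowers_iff.1
    (mem_zpowers_of_pow_eq_one hr hζ (congrFun hc₀r j))
  have e0 : (fun j => ζ ^ bh j) = c₀ := funext hbh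
  refine ⟨ζ, bh, hζ, by rw [e0, hQ], by rw [e0, hc₀C], ?_⟩
  by_contra hall
  push Not at hall
  refine hne ?_
  rw [← hc₀C, ← e0, mpow_zpow]
  funext j
  exact orderOf_dvd_iff_zpow_eq_one.1 (hζ ▸ hall j)

omit [Fintype F] in
theorem exists_dominant (hG : ChevCore.Good D) (a : Fin T.tab.l → ℤ) :
    ∃ u ∈ weyl T, ∀ i, 0 ≤ ev T a (u (T.S.simple i)) := by
  classical
  let cnt : weyl T → ℕ := fun u =>
    (Finset.univ.filter fun s => T.S.pos s ∧ ev T a (u.1 s) < 0).card
  obtain ⟨u, -, hu⟩ := Finset.exists_min_image (Finset.univ : Finset (weyl T)) cnt Finset.univ_nonempty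
  refine ⟨u.1, u.2, fun i => ?_⟩
  by_contra hi
  push Not at hi
  have hle := hu ⟨u.1 * reflPerm T i, mul_mem u.2 (reflPerm_mem T i)⟩ (Finset.mem_univ _)
  have hlt : cnt ⟨u.1 * reflPerm T i, mul_mem u.2 (reflPerm_mem T i)⟩ < cnt u := by
    refine lt_of_le_of_lt (Finset.card_le_card (t := ((Finset.univ.filter fun s =>
      T.S.pos s ∧ ev T a (u.1 s) < 0).erase (T.S.simple i)).image (T.S.refl i)) ?_) ?_
    · intro t ht
      replace ht := (Finset.mem_filter.1 ht).2
      change T.S.pos t ∧ ev T a (u.1 (T.S.refl i t)) < 0 at ht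
      have hne : t ≠ T.S.simple i := by
        rintro rfl
        rw [T.S.refl_simple, ev_neg hG _ u.2] at ht
        omega
      refine Finset.mem_image.2 ⟨T.S.refl i t, Finset.mem_erase.2 ⟨?_, ?_⟩, T.S.refl_refl i t⟩
      · intro e
        have := congrArg (T.S.refl i) e
        rw [T.S.refl_refl, T.S.refl_simple] at this
        exact T.S.not_pos_neg _ (T.S.simple_pos i) (this ▸ ht.1)
      · simp only [Finset.mem_filter, Finset.mem_univ, true_and]
        exact ⟨T.S.refl_pos i t ht.1 hne, ht.2⟩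
    · refine lt_of_le_of_lt Finset.card_image_le (Finset.card_erase_lt_of_mem ?_)
      simp only [Finset.mem_filter, Finset.mem_univ, true_and]
      exact ⟨T.S.simple_pos i, hi⟩
  omega

omit [Fintype F] in
/-- A Weyl element fixing a vector and every root vanishing on it is trivial. -/
theorem eq_one_of_fix_zeros (hG : ChevCore.Good D)
    (hfix : ∀ x ∈ weyl T, (∀ s, T.S.pos s → T.S.pos (x s)) → x = 1) (a : Fin T.tab.l → ℤ)
    {w : Equiv.Perm (Fin T.tab.n)} (hw : w ∈ weyl T) (hwa : ∀ s, ev T a (w s) = ev T a s)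
    (hw0 : ∀ s, ev T a s = 0 → w s = s) : w = 1 := by
  obtain ⟨u, hu, hdom⟩ := exists_dominant T hG a
  set a' := Pg T u *ᵥ a
  have hev : ∀ t, ev T a' t = ev T a (u t) := fun t => (ev_weyl' hG hu a t).symm
  set w' := u⁻¹ * w * u with hw'
  have hw'm : w' ∈ weyl T := mul_mem (mul_mem (inv_mem hu) hw) hu
  have ha' : ∀ i, a' i = ev T a (u (T.S.simple i)) := fun i => by rw [← hev, ev_simple hG]
  have hz := mem_weylS_zeros hG hfix (S := Set.univ) (a := a') (fun i _ => (ha' i).symm ▸ hdom i)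
    ((weylS_univ T).symm ▸ hw'm) (fun t => by
      rw [hev, hev, hw', Equiv.Perm.mul_apply, Equiv.Perm.mul_apply, Equiv.Perm.coe_inv,
        Equiv.apply_symm_apply, hwa])
  have hsimp : ∀ i, T.S.pos (w' (T.S.simple i)) := by
    intro i
    by_cases hi : a' i = 0
    · rw [hw', Equiv.Perm.mul_apply, Equiv.Perm.mul_apply, hw0 _ (by rw [← ha', hi]),
        Equiv.Perm.coe_inv, Equiv.symm_apply_apply]
      exact T.S.simple_pos i
    · by_contra hneg
      have h2 := cf_nonpos hG hneg i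
      rw [show cf T (w' (T.S.simple i)) i = Pg T w' i i from rfl,
        Pg_col hG hz i (fun h => hi h.2), if_pos rfl] at h2
      omega
  have h1 := hfix w' hw'm fun s hs => (pos_iff_ev hG _).2 (by
    have h0 : 0 ≤ ev T (1 : Fin T.tab.l → ℤ) (w' s) := by
      rw [ev_weyl hG hw'm]
      exact Finset.sum_nonneg fun j _ =>
        mul_nonneg (cf_nonneg hG hs j) ((pos_iff_ev hG _).1 (hsimp j)).le
    refine lt_of_le_of_ne h0 fun e => hG.ht_ne_zero (T.lt (w' s)) ?_
    rw [← ev_one_eq_ht hG, ← e])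
  rw [hw', mul_assoc, inv_mul_eq_one] at h1
  exact mul_right_cancel ((one_mul u).trans h1).symm

end Cfsg.Agent.ChevTori
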